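/-
The decomposition of an element into its p-part and p'-part, and the congruence between the
values of a character at an element and at its p'-part.
-/
import Cfsg.Agent.Lib.Blocks.LocalRing
import Cfsg.Agent.Lib.Chars.Basic

set_option autoImplicit false
set_option linter.style.haveILetI false
set_option linter.unusedSectionVars false

namespace CfsgLib.BlockOrth

open Cfsg

universe u

variable {G : Type u} [Group G] {p : ℕ}

/-- `y` is the `p'`-part of `g`. -/
def IsPPrimePart (p : ℕ) (g y : G) : Prop :=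
  ∃ u : G, u * y = g ∧ Commute u y ∧ (∃ k, orderOf u = p ^ k) ∧ ¬ p ∣ orderOf y

theorem isPPrimePart_of_isPPart {g u : G} (h : IsPPart p g u) : IsPPrimePart p g (u⁻¹ * g) := by
  obtain ⟨y, h1, h2, h3, h4⟩ := h
  have : u⁻¹ * g = y := by rw [← h1, inv_mul_cancel_left]
  rw [this]
  exact ⟨u, h1, h2, h3, h4⟩

theorem IsPPrimePart.isPPart {g y : G} (h : IsPPrimePart p g y) : IsPPart p g (g * y⁻¹) := by
  obtain ⟨u, h1, h2, h3, h4⟩ := h
  have : g * y⁻¹ = u := by rw [← h1, mul_inv_cancel_right]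
  rw [this]
  exact ⟨y, h1, h2, h3, h4⟩

theorem IsPPrimePart.map {H : Type*} [Group H] (f : G →* H) (hf : Function.Injective f) {g y : G}
    (h : IsPPrimePart p g y) : IsPPrimePart p (f g) (f y) := by
  obtain ⟨u, h1, h2, ⟨k, h3⟩, h4⟩ := h
  refine ⟨f u, by rw [← map_mul, h1], h2.map f, ⟨k, ?_⟩, ?_⟩
  · rw [orderOf_injective f hf, h3]
  · rwa [orderOf_injective f hf]

theorem IsPPrimePart.conj {g y : G} (h : IsPPrimePart p g y) (c : G) :
    IsPPrimePart p (c * g * c⁻¹) (c * y * c⁻¹) :=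
  h.map (MulAut.conj c).toMonoidHom (MulAut.conj c).injective

section Prime

variable [hp : Fact p.Prime]

/-- The `p'`-part of an element is one of its powers. -/
theorem IsPPrimePart.exists_pow {g y : G} (h : IsPPrimePart p g y) : ∃ n : ℕ, g ^ n = y := by
  obtain ⟨u, h1, h2, ⟨k, h3⟩, h4⟩ := h
  have hc : Nat.Coprime (p ^ k) (orderOf y) :=
    Nat.Coprime.pow_left k (hp.out.coprime_iff_not_dvd.mpr h4)
  obtain ⟨n, hn1, hn2⟩ := Nat.chineseRemainder hc 0 1
  refine ⟨n, ?_⟩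
  have e1 : u ^ n = 1 := by
    apply orderOf_dvd_iff_pow_eq_one.mp
    rw [h3]
    exact Nat.modEq_zero_iff_dvd.mp hn1
  have e2 : y ^ n = y := by
    rw [← pow_one y, ← pow_mul, one_mul, pow_eq_pow_iff_modEq]
    exact hn2
  rw [← h1, h2.mul_pow, e1, e2, one_mul]

theorem IsPPrimePart.unique {g y y' : G} (h : IsPPrimePart p g y) (h' : IsPPrimePart p g y') :
    y = y' := by
  obtain ⟨n, hn⟩ := h.exists_pow
  obtain ⟨m, hm⟩ := h'.exists_pow
  obtain ⟨u, h1, h2, ⟨k, h3⟩, h4⟩ := h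
  obtain ⟨u', h1', h2', ⟨k', h3'⟩, h4'⟩ := h'
  set q := p ^ (k + k') with hq
  have eu : u ^ q = 1 := orderOf_dvd_iff_pow_eq_one.mp (h3 ▸ pow_dvd_pow p (Nat.le_add_right k k'))
  have eu' : u' ^ q = 1 :=
    orderOf_dvd_iff_pow_eq_one.mp (h3' ▸ pow_dvd_pow p (Nat.le_add_left k' k))
  have e1 : g ^ q = y ^ q := by rw [← h1, h2.mul_pow, eu, one_mul]
  have e2 : g ^ q = y' ^ q := by rw [← h1', h2'.mul_pow, eu', one_mul]
  set o := orderOf y * orderOf y' with ho
  have hco : Nat.Coprime q o :=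
    Nat.Coprime.pow_left _ (hp.out.coprime_iff_not_dvd.mpr
      (fun hd => (hp.out.dvd_mul.mp hd).elim h4 h4'))
  obtain ⟨r, hr1, hr2⟩ := Nat.chineseRemainder hco 0 1
  obtain ⟨c, hc⟩ := Nat.modEq_zero_iff_dvd.mp hr1
  have ey : y ^ r = y := by
    conv_rhs => rw [← pow_one y]
    rw [pow_eq_pow_iff_modEq]
    exact hr2.of_mul_right _
  have ey' : y' ^ r = y' := by
    conv_rhs => rw [← pow_one y']
    rw [pow_eq_pow_iff_modEq]
    exact hr2.of_mul_left _
  rw [← ey, ← ey', hc, pow_mul, pow_mul, ← e1, ← e2]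

variable [Finite G]

theorem exists_isPPrimePart (g : G) : ∃ y, IsPPrimePart p g y := by
  obtain ⟨k, m, hm, hkm⟩ :=
    Nat.exists_eq_pow_mul_and_not_dvd (orderOf_pos g).ne' p hp.out.ne_one
  have hc : Nat.Coprime (p ^ k) m := Nat.Coprime.pow_left k (hp.out.coprime_iff_not_dvd.mpr hm)
  obtain ⟨n, hn1, hn2⟩ := Nat.chineseRemainder hc 0 1
  obtain ⟨n', hn1', hn2'⟩ := Nat.chineseRemainder hc 1 0
  refine ⟨g ^ n, g ^ n', ?_, Commute.pow_pow_self g n' n, ?_, ?_⟩
  · rw [← pow_add]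
    conv_rhs => rw [← pow_one g]
    rw [pow_eq_pow_iff_modEq, hkm, ← Nat.modEq_and_modEq_iff_modEq_mul hc]
    exact ⟨by simpa using hn1'.add hn1, by simpa using hn2'.add hn2⟩
  · have hd : orderOf (g ^ n') ∣ p ^ k := by
      rw [orderOf_dvd_iff_pow_eq_one, ← pow_mul, ← orderOf_dvd_iff_pow_eq_one, hkm, mul_comm]
      exact mul_dvd_mul (Nat.modEq_zero_iff_dvd.mp hn2') dvd_rfl
    obtain ⟨i, -, hi⟩ := (Nat.dvd_prime_pow hp.out).mp hd
    exact ⟨i, hi⟩
  · intro hd
    have : orderOf (g ^ n) ∣ m := by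
      rw [orderOf_dvd_iff_pow_eq_one, ← pow_mul, ← orderOf_dvd_iff_pow_eq_one, hkm]
      exact mul_dvd_mul (Nat.modEq_zero_iff_dvd.mp hn1) dvd_rfl
    exact hm (hd.trans this)

/-- The `p'`-part of `g`, as a function. -/
noncomputable def pPrimePart (p : ℕ) [Fact p.Prime] (g : G) : G :=
  (exists_isPPrimePart (p := p) g).choose

theorem isPPrimePart_pPrimePart (g : G) : IsPPrimePart p g (pPrimePart p g) :=
  (exists_isPPrimePart (p := p) g).choose_spec

theorem IsPPrimePart.eq_pPrimePart {g y : G} (h : IsPPrimePart p g y) : pPrimePart p g = y :=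
  (isPPrimePart_pPrimePart g).unique h

theorem not_dvd_orderOf_pPrimePart (g : G) : ¬ p ∣ orderOf (pPrimePart p g) := by
  obtain ⟨u, -, -, -, h⟩ := isPPrimePart_pPrimePart (p := p) g
  exact h

theorem pPrimePart_of_regular {g : G} (hg : ¬ p ∣ orderOf g) : pPrimePart p g = g :=
  IsPPrimePart.eq_pPrimePart ⟨1, one_mul g, Commute.one_left g, ⟨0, by simp⟩, hg⟩

theorem pPrimePart_idem (g : G) : pPrimePart p (pPrimePart p g) = pPrimePart p g :=
  pPrimePart_of_regular (not_dvd_orderOf_pPrimePart g)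

theorem pPrimePart_conj (c g : G) : pPrimePart p (c * g * c⁻¹) = c * pPrimePart p g * c⁻¹ :=
  ((isPPrimePart_pPrimePart g).conj c).eq_pPrimePart

theorem isConj_pPrimePart {g h : G} (hgh : IsConj g h) :
    IsConj (pPrimePart p g) (pPrimePart p h) := by
  obtain ⟨c, rfl⟩ := isConj_iff.mp hgh
  exact isConj_iff.mpr ⟨c, (pPrimePart_conj c g).symm⟩

theorem pPrimePart_mul {u y : G} (h : Commute u y) (hu : ∃ k, orderOf u = p ^ k)
    (hy : ¬ p ∣ orderOf y) : pPrimePart p (u * y) = y :=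
  IsPPrimePart.eq_pPrimePart ⟨u, rfl, h, hu, hy⟩

end Prime

section Congruence

open CfsgLib.Blocks

variable {M : Ideal AlgInt} [M.IsPrime]

/-- Equal `p ^ n`-th powers of local integers are congruent. -/
theorem memLocalIdeal_sub_of_pow_eq (hp : p.Prime) (hpM : (p : AlgInt) ∈ M) {a b : ℂ}
    (ha : a ∈ loc M) (hb : b ∈ loc M) {n : ℕ} (h : a ^ (p ^ n) = b ^ (p ^ n)) :
    MemLocalIdeal M (a - b) := by
  haveI := charP_residueField (M := M) hp hpM
  haveI : Fact p.Prime := ⟨hp⟩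
  have h2 : (⟨a, ha⟩ : loc M) ^ (p ^ n) = (⟨b, hb⟩ : loc M) ^ (p ^ n) := Subtype.ext (by simpa using h)
  have h1 := congrArg (red (M := M)) h2
  rw [map_pow, map_pow] at h1
  have h3 : red (M := M) ⟨a, ha⟩ = red (M := M) ⟨b, hb⟩ := by
    apply iterateFrobenius_inj (IsLocalRing.ResidueField (loc M)) p n
    simpa [iterateFrobenius_def] using h1
  exact red_eq_zero_iff.mp (show red (M := M) (⟨a, ha⟩ - ⟨b, hb⟩ : loc M) = 0 by
    rw [map_sub, h3, sub_self])

variable [Finite G] [Fact p.Prime]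

/-- A character takes congruent values at an element and at its `p'`-part. -/
theorem memLocalIdeal_char_sub (hpM : (p : AlgInt) ∈ M) {χ : G → ℂ} (hχ : IsCharacter G χ)
    (g : G) : MemLocalIdeal M (χ g - χ (pPrimePart p g)) := by
  obtain ⟨d, ρ, rfl⟩ := hχ
  obtain ⟨b, μ, hμ, -, hb, -, htr, -⟩ := CfsgLib.Chars.exists_eigenbasis_rep ρ g
  obtain ⟨n, hn⟩ := (isPPrimePart_pPrimePart (p := p) g).exists_pow
  have hb' : ∀ m i, ρ (g ^ m) (b i) = μ i ^ m • b i := by
    intro m i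
    induction m with
    | zero => simp
    | succ m ih =>
      rw [pow_succ', map_mul, Module.End.mul_apply, ih, map_smul, hb, smul_smul, pow_succ]
  have htr' : ρ.character (pPrimePart p g) = ∑ i, μ i ^ n := by
    rw [← hn]
    exact CfsgLib.Chars.trace_eq_sum_of_eigenbasis _ b _ (hb' n)
  rw [htr, htr', ← Finset.sum_sub_distrib]
  refine MemLocalIdeal.sum' fun i _ => ?_
  obtain ⟨u, h1, h2, ⟨k, h3⟩, -⟩ := isPPrimePart_pPrimePart (p := p) g
  have hpow : μ i ^ (p ^ k) = (μ i ^ n) ^ (p ^ k) := by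
    have e : g ^ (p ^ k) = g ^ (n * p ^ k) := by
      rw [pow_mul, hn]
      conv_lhs => rw [← h1, h2.mul_pow, ← h3, pow_orderOf_eq_one, one_mul]
      rw [h3]
    have h5 : μ i ^ (p ^ k) • b i = μ i ^ (n * p ^ k) • b i := by
      rw [← hb', ← hb', e]
    rw [← pow_mul]
    exact smul_left_injective ℂ (b.ne_zero i) h5
  have hint : IsIntegral ℤ (μ i) := by
    refine IsIntegral.of_pow (orderOf_pos g) ?_
    rw [hμ i]
    exact isIntegral_one
  exact memLocalIdeal_sub_of_pow_eq Fact.out hpM (isIntegral_mem_loc hint)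
    (isIntegral_mem_loc (hint.pow n)) hpow

end Congruence

end CfsgLib.BlockOrth
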