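/-
Class functions in the span of the irreducible characters over a subring of `ℂ`, and the
indicator functions of `p`-sections in that span over the local ring at `M`.
-/
import Cfsg.Agent.Lib.BlockOrth.PPart
import Cfsg.Agent.Lib.Chars.Irr

set_option autoImplicit false
set_option linter.style.haveILetI false
set_option linter.unusedSectionVars false

namespace CfsgLib.BlockOrth

open Cfsg CfsgLib.Chars Finset
open scoped ComplexConjugate

universe u

variable {G : Type u} [Group G] [Fintype G]

/-- `f` is a combination of irreducible characters with coefficients in `R`. -/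
def InCharSpan (R : Subring ℂ) (f : G → ℂ) : Prop :=
  IsClassFunction G f ∧ ∀ χ : IrrCharacter G, classInner f (χ : G → ℂ) ∈ R

namespace InCharSpan

variable {R : Subring ℂ} {f f' : G → ℂ}

theorem isClassFunction (h : InCharSpan R f) : IsClassFunction G f := h.1

theorem of_isCharacter (hf : IsCharacter G f) : InCharSpan R f :=
  ⟨isClassFunction_of_isCharacter hf, fun χ => by
    obtain ⟨m, hm⟩ := inner_char_nat hf (isCharacter_of_irr χ.2)
    rw [hm]
    exact natCast_mem R m⟩

theorem add (h : InCharSpan R f) (h' : InCharSpan R f') : InCharSpan R (f + f') :=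
  ⟨isClassFunction_add h.1 h'.1, fun χ => by
    rw [Chars.inner_add_left]; exact add_mem (h.2 χ) (h'.2 χ)⟩

theorem sub (h : InCharSpan R f) (h' : InCharSpan R f') : InCharSpan R (f - f') :=
  ⟨isClassFunction_sub h.1 h'.1, fun χ => by
    rw [Chars.inner_sub_left]; exact sub_mem (h.2 χ) (h'.2 χ)⟩

theorem smul (h : InCharSpan R f) {c : ℂ} (hc : c ∈ R) : InCharSpan R (c • f) :=
  ⟨isClassFunction_smul c h.1, fun χ => by
    rw [Chars.inner_smul_left]; exact mul_mem hc (h.2 χ)⟩

theorem zero : InCharSpan R (0 : G → ℂ) :=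
  ⟨isClassFunction_zero, fun χ => by rw [Chars.inner_zero_left]; exact zero_mem R⟩

theorem sum {ι : Type*} {s : Finset ι} {F : ι → G → ℂ} (h : ∀ i ∈ s, InCharSpan R (F i)) :
    InCharSpan R (∑ i ∈ s, F i) :=
  Finset.sum_induction F (InCharSpan R) (fun _ _ => add) zero h

theorem one : InCharSpan R (1 : G → ℂ) := by
  refine of_isCharacter ?_
  have h := isCharacter_character (G := G) (Representation.trivial ℂ G ℂ)
  convert h using 1
  funext g
  simp [Representation.character]

theorem mul (h : InCharSpan R f) (h' : InCharSpan R f') : InCharSpan R (f * f') := by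
  haveI := irrFintype G
  have e : f * f' = ∑ χ : IrrCharacter G, ∑ ψ : IrrCharacter G,
      (classInner f χ * classInner f' ψ) • ((χ : G → ℂ) * (ψ : G → ℂ)) := by
    conv_lhs => rw [classFun_eq_sum h.1, classFun_eq_sum h'.1, Finset.sum_mul_sum]
    exact Finset.sum_congr rfl fun χ _ => Finset.sum_congr rfl fun ψ _ => smul_mul_smul_comm _ _ _ _
  rw [e]
  refine sum fun χ _ => sum fun ψ _ => smul (of_isCharacter ?_) (mul_mem (h.2 χ) (h'.2 ψ))
  obtain ⟨n, ρ, hρ⟩ := isCharacter_of_irr χ.2
  obtain ⟨m, σ, hσ⟩ := isCharacter_of_irr ψ.2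
  rw [← hρ, ← hσ, ← Representation.char_tensor]
  exact isCharacter_character _

theorem prod {ι : Type*} {s : Finset ι} {F : ι → G → ℂ} (h : ∀ i ∈ s, InCharSpan R (F i)) :
    InCharSpan R (∏ i ∈ s, F i) :=
  Finset.prod_induction F (InCharSpan R) (fun _ _ => mul) one h

theorem eq_sum [Fintype (IrrCharacter G)] (h : InCharSpan R f) (g : G) :
    f g = ∑ χ : IrrCharacter G, classInner f χ * (χ : G → ℂ) g := by
  conv_lhs => rw [classFun_eq_sum h.1]
  simp [Finset.sum_apply]

theorem mono {R' : Subring ℂ} (hR : R ≤ R') (h : InCharSpan R f) : InCharSpan R' f :=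
  ⟨h.1, fun χ => hR (h.2 χ)⟩

section Local

open CfsgLib.Blocks

variable {M : Ideal AlgInt} [M.IsPrime] {p : ℕ} [Fact p.Prime]

theorem apply_mem_loc (h : InCharSpan (loc M) f) (g : G) : f g ∈ loc M := by
  haveI := irrFintype G
  rw [h.eq_sum g]
  exact sum_mem fun χ _ =>
    mul_mem (h.2 χ) (isIntegral_mem_loc (char_isIntegral (isCharacter_of_irr χ.2) g))

theorem memLocalIdeal_sub (hpM : (p : AlgInt) ∈ M) (h : InCharSpan (loc M) f) (g : G) :
    MemLocalIdeal M (f g - f (pPrimePart p g)) := by
  haveI := irrFintype G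
  rw [h.eq_sum g, h.eq_sum (pPrimePart p g), ← Finset.sum_sub_distrib]
  refine MemLocalIdeal.sum' fun χ _ => ?_
  rw [← mul_sub]
  exact MemLocalIdeal.mul_left' (h.2 χ)
    (memLocalIdeal_char_sub hpM (isCharacter_of_irr χ.2) g)

end Local

end InCharSpan

/-- The average of a character over a coset `s P`, `P` centralised by `s`, is an algebraic
integer. -/
theorem isIntegral_avg_coset {χ : G → ℂ} (hχ : IsCharacter G χ) (P : Subgroup G) [Fintype P]
    (s : G) (hs : ∀ u ∈ P, s * u = u * s) :
    IsIntegral ℤ ((Nat.card P : ℂ)⁻¹ * ∑ u : P, χ (s * u)) := by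
  obtain ⟨d, ρ, rfl⟩ := hχ
  let σ : Representation ℂ P (Fin d → ℂ) := ρ.comp P.subtype
  haveI := invertibleCard P
  haveI : Invertible (Fintype.card P : ℂ) := invertibleOfNonzero (by simp)
  let U : Submodule ℂ (Fin d → ℂ) := σ.invariants
  have hU : ∀ g : Subgroup.zpowers s, ∀ v ∈ U, ρ g v ∈ U := by
    rintro ⟨g, hg⟩ v hv u
    obtain ⟨k, rfl⟩ := Subgroup.mem_zpowers_iff.mp hg
    show ρ (u : G) (ρ (s ^ k) v) = ρ (s ^ k) v
    have hc : Commute (u : G) (s ^ k) := Commute.zpow_right (hs u u.2).symm k
    rw [← Module.End.mul_apply, ← map_mul, hc.eq, map_mul, Module.End.mul_apply]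
    exact congrArg _ (hv u)
  let τ : Representation ℂ (Subgroup.zpowers s) U :=
    { toFun := fun g => (ρ g).restrict (hU g)
      map_one' := by ext; simp
      map_mul' := fun a b => by ext; simp }
  have key : (Nat.card P : ℂ)⁻¹ * ∑ u : P, ρ.character (s * u) =
      τ.character ⟨s, Subgroup.mem_zpowers s⟩ := by
    set A : Module.End ℂ (Fin d → ℂ) := (Nat.card P : ℂ)⁻¹ • ∑ u : P, σ u with hA
    have hAmem : ∀ v, A v ∈ U := by
      intro v w
      show σ w (A v) = A v
      rw [hA]
      simp only [LinearMap.smul_apply, LinearMap.sum_apply, map_smul, map_sum]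
      congr 1
      refine Fintype.sum_equiv (Equiv.mulLeft w) _ _ fun u => ?_
      simp
    have hAfix : ∀ v ∈ U, A v = v := by
      intro v hv
      have hv' : ∀ u : P, σ u v = v := hv
      rw [hA, LinearMap.smul_apply, LinearMap.sum_apply, Finset.sum_congr rfl fun u _ => hv' u,
        Finset.sum_const, Finset.card_univ, ← Nat.card_eq_fintype_card,
        ← Nat.cast_smul_eq_nsmul ℂ, smul_smul, inv_mul_cancel₀, one_smul]
      exact Nat.cast_ne_zero.mpr Nat.card_pos.ne'
    have h1 : (Nat.card P : ℂ)⁻¹ * ∑ u : P, ρ.character (s * u) =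
        LinearMap.trace ℂ _ (ρ s * A) := by
      simp only [hA, Algebra.mul_smul_comm, Finset.mul_sum, map_smul, map_sum, smul_eq_mul]
      refine congrArg _ ?_
      simp only [Representation.character, σ, MonoidHom.coe_comp, Subgroup.coe_subtype,
        Function.comp_apply, map_mul]
    have hmem : ∀ v, (ρ s * A) v ∈ U := fun v =>
      hU ⟨s, Subgroup.mem_zpowers s⟩ _ (hAmem v)
    rw [h1, ← LinearMap.trace_restrict_eq_of_forall_mem U _ hmem]
    congr 1
    ext v : 1
    apply Subtype.ext
    show (ρ s * A) (v : Fin d → ℂ) = ρ s (v : Fin d → ℂ)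
    rw [Module.End.mul_apply, hAfix _ v.2]
  rw [key]
  exact isIntegral_character τ _

variable {M : Ideal AlgInt} [M.IsPrime] {p : ℕ} [hp : Fact p.Prime]

open CfsgLib.Blocks

/-- For a `p`-regular `s` there is a combination of irreducible characters over the local ring
supported on the `p`-section of `s`, with unit value at `s`. -/
theorem exists_inCharSpan_section (hpM : (p : AlgInt) ∈ M) (s : G) (hs : ¬ p ∣ orderOf s) :
    ∃ f : G → ℂ, InCharSpan (loc M) f ∧ ¬ MemLocalIdeal M (f s) ∧
      ∀ z, ¬ IsConj s (pPrimePart p z) → f z = 0 := by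
  classical
  obtain ⟨P⟩ : Nonempty (Sylow p (Subgroup.centralizer ({s} : Set G))) := inferInstance
  set Q : Subgroup G :=
    (P : Subgroup (Subgroup.centralizer ({s} : Set G))).map
      (Subgroup.centralizer ({s} : Set G)).subtype with hQ
  have hQs : ∀ u ∈ Q, s * u = u * s := by
    intro u hu
    obtain ⟨v, -, rfl⟩ := Subgroup.mem_map.mp hu
    exact Subgroup.mem_centralizer_iff.mp v.2 s rfl
  have hQp : IsPGroup p Q := P.isPGroup'.map _
  have hQcard : Nat.card Q = Nat.card (P : Subgroup (Subgroup.centralizer ({s} : Set G))) :=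
    Subgroup.card_map_of_injective (Subgroup.subtype_injective _)
  have hQord : ∀ u ∈ Q, ∃ k, orderOf u = p ^ k := by
    intro u hu
    obtain ⟨k, hk⟩ := hQp.exists_orderOf_eq_pow (g := (⟨u, hu⟩ : Q))
    exact ⟨k, by rwa [Subgroup.orderOf_mk] at hk⟩
  let f : G → ℂ := fun z => (Nat.card Q : ℂ)⁻¹ *
    ∑ g : G, ∑ u : Q, if g * (s * u) * g⁻¹ = z then (1 : ℂ) else 0
  have hfc : IsClassFunction G f := by
    intro z h
    simp only [f]
    congr 1
    refine Fintype.sum_equiv (Equiv.mulLeft h⁻¹) _ _ fun g => ?_
    refine Finset.sum_congr rfl fun u _ => ?_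
    have : g * (s * u) * g⁻¹ = h * z * h⁻¹ ↔
        (h⁻¹ * g) * (s * u) * (h⁻¹ * g)⁻¹ = z := by
      rw [mul_inv_rev, inv_inv]
      constructor <;> intro e
      · calc h⁻¹ * g * (s * ↑u) * (g⁻¹ * h) = h⁻¹ * (g * (s * ↑u) * g⁻¹) * h := by group
          _ = z := by rw [e]; group
      · rw [← e]; group
    simp only [Equiv.coe_mulLeft]
    exact if_congr this rfl rfl
  refine ⟨f, ⟨hfc, fun χ => ?_⟩, ?_, ?_⟩
  · have h1 : classInner f (χ : G → ℂ) = conj ((Nat.card Q : ℂ)⁻¹ * ∑ u : Q, (χ : G → ℂ) (s * u)) := by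
      have h2 : ∑ z : G, f z * conj ((χ : G → ℂ) z) =
          (Nat.card Q : ℂ)⁻¹ * ((Nat.card G : ℂ) * ∑ u : Q, conj ((χ : G → ℂ) (s * u))) := by
        simp only [f, mul_assoc, ← Finset.mul_sum, Finset.sum_mul]
        congr 1
        rw [Finset.sum_comm]
        have h3 : ∀ g : G, ∑ z : G, ∑ u : Q,
            (if g * (s * u) * g⁻¹ = z then (1 : ℂ) else 0) * conj ((χ : G → ℂ) z) =
            ∑ u : Q, conj ((χ : G → ℂ) (s * u)) := by
          intro g
          rw [Finset.sum_comm]
          refine Finset.sum_congr rfl fun u _ => ?_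
          rw [Finset.sum_eq_single (g * (s * u) * g⁻¹)]
          · simp [isClassFunction_irr χ (s * u) g]
          · intro z _ hz; simp [Ne.symm hz]
          · simp
        simp only [mul_assoc] at h3
        rw [Finset.sum_congr rfl fun g _ => h3 g, Finset.sum_const, Finset.card_univ,
          ← Nat.card_eq_fintype_card, nsmul_eq_mul]
      rw [inner_def, h2, map_mul, map_inv₀, map_natCast, map_sum]
      field_simp [card_ne_zero G]
    rw [h1]
    refine isIntegral_mem_loc ?_
    exact map_isIntegral_int (starRingEnd ℂ) (isIntegral_avg_coset (isCharacter_of_irr χ.2) Q s hQs)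
  · have h1 : f s = (Nat.card Q : ℂ)⁻¹ * (Nat.card (Subgroup.centralizer ({s} : Set G)) : ℂ) := by
      simp only [f]
      congr 1
      have h2 : ∀ g : G, ∑ u : Q, (if g * (s * u) * g⁻¹ = s then (1 : ℂ) else 0) =
          if g ∈ Subgroup.centralizer ({s} : Set G) then 1 else 0 := by
        intro g
        by_cases hg : g ∈ Subgroup.centralizer ({s} : Set G)
        · rw [if_pos hg, Finset.sum_eq_single (1 : Q)]
          · have := Subgroup.mem_centralizer_iff.mp hg s rfl
            simp [this.symm]
          · intro u _ hu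
            rw [if_neg]
            intro e
            have hc := Subgroup.mem_centralizer_iff.mp hg s rfl
            have e2 : g * (s * u) = g * s := by
              rw [mul_inv_eq_iff_eq_mul, hc] at e
              exact e
            exact hu (Subtype.ext (mul_left_cancel ((mul_left_cancel e2).trans (mul_one s).symm)))
          · simp
        · rw [if_neg hg]
          refine Finset.sum_eq_zero fun u _ => ?_
          rw [if_neg]
          intro e
          apply hg
          have hcom : Commute (u : G) s := (hQs u u.2).symm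
          have h4 := pPrimePart_mul (p := p) hcom (hQord u u.2) hs
          have h5 := congrArg (pPrimePart p) e
          rw [pPrimePart_conj, pPrimePart_of_regular hs, ← hcom.eq, h4] at h5
          rw [Subgroup.mem_centralizer_iff]
          rintro x rfl
          exact (mul_inv_eq_iff_eq_mul.mp h5).symm
      rw [Finset.sum_congr rfl fun g _ => h2 g, Finset.sum_boole, Nat.card_eq_fintype_card]
      congr 1
      rw [Fintype.card_subtype]
    have hidx : ¬ p ∣ (P : Subgroup (Subgroup.centralizer ({s} : Set G))).index :=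
      P.not_dvd_index
    have h3 : f s = ((P : Subgroup (Subgroup.centralizer ({s} : Set G))).index : ℂ) := by
      rw [h1, hQcard, ← (P : Subgroup (Subgroup.centralizer ({s} : Set G))).card_mul_index]
      push_cast
      rw [inv_mul_cancel_left₀]
      exact_mod_cast Nat.card_pos.ne'
    rw [h3, memLocalIdeal_natCast_iff hp.out hpM]
    exact hidx
  · intro z hz
    simp only [f]
    refine mul_eq_zero_of_right _ (Finset.sum_eq_zero fun g _ => Finset.sum_eq_zero fun u _ => ?_)
    rw [if_neg]
    intro e
    apply hz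
    have hcom : Commute (u : G) s := (hQs u u.2).symm
    rw [← e, pPrimePart_conj, ← hcom.eq, pPrimePart_mul hcom (hQord u u.2) hs]
    exact isConj_iff.mpr ⟨g, rfl⟩

open Classical in
/-- The indicator function of a `p`-section is a combination of irreducible characters over the
local ring at `M`. -/
theorem inCharSpan_section_indicator (hpM : (p : AlgInt) ∈ M) (s : G) (hs : ¬ p ∣ orderOf s) :
    InCharSpan (loc M) (fun z : G => if IsConj s (pPrimePart p z) then (1 : ℂ) else 0) := by
  obtain ⟨f, hf, hfs, hf0⟩ := exists_inCharSpan_section hpM s hs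
  set S : Finset ℂ := ((Finset.univ : Finset G).filter fun z => IsConj s (pPrimePart p z)).image f
    with hS
  have hunit : ∀ z, IsConj s (pPrimePart p z) → ¬ MemLocalIdeal M (f z) := by
    intro z hz hmem
    obtain ⟨c, hc⟩ := isConj_iff.mp hz
    have h1 := MemLocalIdeal.sub' hmem (hf.memLocalIdeal_sub hpM z)
    rw [sub_sub_cancel, ← hc, hf.1 s c] at h1
    exact hfs h1
  have hfun : (fun z : G => if IsConj s (pPrimePart p z) then (1 : ℂ) else 0) =
      1 - ∏ r ∈ S, ((1 : G → ℂ) - r⁻¹ • f) := by
    funext z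
    simp only [Pi.sub_apply, Finset.prod_apply, Pi.one_apply, Pi.smul_apply, smul_eq_mul]
    split_ifs with hz
    · rw [Finset.prod_eq_zero (i := f z)]
      · simp
      · exact Finset.mem_image_of_mem f (Finset.mem_filter.mpr ⟨Finset.mem_univ z, hz⟩)
      · have : f z ≠ 0 := fun h0 => hunit z hz (by rw [h0]; exact MemLocalIdeal.zero')
        rw [inv_mul_cancel₀ this, sub_self]
    · rw [hf0 z hz]
      simp
  rw [hfun]
  refine InCharSpan.sub InCharSpan.one (InCharSpan.prod fun r hr => ?_)
  obtain ⟨z, hz, rfl⟩ := Finset.mem_image.mp hr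
  exact InCharSpan.sub InCharSpan.one
    (hf.smul (inv_mem_loc (hf.apply_mem_loc z) (hunit z (Finset.mem_filter.mp hz).2)))

/-- A class function which only depends on the `p'`-part, with values in the local ring, is a
combination of irreducible characters over the local ring. -/
theorem inCharSpan_of_pPrimePart (hpM : (p : AlgInt) ∈ M) {φ : G → ℂ}
    (hcl : IsClassFunction G φ) (hval : ∀ g, φ g ∈ loc M)
    (hdep : ∀ g, φ g = φ (pPrimePart p g)) : InCharSpan (loc M) φ := by
  classical
  haveI := Fintype.ofFinite (ConjClasses G)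
  set T : Finset (ConjClasses G) := Finset.univ.filter fun C => ¬ p ∣ orderOf C.out with hT
  have hout : ∀ C : ConjClasses G, ConjClasses.mk C.out = C := fun C => Quotient.out_eq C
  have hfun : φ = ∑ C ∈ T,
      φ C.out • (fun z : G => if IsConj C.out (pPrimePart p z) then (1 : ℂ) else 0) := by
    funext z
    simp only [Finset.sum_apply, Pi.smul_apply, smul_eq_mul]
    set C₀ := ConjClasses.mk (pPrimePart p z) with hC₀
    have h0 : IsConj C₀.out (pPrimePart p z) :=
      ConjClasses.mk_eq_mk_iff_isConj.mp (hout C₀)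
    obtain ⟨c, hc⟩ := isConj_iff.mp h0
    rw [Finset.sum_eq_single C₀]
    · rw [if_pos h0, mul_one, hdep z, ← hc, hcl]
    · intro C _ hC
      rw [if_neg, mul_zero]
      intro h
      exact hC (by rw [← hout C, hC₀]; exact ConjClasses.mk_eq_mk_iff_isConj.mpr h)
    · intro h
      exfalso
      apply h
      rw [hT, Finset.mem_filter]
      refine ⟨Finset.mem_univ _, ?_⟩
      have := not_dvd_orderOf_pPrimePart (p := p) z
      rwa [← hc, show c * C₀.out * c⁻¹ = MulAut.conj c C₀.out from rfl, MulEquiv.orderOf_eq] at this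
  rw [hfun]
  exact InCharSpan.sum fun C hC =>
    (inCharSpan_section_indicator hpM C.out (Finset.mem_filter.mp hC).2).smul (hval _)

end CfsgLib.BlockOrth
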