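/-
`p^a` times the indicator of the `p`-regular elements is a generalised character; equivalently the
numbers `p^a * [χ⁰, ψ]` are rational integers.
-/
import Cfsg.Agent.Lib.BlockOrth.CharSpan
import Cfsg.Agent.Lib.Chars.Char
import Cfsg.Agent.Lib.Chars.Integral
import Cfsg.Prelude.Def_BlockRank

set_option autoImplicit false
set_option linter.style.haveILetI false
set_option linter.unusedSectionVars false

namespace CfsgLib.BlockOrth

open Cfsg CfsgLib.Chars CfsgLib.Blocks Finset
open scoped ComplexConjugate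

universe u

variable {G : Type u} [Group G]

open Classical in
theorem pRegularPart_apply (p : ℕ) (φ : G → ℂ) (g : G) :
    pRegularPart p φ g = if ¬ p ∣ orderOf g then φ g else 0 := by
  unfold Cfsg.pRegularPart Cfsg.IsPRegular
  split_ifs <;> rfl

open Classical in
theorem ite_dvd_eq_mul_pRegularPart (p : ℕ) (c : ℂ) (φ : G → ℂ) :
    (fun x : G => if p ∣ orderOf x then (0 : ℂ) else c * φ x) =
      c • pRegularPart p φ := by
  funext x
  rw [Pi.smul_apply, smul_eq_mul, pRegularPart_apply]
  split_ifs <;> simp_all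

theorem pRegularPart_pRegularPart (p : ℕ) (φ : G → ℂ) :
    pRegularPart p (pRegularPart p φ) = pRegularPart p φ := by
  classical
  funext g
  simp only [pRegularPart_apply]
  split_ifs <;> rfl

theorem pRegularPart_add (p : ℕ) (φ ψ : G → ℂ) :
    pRegularPart p (φ + ψ) = pRegularPart p φ + pRegularPart p ψ := by
  classical
  funext g
  simp only [Pi.add_apply, pRegularPart_apply]
  split_ifs <;> simp

theorem pRegularPart_smul (p : ℕ) (c : ℂ) (φ : G → ℂ) :
    pRegularPart p (c • φ) = c • pRegularPart p φ := by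
  classical
  funext g
  simp only [Pi.smul_apply, pRegularPart_apply, smul_eq_mul]
  split_ifs <;> simp

theorem pRegularPart_zero (p : ℕ) : pRegularPart p (0 : G → ℂ) = 0 := by
  classical
  funext g
  simp [pRegularPart_apply]

theorem pRegularPart_sum (p : ℕ) {ι : Type*} (s : Finset ι) (f : ι → G → ℂ) :
    pRegularPart p (∑ i ∈ s, f i) = ∑ i ∈ s, pRegularPart p (f i) :=
  map_sum (⟨⟨pRegularPart p, pRegularPart_zero p⟩, pRegularPart_add p⟩ : (G → ℂ) →+ (G → ℂ)) f s

theorem pRegularPart_mul (p : ℕ) (φ ψ : G → ℂ) :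
    pRegularPart p (φ * ψ) = pRegularPart p φ * ψ := by
  classical
  funext g
  simp only [Pi.mul_apply, pRegularPart_apply]
  split_ifs <;> simp

theorem isClassFunction_pRegularPart {p : ℕ} {φ : G → ℂ} (h : IsClassFunction G φ) :
    IsClassFunction G (pRegularPart p φ) := by
  classical
  intro g c
  simp only [pRegularPart_apply,
    show c * g * c⁻¹ = MulAut.conj c g from rfl, MulEquiv.orderOf_eq]
  rw [show MulAut.conj c g = c * g * c⁻¹ from rfl, h g c]

variable [Fintype G]

theorem exists_int_sum_generators {η : G → ℂ} (hη : IsCharacter G η) (g : G)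
    [DecidablePred fun x : G => Subgroup.zpowers x = Subgroup.zpowers g] :
    ∃ n : ℤ, ∑ x ∈ Finset.univ.filter (fun x : G => Subgroup.zpowers x = Subgroup.zpowers g),
      η x = (n : ℂ) := by
  classical
  suffices H : ∀ (N : ℕ) (g : G), orderOf g = N → ∃ n : ℤ,
      ∑ x ∈ Finset.univ.filter (fun x : G => Subgroup.zpowers x = Subgroup.zpowers g), η x = (n : ℂ) by
    obtain ⟨n, hn⟩ := H _ g rfl
    exact ⟨n, by convert hn using 3⟩
  intro N
  induction N using Nat.strong_induction_on with
  | h N ih =>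
    intro g hg
    set C := Subgroup.zpowers g with hC
    -- the sum over the whole cyclic subgroup
    have htot : ∃ n : ℤ, ∑ x ∈ Finset.univ.filter (fun x : G => x ∈ C), η x = (n : ℂ) := by
      obtain ⟨d, ρ, hρ⟩ := hη
      let σ : Representation ℂ C (Fin d → ℂ) := ρ.comp C.subtype
      have h := Representation.card_inv_mul_sum_char_eq_finrank (ρ := σ)
      refine ⟨(Nat.card C * Module.finrank ℂ σ.invariants : ℕ), ?_⟩
      push_cast
      rw [← h, ← mul_assoc, mul_inv_cancel₀ (Nat.cast_ne_zero.mpr Nat.card_pos.ne'), one_mul,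
        Finset.sum_subtype (p := fun x : G => x ∈ C) _ (by simp) η]
      refine Finset.sum_congr rfl fun x _ => ?_
      rw [← hρ]
      rfl
    obtain ⟨n, hn⟩ := htot
    rw [← Finset.sum_fiberwise_of_maps_to (g := fun x : G => Subgroup.zpowers x)
      (t := (Finset.univ.filter (fun x : G => x ∈ C)).image (fun x : G => Subgroup.zpowers x))
      (fun x hx => Finset.mem_image_of_mem _ hx),
      ← Finset.add_sum_erase _ _ (a := C) (Finset.mem_image.mpr ⟨g, by simp [C], rfl⟩),
      ← Finset.sdiff_singleton_eq_erase] at hn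
    have hrest : ∀ K ∈ (Finset.univ.filter (fun x : G => x ∈ C)).image
        (fun x : G => Subgroup.zpowers x) \ {C}, ∃ m : ℤ,
        ∑ x ∈ (Finset.univ.filter (fun x : G => x ∈ C)).filter
          (fun x : G => Subgroup.zpowers x = K), η x = (m : ℂ) := by
      intro K hK
      obtain ⟨hK1, hK2⟩ := Finset.mem_sdiff.mp hK
      obtain ⟨y, hy, rfl⟩ := Finset.mem_image.mp hK1
      have hyC : y ∈ C := (Finset.mem_filter.mp hy).2
      have hne : Subgroup.zpowers y ≠ C := fun h => hK2 (Finset.mem_singleton.mpr h)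
      have hle : Subgroup.zpowers y ≤ C := Subgroup.zpowers_le.mpr hyC
      have hlt : orderOf y < N := by
        rw [← hg, ← Nat.card_zpowers, ← Nat.card_zpowers]
        by_contra hge
        push Not at hge
        exact hne (Subgroup.eq_of_le_of_card_ge hle hge)
      obtain ⟨m, hm⟩ := ih _ hlt y rfl
      refine ⟨m, ?_⟩
      rw [← hm]
      refine Finset.sum_congr ?_ fun _ _ => rfl
      ext x
      simp only [Finset.mem_filter, Finset.mem_univ, true_and]
      exact ⟨fun h => h.2, fun h => ⟨hle (h ▸ Subgroup.mem_zpowers x), h⟩⟩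
    choose! m hm using hrest
    rw [Finset.sum_congr rfl hm] at hn
    have hsame : (Finset.univ.filter (fun x : G => x ∈ C)).filter
        (fun x : G => Subgroup.zpowers x = C) =
        Finset.univ.filter (fun x : G => Subgroup.zpowers x = C) := by
      ext x
      simp only [Finset.mem_filter, Finset.mem_univ, true_and]
      exact ⟨fun h => h.2, fun h => ⟨h ▸ Subgroup.mem_zpowers x, h⟩⟩
    rw [hsame, ← eq_sub_iff_add_eq] at hn
    exact ⟨n - ∑ K ∈ _, m K, by rw [hn]; push_cast; rfl⟩

theorem exists_int_sum_regular {η : G → ℂ} (hη : IsCharacter G η) (p : ℕ) :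
    ∃ n : ℤ, ∑ x : G, pRegularPart p η x = (n : ℂ) := by
  classical
  rw [← Finset.sum_fiberwise Finset.univ (fun x : G => Subgroup.zpowers x)]
  have h : ∀ K : Subgroup G, ∃ m : ℤ,
      ∑ x ∈ Finset.univ.filter (fun x : G => Subgroup.zpowers x = K), pRegularPart p η x
        = (m : ℂ) := by
    intro K
    by_cases hK : ∃ y, Subgroup.zpowers y = K
    · obtain ⟨y, rfl⟩ := hK
      have hord : ∀ x ∈ Finset.univ.filter (fun x : G => Subgroup.zpowers x = Subgroup.zpowers y),
          orderOf x = orderOf y := by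
        intro x hx
        rw [← Nat.card_zpowers, ← Nat.card_zpowers, (Finset.mem_filter.mp hx).2]
      by_cases hp : p ∣ orderOf y
      · refine ⟨0, ?_⟩
        rw [Int.cast_zero]
        exact Finset.sum_eq_zero fun x hx => by simp [pRegularPart_apply, hord x hx, hp]
      · obtain ⟨m, hm⟩ := exists_int_sum_generators hη y
        exact ⟨m, by
          rw [← hm]
          exact Finset.sum_congr rfl fun x hx => by simp [pRegularPart_apply, hord x hx, hp]⟩
    · refine ⟨0, ?_⟩
      rw [Int.cast_zero]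
      exact Finset.sum_eq_zero fun x hx => absurd ⟨x, (Finset.mem_filter.mp hx).2⟩ hK
  choose m hm using h
  exact ⟨∑ K : Subgroup G, m K, by
    rw [Finset.sum_congr rfl fun K _ => hm K, Int.cast_sum]⟩

/-- A complex number which is rational and locally integral at every prime is an integer. -/
theorem exists_int_of_forall_mem_loc {z : ℂ} {n : ℤ} {d : ℕ} (hd : d ≠ 0) (hz : (d : ℂ) * z = n)
    (h : ∀ (ℓ : ℕ) (M : Ideal AlgInt), ℓ.Prime → M.IsMaximal → (ℓ : AlgInt) ∈ M →
      MemLocalRing M z) : ∃ m : ℤ, z = m := by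
  suffices H : ∀ (d : ℕ), d ≠ 0 → ∀ n : ℤ, (d : ℂ) * z = n → ∃ m : ℤ, z = m from H d hd n hz
  intro d
  induction d using Nat.strong_induction_on with
  | h d ih =>
    intro hd n hz
    by_cases h1 : d = 1
    · exact ⟨n, by rw [← hz, h1]; simp⟩
    obtain ⟨ℓ, hℓ, hdvd⟩ := Nat.exists_prime_and_dvd h1
    have hne : Ideal.span {(ℓ : AlgInt)} ≠ ⊤ := by
      rw [Ne, Ideal.span_singleton_eq_top]
      rintro ⟨u, hu⟩
      have h2 := congrArg (fun a : AlgInt => (a : ℂ)) u.mul_inv
      rw [hu] at h2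
      push_cast at h2
      have hint : IsIntegral ℤ (((u⁻¹ : AlgIntˣ) : AlgInt) : ℂ) := ((u⁻¹ : AlgIntˣ) : AlgInt).2
      have hq : (((u⁻¹ : AlgIntˣ) : AlgInt) : ℂ) = algebraMap ℚ ℂ (ℓ : ℚ)⁻¹ := by
        rw [map_inv₀, map_natCast]
        exact eq_inv_of_mul_eq_one_right h2
      rw [hq] at hint
      have hint' : IsIntegral ℤ ((ℓ : ℚ)⁻¹) :=
        (isIntegral_algebraMap_iff (algebraMap ℚ ℂ).injective).mp hint
      obtain ⟨k, hk⟩ := IsIntegrallyClosed.algebraMap_eq_of_integral hint'
      have h3 : (k : ℚ) * (ℓ : ℚ) = 1 := by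
        rw [show (k : ℚ) = (ℓ : ℚ)⁻¹ from hk, inv_mul_cancel₀ (Nat.cast_ne_zero.mpr hℓ.ne_zero)]
      have h4 : k * (ℓ : ℤ) = 1 := by exact_mod_cast h3
      exact hℓ.ne_one (by exact_mod_cast Int.eq_one_of_mul_eq_one_left (by positivity) h4)
    obtain ⟨M, hM, hle⟩ := Ideal.exists_le_maximal _ hne
    have hℓM : (ℓ : AlgInt) ∈ M := hle (Ideal.mem_span_singleton_self _)
    haveI : M.IsPrime := hM.isPrime
    have hzl : z ∈ loc M := h ℓ M hℓ hM hℓM
    obtain ⟨d', rfl⟩ := hdvd
    have hn : MemLocalIdeal M (n : ℂ) := by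
      rw [← hz, Nat.cast_mul, mul_assoc]
      exact MemLocalIdeal.mul_right' (memLocalIdeal_prime hℓM)
        (mul_mem (natCast_mem_loc d') hzl)
    have hnd : (ℓ : ℤ) ∣ n := by
      rw [← intCast_mem_iff hℓ hℓM, ← memLocalIdeal_algInt_iff]
      simpa using hn
    obtain ⟨n', rfl⟩ := hnd
    refine ih d' ?_ (fun h0 => hd (by rw [h0, mul_zero])) n' ?_
    · exact lt_mul_of_one_lt_left (Nat.pos_of_ne_zero fun h0 => hd (by rw [h0, mul_zero])) hℓ.one_lt
    · apply mul_left_cancel₀ (Nat.cast_ne_zero.mpr hℓ.ne_zero : (ℓ : ℂ) ≠ 0)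
      rw [← mul_assoc, ← Nat.cast_mul, hz]
      push_cast
      rfl

/-- There is a maximal ideal of the algebraic integers above every prime. -/
theorem exists_maximal_above (ℓ : ℕ) [hℓ : Fact ℓ.Prime] :
    ∃ M : Ideal AlgInt, M.IsMaximal ∧ (ℓ : AlgInt) ∈ M := by
  have hne : Ideal.span {(ℓ : AlgInt)} ≠ ⊤ := by
    rw [Ne, Ideal.span_singleton_eq_top]
    rintro ⟨u, hu⟩
    have h2 := congrArg (fun a : AlgInt => (a : ℂ)) u.mul_inv
    rw [hu] at h2
    push_cast at h2
    have hint : IsIntegral ℤ (((u⁻¹ : AlgIntˣ) : AlgInt) : ℂ) := ((u⁻¹ : AlgIntˣ) : AlgInt).2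
    obtain ⟨k, hk⟩ := exists_int_of_isIntegral_rat (ℓ : ℚ)⁻¹ (by
      rw [Rat.cast_inv, Rat.cast_natCast, ← eq_inv_of_mul_eq_one_right h2]
      exact hint)
    have h4 : (ℓ : ℚ) * (k : ℚ) = 1 := by
      rw [← hk, mul_inv_cancel₀ (Nat.cast_ne_zero.mpr hℓ.out.ne_zero)]
    have h5 : (ℓ : ℤ) * k = 1 := by exact_mod_cast h4
    exact hℓ.out.ne_one (by exact_mod_cast Int.eq_one_of_mul_eq_one_right (by positivity) h5)
  obtain ⟨M, hM, hle⟩ := Ideal.exists_le_maximal _ hne
  exact ⟨M, hM, hle (Ideal.mem_span_singleton_self _)⟩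

variable (p : ℕ)

/-- `p^a [φ⁰, ψ]`, the entry of the matrix `C` of the `p`-regular inner products. -/
noncomputable def pInner (φ ψ : G → ℂ) : ℂ :=
  ((p ^ (Nat.card G).factorization p : ℕ) : ℂ) * classInner (pRegularPart p φ) ψ

theorem pInner_eq_inner (φ ψ : G → ℂ) :
    pInner p φ ψ =
      classInner (((p ^ (Nat.card G).factorization p : ℕ) : ℂ) • pRegularPart p φ) ψ := by
  rw [Chars.inner_smul_left, pInner]

theorem classInner_pRegularPart_right (φ ψ : G → ℂ) :
    classInner φ (pRegularPart p ψ) = classInner (pRegularPart p φ) ψ := by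
  classical
  simp only [inner_def, pRegularPart_apply]
  congr 1
  refine Finset.sum_congr rfl fun g _ => ?_
  split_ifs <;> simp

theorem pInner_conj (φ ψ : G → ℂ) : conj (pInner p φ ψ) = pInner p ψ φ := by
  rw [pInner, pInner, map_mul, map_natCast, inner_conj, classInner_pRegularPart_right]

theorem pInner_add_left (φ φ' ψ : G → ℂ) :
    pInner p (φ + φ') ψ = pInner p φ ψ + pInner p φ' ψ := by
  simp [pInner, pRegularPart_add, Chars.inner_add_left, mul_add]

theorem pInner_smul_left (c : ℂ) (φ ψ : G → ℂ) : pInner p (c • φ) ψ = c * pInner p φ ψ := by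
  simp [pInner, pRegularPart_smul, Chars.inner_smul_left, mul_left_comm]

variable [hp : Fact p.Prime]

theorem pInner_mem_loc {M : Ideal AlgInt} [M.IsPrime] (hpM : (p : AlgInt) ∈ M) {φ ψ : G → ℂ}
    (hφ : ∀ g, IsIntegral ℤ (φ g)) (hψ : ∀ g, IsIntegral ℤ (ψ g)) : pInner p φ ψ ∈ loc M := by
  classical
  obtain ⟨m, hm, hcard⟩ : ∃ m, ¬ p ∣ m ∧
      Nat.card G = p ^ (Nat.card G).factorization p * m :=
    ⟨_, Nat.not_dvd_ordCompl hp.out Nat.card_pos.ne', (Nat.ordProj_mul_ordCompl_eq_self _ _).symm⟩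
  have e : pInner p φ ψ = (m : ℂ)⁻¹ * ∑ g : G, pRegularPart p φ g * conj (ψ g) := by
    rw [pInner, inner_def, ← mul_assoc]
    congr 1
    conv_lhs => arg 2; rw [hcard]
    push_cast
    rw [mul_inv, ← mul_assoc, mul_inv_cancel₀ (pow_ne_zero _ (Nat.cast_ne_zero.mpr hp.out.ne_zero)),
      one_mul]
  rw [e]
  refine mul_mem (inv_natCast_mem_loc hp.out hpM hm) (sum_mem fun g _ => ?_)
  refine mul_mem ?_ (isIntegral_mem_loc (map_isIntegral_int (starRingEnd ℂ) (hψ g)))
  rw [pRegularPart_apply]
  split_ifs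
  · exact zero_mem _
  · exact isIntegral_mem_loc (hφ g)

theorem exists_int_pInner_one {η : G → ℂ} (hη : IsCharacter G η) :
    ∃ m : ℤ, pInner p η (1 : G → ℂ) = m := by
  classical
  obtain ⟨n, hn⟩ := exists_int_sum_regular hη p
  refine exists_int_of_forall_mem_loc (n := ((p ^ (Nat.card G).factorization p : ℕ) : ℤ) * n)
    (d := Nat.card G) Nat.card_pos.ne' ?_ ?_
  · rw [pInner, inner_def]
    simp only [Pi.one_apply, map_one, mul_one, hn]
    field_simp [card_ne_zero G]
    push_cast
    ring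
  · intro ℓ M hℓ hM hℓM
    haveI := hM.isPrime
    haveI : Fact ℓ.Prime := ⟨hℓ⟩
    show _ ∈ loc M
    by_cases hlp : ℓ = p
    · subst hlp
      exact pInner_mem_loc ℓ hℓM (char_isIntegral hη) (fun _ => by simpa using isIntegral_one)
    · have hspan : InCharSpan (loc M) (pRegularPart p (1 : G → ℂ)) := by
        refine inCharSpan_of_pPrimePart hℓM
          (isClassFunction_pRegularPart (fun _ _ => rfl)) (fun g => ?_) (fun g => ?_)
        · rw [pRegularPart_apply]
          split_ifs
          · exact zero_mem _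
          · simp only [Pi.one_apply]; exact one_mem _
        · obtain ⟨u, h1, h2, ⟨k, h3⟩, h4⟩ := isPPrimePart_pPrimePart (p := ℓ) g
          have hord : orderOf g = ℓ ^ k * orderOf (pPrimePart ℓ g) := by
            conv_lhs => rw [← h1]
            rw [h2.orderOf_mul_eq_mul_orderOf_of_coprime ?_, h3]
            rw [h3]
            exact Nat.Coprime.pow_left k (hℓ.coprime_iff_not_dvd.mpr h4)
          have hiff : p ∣ orderOf g ↔ p ∣ orderOf (pPrimePart ℓ g) := by
            rw [hord]
            refine ⟨fun h => ?_, fun h => h.mul_left _⟩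
            refine (Nat.Coprime.dvd_of_dvd_mul_left ?_ h)
            exact Nat.Coprime.pow_right k ((Nat.coprime_primes hp.out hℓ).mpr (Ne.symm hlp))
          simp only [pRegularPart_apply, hiff, Pi.one_apply]
      have e : pRegularPart p η = pRegularPart p (1 : G → ℂ) * η := by
        rw [← pRegularPart_mul, one_mul]
      have h2 : InCharSpan (loc M) (pRegularPart p η) := by
        rw [e]; exact hspan.mul (InCharSpan.of_isCharacter hη)
      obtain ⟨χ, hχ⟩ : ∃ χ : IrrCharacter G, (χ : G → ℂ) = 1 := ⟨principal G, rfl⟩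
      rw [pInner, ← hχ]
      exact mul_mem (natCast_mem_loc _) (h2.2 χ)

/-- `p^a [φ⁰, ψ]` is an integer for characters `φ`, `ψ`. -/
theorem exists_int_pInner {φ ψ : G → ℂ} (hφ : IsCharacter G φ) (hψ : IsCharacter G ψ) :
    ∃ m : ℤ, pInner p φ ψ = m := by
  have h1 : pInner p φ ψ = pInner p (φ * conj ψ) 1 := by
    simp only [pInner, pRegularPart_mul, inner_def]
    congr 2
    refine Finset.sum_congr rfl fun g _ => ?_
    simp
  rw [h1]
  refine exists_int_pInner_one p ?_
  obtain ⟨n, ρ, hρ⟩ := hφ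
  obtain ⟨m, σ, hσ⟩ := hψ
  have e : φ * conj ψ = (ρ.tprod σ.dual).character := by
    funext g
    rw [Representation.char_tensor, Pi.mul_apply, Pi.mul_apply, Representation.char_dual,
      character_inv, hρ, hσ]
    rfl
  rw [e]
  exact isCharacter_character _

omit hp in
/-- The matrix `C` satisfies `C² = p^a C`. -/
theorem sum_pInner_mul_pInner [Fintype (IrrCharacter G)] {φ ψ : G → ℂ}
    (hφ : IsClassFunction G φ) :
    ∑ χ : IrrCharacter G, pInner p φ χ * pInner p χ ψ =
      ((p ^ (Nat.card G).factorization p : ℕ) : ℂ) * pInner p φ ψ := by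
  have h := inner_eq_sum (isClassFunction_pRegularPart (p := p) hφ) (pRegularPart p ψ)
  rw [classInner_pRegularPart_right, pRegularPart_pRegularPart] at h
  simp only [inner_conj, classInner_pRegularPart_right] at h
  simp only [pInner]
  rw [h, Finset.mul_sum, Finset.mul_sum]
  refine Finset.sum_congr rfl fun χ _ => ?_
  ring

end CfsgLib.BlockOrth
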