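/-
Congruences for the matrix `p^a [χ⁰, ψ]`: block orthogonality, heights, and the defect.
-/
import Cfsg.Agent.Lib.BlockOrth.Integrality
import Cfsg.Agent.Lib.Blocks.RegularTwist
import Cfsg.Agent.Lib.Chars.Integral

set_option autoImplicit false
set_option linter.style.haveILetI false
set_option linter.unusedSectionVars false

namespace CfsgLib.BlockOrth

open Cfsg CfsgLib.Chars CfsgLib.Blocks Finset
open scoped ComplexConjugate

universe u

/-- The degree of an irreducible character is `charDegree`. -/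
theorem irr_apply_one {G : Type u} [Group G] (χ : IrrCharacter G) :
    (χ : G → ℂ) 1 = (charDegree (χ : G → ℂ) : ℂ) := by
  obtain ⟨n, -, hn⟩ := irr_degree_nat χ.2
  simp [charDegree, hn]

theorem irr_charDegree_ne_zero {G : Type u} [Group G] (χ : IrrCharacter G) :
    charDegree (χ : G → ℂ) ≠ 0 := fun h =>
  irr_degree_ne_zero χ.2 (by rw [irr_apply_one, h, Nat.cast_zero])

variable {G : Type u} [Group G] [Fintype G] {p : ℕ} [hp : Fact p.Prime]
  {M : Ideal AlgInt} [M.IsPrime]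

/-- The exponent of `p` in the degree of a character. -/
noncomputable def degVal (p : ℕ) (χ : IrrCharacter G) : ℕ :=
  (charDegree (χ : G → ℂ)).factorization p

theorem degVal_le (χ : IrrCharacter G) : degVal p χ ≤ (Nat.card G).factorization p := by
  obtain ⟨d, -, hd, hdvd⟩ := irr_degree_dvd_card χ.2
  have : charDegree (χ : G → ℂ) = d := by
    have := irr_apply_one χ
    rw [hd] at this
    exact_mod_cast this.symm
  rw [degVal, this]
  exact (Nat.factorization_le_iff_dvd (by rw [← this]; exact irr_charDegree_ne_zero χ)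
    Nat.card_pos.ne').mpr hdvd p

theorem int_div_mem_loc (hpM : (p : AlgInt) ∈ M) {n : ℤ} {d : ℕ} (hd : d ≠ 0)
    (h : (n : ℂ) / d ∈ loc M) : (p : ℤ) ^ d.factorization p ∣ n := by
  set e := d.factorization p with he
  by_contra hn
  obtain ⟨k, hk, hk1⟩ : ∃ k, k < e ∧ ((p : ℤ) ^ k ∣ n ∧ ¬ (p : ℤ) ^ (k + 1) ∣ n) := by
    by_contra hall
    push Not at hall
    have : ∀ k ≤ e, (p : ℤ) ^ k ∣ n := by
      intro k hk
      induction k with
      | zero => simp
      | succ k ih => exact hall k (by omega) (ih (by omega))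
    exact hn (this e le_rfl)
  obtain ⟨⟨n', rfl⟩, hk2⟩ := hk1
  have hpd : p ^ (k + 1) ∣ d :=
    dvd_trans (pow_dvd_pow p hk) (Nat.ordProj_dvd d p)
  obtain ⟨d', hd'⟩ := hpd
  apply hk2
  rw [pow_succ]
  refine mul_dvd_mul_left _ ((intCast_mem_iff hp.out hpM n').mp ((memLocalIdeal_algInt_iff _).mp ?_))
  have hp0 : (p : ℂ) ≠ 0 := Nat.cast_ne_zero.mpr hp.out.ne_zero
  have e1 : (n' : ℂ) = (p : ℂ) * ((d' : ℂ) * ((((p : ℤ) ^ k * n' : ℤ) : ℂ) / d)) := by
    have hd0 : (d : ℂ) ≠ 0 := Nat.cast_ne_zero.mpr hd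
    rw [mul_div_assoc', mul_div_assoc', eq_div_iff hd0, hd']
    push_cast
    ring
  rw [show (((n' : AlgInt)) : ℂ) = (n' : ℂ) by norm_cast, e1]
  exact MemLocalIdeal.mul_right' (memLocalIdeal_prime hpM) (mul_mem (natCast_mem_loc d') h)

theorem int_div_memLocalIdeal_iff (hpM : (p : AlgInt) ∈ M) {n : ℤ} {d : ℕ} (hd : d ≠ 0) :
    MemLocalIdeal M ((n : ℂ) / d) ↔ (p : ℤ) ^ (d.factorization p + 1) ∣ n := by
  have hcop : ¬ p ∣ d / p ^ d.factorization p := Nat.not_dvd_ordCompl hp.out hd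
  have hdd : (d : ℂ) = (p : ℂ) ^ d.factorization p * ((d / p ^ d.factorization p : ℕ) : ℂ) := by
    conv_lhs => rw [← Nat.ordProj_mul_ordCompl_eq_self d p]
    push_cast
    ring
  have hp0 : ((p : ℂ) ^ d.factorization p) ≠ 0 :=
    pow_ne_zero _ (Nat.cast_ne_zero.mpr hp.out.ne_zero)
  constructor
  · intro h
    obtain ⟨n', hn'⟩ := int_div_mem_loc hpM hd (MemLocalIdeal.mem_loc h)
    rw [hn', pow_succ]
    refine mul_dvd_mul_left _ ((intCast_mem_iff hp.out hpM n').mp ((memLocalIdeal_algInt_iff _).mp ?_))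
    have e1 : (n' : ℂ) = ((d / p ^ d.factorization p : ℕ) : ℂ) * ((n : ℂ) / d) := by
      rw [hn', mul_div_assoc', eq_div_iff (Nat.cast_ne_zero.mpr hd), hdd]
      push_cast
      ring
    rw [show (((n' : AlgInt)) : ℂ) = (n' : ℂ) by norm_cast, e1]
    exact MemLocalIdeal.mul_left' (natCast_mem_loc _) h
  · rintro ⟨n', rfl⟩
    have e1 : (((p : ℤ) ^ (d.factorization p + 1) * n' : ℤ) : ℂ) / d =
        (p : ℂ) * ((n' : ℂ) * (((d / p ^ d.factorization p : ℕ) : ℂ))⁻¹) := by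
      conv_lhs => rw [hdd]
      push_cast
      rw [pow_succ, mul_assoc, mul_div_mul_left _ _ hp0]
      ring
    rw [e1]
    exact MemLocalIdeal.mul_right' (memLocalIdeal_prime hpM)
      (mul_mem (intCast_mem _ _) (inv_natCast_mem_loc hp.out hpM hcop))

/-- The coefficient `m⁻¹`, `m` the `p'`-part of the group order. -/
noncomputable def invCompl (G : Type u) (p : ℕ) : ℂ :=
  ((Nat.card G / p ^ (Nat.card G).factorization p : ℕ) : ℂ)⁻¹

theorem invCompl_mem_loc (hpM : (p : AlgInt) ∈ M) : invCompl G p ∈ loc M :=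
  inv_natCast_mem_loc hp.out hpM (Nat.not_dvd_ordCompl hp.out Nat.card_pos.ne')

theorem not_memLocalIdeal_invCompl (hpM : (p : AlgInt) ∈ M) :
    ¬ MemLocalIdeal M (invCompl G p) := by
  intro h
  refine not_memLocalIdeal_one (M := M) ?_
  have hne : ((Nat.card G / p ^ (Nat.card G).factorization p : ℕ) : ℂ) ≠ 0 :=
    Nat.cast_ne_zero.mpr (Nat.ordCompl_pos p Nat.card_pos.ne').ne'
  have := MemLocalIdeal.mul_left'
    (natCast_mem_loc (Nat.card G / p ^ (Nat.card G).factorization p)) h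
  rwa [invCompl, mul_inv_cancel₀ hne] at this

theorem pow_mul_inv_card :
    ((p ^ (Nat.card G).factorization p : ℕ) : ℂ) * (Nat.card G : ℂ)⁻¹ = invCompl G p := by
  rw [invCompl]
  conv_lhs => arg 2; rw [← Nat.ordProj_mul_ordCompl_eq_self (Nat.card G) p]
  push_cast
  rw [mul_inv, ← mul_assoc, mul_inv_cancel₀ (pow_ne_zero _ (Nat.cast_ne_zero.mpr hp.out.ne_zero)),
    one_mul]

theorem pInner_div_eq_omega (φ : G → ℂ) (ψ : IrrCharacter G) :
    pInner p φ (ψ : G → ℂ) / (ψ : G → ℂ) 1 =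
      invCompl G p * omega (ψ : G → ℂ) (fun g => pRegularPart p φ g⁻¹) := by
  rw [pInner, inner_def, ← mul_assoc, pow_mul_inv_card, omega, mul_div_assoc]
  congr 2
  refine Fintype.sum_equiv (Equiv.inv G) _ _ fun g => ?_
  simp only [Equiv.inv_apply, inv_inv, irr_inv]

theorem isLocClassFun_regular {φ : G → ℂ} (hcl : IsClassFunction G φ) (hv : ∀ g, φ g ∈ loc M) :
    IsLocClassFun M (fun g => pRegularPart p φ g⁻¹) := by
  refine ⟨fun g h => ?_, fun g => ?_⟩
  · simp only [mul_inv_rev, inv_inv, ← mul_assoc]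
    exact isClassFunction_pRegularPart hcl g⁻¹ h
  · classical
    simp only [pRegularPart_apply]
    split_ifs
    · exact zero_mem _
    · exact hv _

/-- The integer `p^a [χ⁰, ψ]`. -/
noncomputable def pInt (p : ℕ) [Fact p.Prime] (χ ψ : IrrCharacter G) : ℤ :=
  (exists_int_pInner p (isCharacter_of_irr χ.2) (isCharacter_of_irr ψ.2)).choose

theorem pInt_spec (χ ψ : IrrCharacter G) :
    pInner p (χ : G → ℂ) (ψ : G → ℂ) = (pInt p χ ψ : ℂ) :=
  (exists_int_pInner p (isCharacter_of_irr χ.2) (isCharacter_of_irr ψ.2)).choose_spec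

theorem pInt_symm (χ ψ : IrrCharacter G) : pInt p χ ψ = pInt p ψ χ := by
  have h := pInner_conj p (χ : G → ℂ) (ψ : G → ℂ)
  rw [pInt_spec, pInt_spec] at h
  simpa using h

theorem pInt_div_mem_loc (hpM : (p : AlgInt) ∈ M) (χ ψ : IrrCharacter G) :
    (pInt p χ ψ : ℂ) / (charDegree (ψ : G → ℂ) : ℂ) ∈ loc M := by
  rw [← pInt_spec, ← irr_apply_one, pInner_div_eq_omega]
  exact mul_mem (invCompl_mem_loc hpM)
    (omega_mem_loc ψ (isLocClassFun_regular (isClassFunction_irr χ) (irr_mem_loc χ)))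

theorem pow_degVal_dvd_pInt (hpM : (p : AlgInt) ∈ M) (χ ψ : IrrCharacter G) :
    (p : ℤ) ^ degVal p ψ ∣ pInt p χ ψ :=
  int_div_mem_loc hpM (irr_charDegree_ne_zero ψ) (pInt_div_mem_loc hpM χ ψ)

theorem pow_degVal_dvd_pInt' (hpM : (p : AlgInt) ∈ M) (χ ψ : IrrCharacter G) :
    (p : ℤ) ^ degVal p χ ∣ pInt p χ ψ := by
  rw [pInt_symm]; exact pow_degVal_dvd_pInt hpM ψ χ

/-- The indicator of the `p`-section of `1` gives a local combination of rows equal to a unit
multiple of the degree vector. -/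
theorem exists_loc_sum_pInt [Fintype (IrrCharacter G)] (hpM : (p : AlgInt) ∈ M) :
    ∃ c : IrrCharacter G → ℂ, (∀ χ, c χ ∈ loc M) ∧
      ∀ ψ : IrrCharacter G, ∑ χ : IrrCharacter G, c χ * (pInt p χ ψ : ℂ) =
        invCompl G p * (ψ : G → ℂ) 1 := by
  classical
  set f : G → ℂ := fun z => if IsConj 1 (pPrimePart p z) then (1 : ℂ) else 0 with hf
  have hspan : InCharSpan (loc M) f :=
    inCharSpan_section_indicator hpM 1 (by simp [hp.out.not_dvd_one])
  refine ⟨fun χ => classInner f (χ : G → ℂ), hspan.2, fun ψ => ?_⟩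
  have h1 : pInner p f (ψ : G → ℂ) / (ψ : G → ℂ) 1 =
      invCompl G p := by
    have hreg : pRegularPart p f = Pi.single 1 1 := by
      funext g
      rw [pRegularPart_apply]
      by_cases hg : g = 1
      · subst hg
        simp [hf, pPrimePart_of_regular, hp.out.not_dvd_one]
      · simp only [hf, ne_eq, hg, not_false_eq_true, Pi.single_eq_of_ne]
        split_ifs with ha hb
        · rfl
        · exfalso
          rw [pPrimePart_of_regular ha, isConj_one_right] at hb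
          exact hg hb
        · rfl
    rw [pInner_div_eq_omega, hreg, omega]
    rw [Finset.sum_eq_single 1 (fun g _ hg => by simp [hg]) (by simp)]
    simp [irr_degree_ne_zero ψ.2]
  rw [← h1, div_mul_cancel₀ _ (irr_degree_ne_zero ψ.2)]
  conv_rhs => rw [classFun_eq_sum hspan.1, pInner, pRegularPart_sum, Chars.inner_sum_left,
    Finset.mul_sum]
  refine Finset.sum_congr rfl fun χ _ => ?_
  rw [pRegularPart_smul, Chars.inner_smul_left, ← pInt_spec, pInner]
  ring

/-- `ψ` occurs with exact `p`-part of its degree in the row of some character. -/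
theorem exists_pInt_exact (hpM : (p : AlgInt) ∈ M) (ψ : IrrCharacter G) :
    ∃ χ : IrrCharacter G, ¬ (p : ℤ) ^ (degVal p ψ + 1) ∣ pInt p χ ψ := by
  haveI := irrFintype G
  by_contra hall
  push Not at hall
  obtain ⟨c, hc, hsum⟩ := exists_loc_sum_pInt (G := G) hpM
  refine not_memLocalIdeal_invCompl (G := G) hpM ?_
  have h1 : invCompl G p =
      ∑ χ : IrrCharacter G, c χ * ((pInt p χ ψ : ℂ) / (charDegree (ψ : G → ℂ) : ℂ)) := by
    simp only [← mul_div_assoc, ← Finset.sum_div, hsum, ← irr_apply_one]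
    rw [mul_div_cancel_right₀ _ (irr_degree_ne_zero ψ.2)]
  rw [h1]
  refine MemLocalIdeal.sum' fun χ _ => MemLocalIdeal.mul_left' (hc χ) ?_
  rw [int_div_memLocalIdeal_iff hpM (irr_charDegree_ne_zero ψ)]
  exact hall χ

section Block

variable {B : Set (IrrCharacter G)}

/-- Block orthogonality: `[χ⁰, ψ] = 0` for characters in different blocks. -/
theorem pInt_eq_zero (hpM : (p : AlgInt) ∈ M) (hB : IsPBlock M B) {χ ψ : IrrCharacter G}
    (hχ : χ ∈ B) (hψ : ψ ∉ B) : pInt p χ ψ = 0 := by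
  classical
  haveI := irrFintype G
  have hbp : ∀ (θ : G → ℂ) (x : G), blockPart B θ x =
      ∑ ξ : IrrCharacter G, if ξ ∈ B then classInner θ (ξ : G → ℂ) * (ξ : G → ℂ) x else 0 := by
    intro θ x
    rw [blockPart, finsum_mem_eq_sum_of_inter_support_eq (t := Finset.univ.filter (· ∈ B)) _
      (by ext; simp), Finset.sum_filter]
    refine Finset.sum_congr rfl fun ξ _ => ?_
    split_ifs with h
    · rw [inner_congr_inst]
    · rfl
  set β : G → ℂ := blockPart B (pRegularPart p (ψ : G → ℂ)) with hβ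
  have hβreg : ∀ x, ¬ p ∣ orderOf x → β x = 0 := by
    intro x hx
    have h0 := blockPart_eq_zero_of_regular (B := B) hp.out hpM hB
      (θ := (ψ : G → ℂ) - pRegularPart p (ψ : G → ℂ))
      (isClassFunction_sub (isClassFunction_irr ψ)
        (isClassFunction_pRegularPart (isClassFunction_irr ψ)))
      (fun g hg => by simp [pRegularPart_apply, hg]) hx
    have hψ0 : ∀ ξ : IrrCharacter G, ξ ∈ B → classInner (ψ : G → ℂ) (ξ : G → ℂ) = 0 :=
      fun ξ hξ => inner_irr_ne (fun h => hψ (h ▸ hξ))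
    rw [hbp] at h0
    rw [hβ, hbp, ← neg_eq_zero, ← Finset.sum_neg_distrib]
    refine Eq.trans (Finset.sum_congr rfl fun ξ _ => ?_) h0
    split_ifs with h
    · rw [Chars.inner_sub_left, hψ0 ξ h]; ring
    · simp
  have hβcoef : ∀ ξ : IrrCharacter G, classInner β (ξ : G → ℂ) =
      if ξ ∈ B then classInner (pRegularPart p (ψ : G → ℂ)) (ξ : G → ℂ) else 0 := by
    intro ξ
    have hβsum : β = ∑ ξ : IrrCharacter G,
        (if ξ ∈ B then classInner (pRegularPart p (ψ : G → ℂ)) (ξ : G → ℂ) else 0) • (ξ : G → ℂ) := by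
      funext x
      rw [hβ, hbp, Finset.sum_apply]
      refine Finset.sum_congr rfl fun ξ _ => ?_
      split_ifs <;> simp
    conv_lhs => rw [hβsum, Chars.inner_sum_left]
    simp only [Chars.inner_smul_left, inner_irr, mul_ite, mul_one, mul_zero]
    rw [Finset.sum_ite_eq' Finset.univ ξ]
    simp
  have hβcl : IsClassFunction G β := by
    intro g h
    simp only [hβ, hbp, fun ξ : IrrCharacter G => isClassFunction_irr ξ g h]
  have hββ : classInner β β = classInner β (pRegularPart p (ψ : G → ℂ)) := by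
    rw [inner_eq_sum hβcl β, inner_eq_sum hβcl (pRegularPart p (ψ : G → ℂ))]
    refine Finset.sum_congr rfl fun ξ _ => ?_
    rw [hβcoef]
    split_ifs <;> simp
  have hz : classInner β (pRegularPart p (ψ : G → ℂ)) = 0 := by
    rw [inner_def]
    refine mul_eq_zero_of_right _ (Finset.sum_eq_zero fun x _ => ?_)
    rw [pRegularPart_apply]
    split_ifs with h
    · simp
    · simp [hβreg x h]
  rw [hz, inner_self_eq_zero_iff] at hββ
  have h1 := hβcoef χ
  rw [hββ, Chars.inner_zero_left, if_pos hχ] at h1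
  have h2 : (pInt p ψ χ : ℂ) = 0 := by rw [← pInt_spec, pInner, ← h1, mul_zero]
  rw [pInt_symm]
  exact_mod_cast h2

theorem pInt_congr (hpM : (p : AlgInt) ∈ M) (hB : IsPBlock M B) (χ : IrrCharacter G)
    {ψ ξ : IrrCharacter G} (hψ : ψ ∈ B) (hξ : ξ ∈ B) :
    MemLocalIdeal M ((pInt p χ ψ : ℂ) / (charDegree (ψ : G → ℂ) : ℂ) -
      (pInt p χ ξ : ℂ) / (charDegree (ξ : G → ℂ) : ℂ)) := by
  rw [← pInt_spec, ← pInt_spec, ← irr_apply_one, ← irr_apply_one, pInner_div_eq_omega,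
    pInner_div_eq_omega, ← mul_sub]
  exact MemLocalIdeal.mul_left' (invCompl_mem_loc hpM)
    (omega_sub_mem (Blocks.IsPBlock.sameBlock hB hψ hξ)
      (isLocClassFun_regular (isClassFunction_irr χ) (irr_mem_loc χ)))

/-- Whether a row of the matrix is exact at a column does not depend on the column in a block. -/
theorem pInt_exact_congr (hpM : (p : AlgInt) ∈ M) (hB : IsPBlock M B) (χ : IrrCharacter G)
    {ψ ξ : IrrCharacter G} (hψ : ψ ∈ B) (hξ : ξ ∈ B)
    (h : (p : ℤ) ^ (degVal p ψ + 1) ∣ pInt p χ ψ) :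
    (p : ℤ) ^ (degVal p ξ + 1) ∣ pInt p χ ξ := by
  rw [degVal, ← int_div_memLocalIdeal_iff hpM (irr_charDegree_ne_zero ψ)] at h
  rw [degVal, ← int_div_memLocalIdeal_iff (M := M) hpM (irr_charDegree_ne_zero ξ)]
  have := MemLocalIdeal.sub' h (pInt_congr hpM hB χ hψ hξ)
  rwa [sub_sub_cancel] at this

/-- The least exponent of `p` in the degrees of a block. -/
noncomputable def blockMin (p : ℕ) (B : Set (IrrCharacter G)) : ℕ :=
  sInf ((fun χ : IrrCharacter G => (charDegree (χ : G → ℂ)).factorization p) '' B)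

theorem blockMin_le {χ : IrrCharacter G} (hχ : χ ∈ B) : blockMin p B ≤ degVal p χ :=
  Nat.sInf_le ⟨χ, hχ, rfl⟩

theorem exists_degVal_eq_blockMin (hB : B.Nonempty) :
    ∃ χ ∈ B, degVal p χ = blockMin p B := by
  obtain ⟨χ, hχ, he⟩ := Nat.sInf_mem (hB.image
    (fun χ : IrrCharacter G => (charDegree (χ : G → ℂ)).factorization p))
  exact ⟨χ, hχ, he⟩

theorem blockHeight_eq (χ : IrrCharacter G) :
    blockHeight p B (χ : G → ℂ) = degVal p χ - blockMin p B := rfl

theorem blockHeight_eq_zero_iff {χ : IrrCharacter G} (hχ : χ ∈ B) :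
    blockHeight p B (χ : G → ℂ) = 0 ↔ degVal p χ = blockMin p B := by
  have h1 := blockHeight_eq (p := p) (B := B) χ
  have h2 := blockMin_le (p := p) hχ
  omega

theorem blockDefect_eq : blockDefect p B = (Nat.card G).factorization p - blockMin p B := rfl

theorem blockMin_le_card (hB : B.Nonempty) : blockMin p B ≤ (Nat.card G).factorization p := by
  obtain ⟨χ, -, he⟩ := exists_degVal_eq_blockMin (p := p) hB
  exact he ▸ degVal_le χ

theorem blockMin_add_blockDefect (hB : B.Nonempty) :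
    blockMin p B + blockDefect p B = (Nat.card G).factorization p := by
  have h1 := blockDefect_eq (p := p) (B := B)
  have h2 := blockMin_le_card (p := p) hB
  omega

theorem exists_pInt_exact_mem (hpM : (p : AlgInt) ∈ M) (hB : IsPBlock M B) {ψ : IrrCharacter G}
    (hψ : ψ ∈ B) : ∃ χ ∈ B, ¬ (p : ℤ) ^ (degVal p ψ + 1) ∣ pInt p χ ψ := by
  obtain ⟨χ, hχ⟩ := exists_pInt_exact hpM ψ
  refine ⟨χ, by_contra fun h => hχ ?_, hχ⟩
  rw [pInt_symm, pInt_eq_zero hpM hB hψ h]
  exact dvd_zero _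

/-- An exact row belongs to a character of height zero. -/
theorem degVal_eq_of_exact (hpM : (p : AlgInt) ∈ M) (hB : IsPBlock M B) {χ ψ : IrrCharacter G}
    (hχ : χ ∈ B) (hψ : ψ ∈ B) (h : ¬ (p : ℤ) ^ (degVal p ψ + 1) ∣ pInt p χ ψ) :
    degVal p χ = blockMin p B := by
  obtain ⟨ξ, hξ, he⟩ := exists_degVal_eq_blockMin (p := p) (Blocks.IsPBlock.nonempty hB)
  have h1 : ¬ (p : ℤ) ^ (degVal p ξ + 1) ∣ pInt p χ ξ := fun h1 =>
    h (pInt_exact_congr hpM hB χ hξ hψ h1)
  have h2 := pow_degVal_dvd_pInt' hpM χ ξ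
  by_contra hne
  have hlt : blockMin p B < degVal p χ := lt_of_le_of_ne (blockMin_le hχ) (Ne.symm hne)
  exact h1 ((pow_dvd_pow _ (by omega)).trans h2)

/-- A character of height zero has exact entries in every column of the block. -/
theorem pInt_exact_of_height_zero (hpM : (p : AlgInt) ∈ M) (hB : IsPBlock M B)
    {χ ψ : IrrCharacter G} (hχ : χ ∈ B) (hψ : ψ ∈ B) (h0 : degVal p χ = blockMin p B) :
    ¬ (p : ℤ) ^ (degVal p ψ + 1) ∣ pInt p χ ψ := by
  intro h
  obtain ⟨χ₀, hχ₀, h₀⟩ := exists_pInt_exact_mem hpM hB hχ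
  have e0 := degVal_eq_of_exact hpM hB hχ₀ hχ h₀
  apply h₀
  have h1 := pInt_exact_congr hpM hB χ hψ hχ₀ h
  rwa [pInt_symm, h0, ← e0]

/-- A character of positive height has no exact entry. -/
theorem pInt_not_exact_of_height_pos (hpM : (p : AlgInt) ∈ M) (hB : IsPBlock M B)
    {χ ψ : IrrCharacter G} (hχ : χ ∈ B) (hψ : ψ ∈ B) (h0 : blockMin p B < degVal p χ) :
    (p : ℤ) ^ (degVal p ψ + 1) ∣ pInt p χ ψ := by
  by_contra h
  exact h0.ne' (degVal_eq_of_exact hpM hB hχ hψ h)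

theorem pow_blockMin_dvd_pInt (hpM : (p : AlgInt) ∈ M) {χ : IrrCharacter G} (hχ : χ ∈ B)
    (ψ : IrrCharacter G) : (p : ℤ) ^ blockMin p B ∣ pInt p χ ψ :=
  (pow_dvd_pow _ (blockMin_le hχ)).trans (pow_degVal_dvd_pInt' hpM χ ψ)

/-- The integer `p^d [χ⁰, ψ]`, `d` the defect of the block. -/
noncomputable def dInt (p : ℕ) [Fact p.Prime] (B : Set (IrrCharacter G))
    (χ ψ : IrrCharacter G) : ℤ :=
  pInt p χ ψ / (p : ℤ) ^ blockMin p B

theorem pow_mul_dInt (hpM : (p : AlgInt) ∈ M) {χ : IrrCharacter G} (hχ : χ ∈ B)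
    (ψ : IrrCharacter G) : (p : ℤ) ^ blockMin p B * dInt p B χ ψ = pInt p χ ψ :=
  Int.mul_ediv_cancel' (pow_blockMin_dvd_pInt hpM hχ ψ)

theorem dInt_symm (χ ψ : IrrCharacter G) : dInt p B χ ψ = dInt p B ψ χ := by
  rw [dInt, dInt, pInt_symm]

theorem dInt_eq_zero (hpM : (p : AlgInt) ∈ M) (hB : IsPBlock M B) {χ ψ : IrrCharacter G}
    (hχ : χ ∈ B) (hψ : ψ ∉ B) : dInt p B χ ψ = 0 := by
  rw [dInt, pInt_eq_zero hpM hB hχ hψ, Int.zero_ediv]

theorem dInt_spec (hpM : (p : AlgInt) ∈ M) {χ : IrrCharacter G} (hχ : χ ∈ B)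
    (ψ : IrrCharacter G) :
    (dInt p B χ ψ : ℂ) =
      ((p ^ blockDefect p B : ℕ) : ℂ) * classInner (pRegularPart p (χ : G → ℂ)) (ψ : G → ℂ) := by
  apply mul_left_cancel₀ (pow_ne_zero (blockMin p B) (Nat.cast_ne_zero.mpr hp.out.ne_zero) :
    (p : ℂ) ^ blockMin p B ≠ 0)
  have h := congrArg (fun z : ℤ => (z : ℂ)) (pow_mul_dInt hpM hχ ψ)
  push_cast at h
  rw [h, ← pInt_spec, pInner, ← blockMin_add_blockDefect (B := B) ⟨χ, hχ⟩, pow_add]
  push_cast
  ring

/-- `D² = p^d D` on a block. -/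
theorem sum_dInt_mul_dInt [Fintype (IrrCharacter G)] [DecidablePred (· ∈ B)]
    (hpM : (p : AlgInt) ∈ M) (hB : IsPBlock M B) {χ ψ : IrrCharacter G} (hχ : χ ∈ B) :
    ∑ ξ ∈ Finset.univ.filter (· ∈ B), dInt p B χ ξ * dInt p B ξ ψ =
      (p : ℤ) ^ blockDefect p B * dInt p B χ ψ := by
  have h := sum_pInner_mul_pInner p (ψ := (ψ : G → ℂ)) (isClassFunction_irr χ)
  simp only [pInt_spec] at h
  have h' : ∑ ξ : IrrCharacter G, pInt p χ ξ * pInt p ξ ψ =
      (p : ℤ) ^ (Nat.card G).factorization p * pInt p χ ψ := by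
    have : ((∑ ξ : IrrCharacter G, pInt p χ ξ * pInt p ξ ψ : ℤ) : ℂ) =
        (((p : ℤ) ^ (Nat.card G).factorization p * pInt p χ ψ : ℤ) : ℂ) := by
      push_cast
      rw [h]
      push_cast
      rfl
    exact_mod_cast this
  rw [← Finset.sum_subset (Finset.subset_univ (Finset.univ.filter (· ∈ B))) (fun ξ _ hξ => by
    rw [pInt_eq_zero hpM hB hχ (by simpa using hξ), zero_mul])] at h'
  apply mul_left_cancel₀ (pow_ne_zero (blockMin p B + blockMin p B)
    (Nat.cast_ne_zero.mpr hp.out.ne_zero) : (p : ℤ) ^ (blockMin p B + blockMin p B) ≠ 0)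
  rw [Finset.mul_sum]
  rw [Finset.sum_congr rfl (g := fun ξ => pInt p χ ξ * pInt p ξ ψ) fun ξ hξ => ?_]
  · rw [h', ← blockMin_add_blockDefect (p := p) (B := B) ⟨χ, hχ⟩, ← pow_mul_dInt hpM hχ ψ]
    ring
  · rw [← pow_mul_dInt hpM hχ ξ, ← pow_mul_dInt hpM (Finset.mem_filter.mp hξ).2 ψ]
    ring

end Block

end CfsgLib.BlockOrth
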