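/-
Induced blocks read off from the numbers `p^a [χ⁰, ξ]` on a subgroup: the criterion behind the
theorems of Okuyama, Blau and Brauer's third main theorem.
-/
import Cfsg.Agent.Lib.BlockOrth.Height

set_option autoImplicit false
set_option linter.style.haveILetI false
set_option linter.unusedSectionVars false

namespace CfsgLib.BlockOrth

open Cfsg CfsgLib.Chars CfsgLib.Blocks Finset

universe u

variable {G : Type u} [Group G] [Fintype G] {M : Ideal AlgInt} [M.IsPrime]
  (H : Subgroup G) [Fintype H]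

theorem omega_restrict_eq [Fintype (ConjClasses G)] {a : G → ℂ} (ha : IsClassFunction G a)
    (ξ : H → ℂ) :
    omega ξ (fun h : H => a h) =
      ∑ C : ConjClasses G, a (classRep C) * inducedCentralChar H ξ (classRep C) := by
  classical
  have hind : ∀ g : G, inducedCentralChar H ξ g =
      ∑ h : H, if IsConj g (h : G) then ξ h / ξ 1 else 0 := by
    intro g
    rw [inducedCentralChar,
      finsum_mem_eq_sum_of_inter_support_eq (t := Finset.univ.filter fun h : H => IsConj g (h : G))
        _ (by ext; simp), Finset.sum_filter]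
  simp only [hind, Finset.mul_sum]
  rw [Finset.sum_comm, omega, Finset.sum_div]
  refine Finset.sum_congr rfl fun h _ => ?_
  rw [Finset.sum_eq_single (ConjClasses.mk (h : G))]
  · have hc : IsConj (classRep (ConjClasses.mk (h : G))) (h : G) :=
      ConjClasses.mk_eq_mk_iff_isConj.1 (mk_classRep _)
    rw [if_pos hc, classFun_of_isConj ha hc, mul_div_assoc]
  · intro C _ hC
    rw [if_neg, mul_zero]
    exact fun hc => hC (by rw [← mk_classRep C, ConjClasses.mk_eq_mk_iff_isConj.2 hc])
  · simp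

theorem omega_restrict_sub_mem {ξ : IrrCharacter H} {χ : IrrCharacter G}
    (h : ∀ g : G, MemLocalIdeal M
      (inducedCentralChar H (ξ : H → ℂ) g - centralChar (χ : G → ℂ) g))
    {a : G → ℂ} (ha : IsLocClassFun M a) :
    MemLocalIdeal M (omega (ξ : H → ℂ) (fun x : H => a x) - omega (χ : G → ℂ) a) := by
  classical
  haveI := Fintype.ofFinite (ConjClasses G)
  rw [omega_restrict_eq H ha.1, omega_eq_sum_centralChar χ ha.1, ← Finset.sum_sub_distrib]
  refine MemLocalIdeal.sum' fun C _ => ?_
  rw [← mul_sub]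
  exact MemLocalIdeal.mul_left' (ha.2 _) (h _)

variable {p : ℕ} [hp : Fact p.Prime]

theorem pRegularPart_restrict (χ : G → ℂ) (h : H) :
    pRegularPart p (fun x : H => χ x) h = pRegularPart p χ (h : G) := by
  classical
  simp only [pRegularPart_apply, Subgroup.orderOf_coe]

/-- A block of `H` with induced block defined induces `B` exactly when the number
`p^a [(χ_H)⁰, ξ] / ξ(1)` is a unit, `χ` any height zero character of `B`. -/
theorem isInducedBlock_iff (hpM : (p : AlgInt) ∈ M) {b : Set (IrrCharacter H)}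
    (hb : InducedBlockDefined M H b) {B : Set (IrrCharacter G)} (hB : IsPBlock M B)
    {χ : IrrCharacter G} (hχ : χ ∈ B) (h0 : degVal p χ = blockMin p B)
    {ξ : IrrCharacter H} (hξ : ξ ∈ b) :
    IsInducedBlock M H b B ↔
      ¬ MemLocalIdeal M (pInner p (fun x : H => (χ : G → ℂ) x) (ξ : H → ℂ) / (ξ : H → ℂ) 1) := by
  classical
  set a : G → ℂ := fun g => pRegularPart p (χ : G → ℂ) g⁻¹ with ha
  have hloc : IsLocClassFun M a := isLocClassFun_regular (isClassFunction_irr χ) (irr_mem_loc χ)
  have hres : pInner p (fun x : H => (χ : G → ℂ) x) (ξ : H → ℂ) / (ξ : H → ℂ) 1 =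
      invCompl H p * omega (ξ : H → ℂ) (fun x : H => a x) := by
    rw [pInner_div_eq_omega]
    simp only [ha, pRegularPart_restrict, InvMemClass.coe_inv]
  have hinvG := invCompl_mem_loc (G := G) (p := p) hpM
  have hinvH := invCompl_mem_loc (G := H) (p := p) hpM
  have hωG : ∀ ψ : IrrCharacter G, omega (ψ : G → ℂ) a ∈ loc M := fun ψ => omega_mem_loc ψ hloc
  have hωH : omega (ξ : H → ℂ) (fun x : H => a x) ∈ loc M := by
    refine omega_mem_loc ξ ⟨fun g h => ?_, fun g => hloc.2 _⟩
    simpa using hloc.1 (g : G) (h : G)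
  constructor
  · intro hind hmem
    rw [hres] at hmem
    have h1 := (MemLocalIdeal.mem_or_mem hinvH hωH hmem).resolve_left
      (not_memLocalIdeal_invCompl (G := H) hpM)
    have h2 := MemLocalIdeal.sub' h1
      (omega_restrict_sub_mem H (fun g => hind.2.2 ξ hξ χ hχ g) hloc)
    rw [sub_sub_cancel] at h2
    refine pInt_exact_of_height_zero hpM hB hχ hχ h0 ?_
    rw [degVal, ← int_div_memLocalIdeal_iff (M := M) hpM (irr_charDegree_ne_zero χ), ← pInt_spec,
      ← irr_apply_one, pInner_div_eq_omega]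
    exact MemLocalIdeal.mul_left' hinvG h2
  · intro hu
    obtain ⟨B', hind⟩ := hb
    obtain ⟨ψ, hψ⟩ := Blocks.IsPBlock.nonempty hind.2.1
    by_cases hχB' : χ ∈ B'
    · rwa [Blocks.IsPBlock.eq_of_mem hB hind.2.1 hχ hχB']
    · exfalso
      apply hu
      rw [hres]
      refine MemLocalIdeal.mul_left' hinvH ?_
      have h3 := omega_restrict_sub_mem H (fun g => hind.2.2 ξ hξ ψ hψ g) hloc
      have hz : invCompl G p * omega (ψ : G → ℂ) a = 0 := by
        rw [← pInner_div_eq_omega, pInt_spec, pInt_symm,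
          pInt_eq_zero hpM hind.2.1 hψ hχB']
        simp
      have hne : invCompl G p ≠ 0 := fun h => not_memLocalIdeal_invCompl (G := G) hpM
        (h ▸ MemLocalIdeal.zero')
      rw [(mul_eq_zero.mp hz).resolve_left hne, sub_zero] at h3
      exact h3

theorem exists_mem_of_inducedBlockDefined {b : Set (IrrCharacter H)}
    (hb : InducedBlockDefined M H b) : ∃ ξ, ξ ∈ b :=
  let ⟨_, h⟩ := hb
  Blocks.IsPBlock.nonempty h.1

/-- Okuyama's theorem. -/
theorem isInducedBlock_iff_eq_of_irr_restrict (hpM : (p : AlgInt) ∈ M) {b : Set (IrrCharacter H)}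
    (hb : InducedBlockDefined M H b) (χ : IrrCharacter G) (ψ : IrrCharacter H)
    (hψ : (ψ : H → ℂ) = fun h : H => (χ : G → ℂ) h)
    (hχ0 : degVal p χ = blockMin p (blockOf M (χ : G → ℂ)))
    (hψ0 : degVal p ψ = blockMin p (blockOf M (ψ : H → ℂ))) :
    IsInducedBlock M H b (blockOf M (χ : G → ℂ)) ↔ b = blockOf M (ψ : H → ℂ) := by
  obtain ⟨ξ, hξ⟩ := exists_mem_of_inducedBlockDefined H hb
  have hbB : IsPBlock M b := hb.choose_spec.1
  rw [isInducedBlock_iff H hpM hb (isPBlock_blockOf χ) (mem_blockOf_self χ) hχ0 hξ, ← hψ,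
    pInt_spec, irr_apply_one, int_div_memLocalIdeal_iff hpM (irr_charDegree_ne_zero ξ)]
  constructor
  · intro h
    by_contra hne
    refine h ?_
    rw [pInt_eq_zero hpM (isPBlock_blockOf ψ) (mem_blockOf_self ψ)
      (fun hmem => hne (Blocks.IsPBlock.eq_blockOf hbB hξ |>.trans
        (Blocks.IsPBlock.eq_blockOf (isPBlock_blockOf ψ) hmem).symm))]
    exact dvd_zero _
  · intro h
    subst h
    exact pInt_exact_of_height_zero hpM (isPBlock_blockOf ψ) (mem_blockOf_self ψ) hξ hψ0

/-- Blau's theorem. -/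
theorem exists_height_zero_constituent (hpM : (p : AlgInt) ∈ M) {b : Set (IrrCharacter H)}
    {B : Set (IrrCharacter G)} (hind : IsInducedBlock M H b B) {χ : IrrCharacter G} (hχ : χ ∈ B)
    (h0 : degVal p χ = blockMin p B) :
    ∃ ξ ∈ b, degVal p ξ = blockMin p b ∧ ∃ n : ℕ,
      classInner (fun h : H => (χ : G → ℂ) h) (ξ : H → ℂ) = (n : ℂ) ∧ ¬ p ∣ n := by
  classical
  haveI := irrFintype H
  obtain ⟨ξ, hξ⟩ := Blocks.IsPBlock.nonempty hind.1
  have hu := (isInducedBlock_iff H hpM ⟨B, hind⟩ hind.2.1 hχ h0 hξ).mp hind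
  have hres : IsCharacter H (fun h : H => (χ : G → ℂ) h) :=
    isCharacter_restrict H (isCharacter_of_irr χ.2)
  choose n hn using fun ζ : IrrCharacter H => inner_irr_right_nat hres ζ
  by_contra hall
  push Not at hall
  apply hu
  have hsum : pInner p (fun h : H => (χ : G → ℂ) h) (ξ : H → ℂ) =
      ∑ ζ : IrrCharacter H, (n ζ : ℂ) * (pInt p ζ ξ : ℂ) := by
    conv_lhs => rw [classFun_eq_sum (isClassFunction_of_isCharacter hres), pInner, pRegularPart_sum,
      Chars.inner_sum_left, Finset.mul_sum]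
    refine Finset.sum_congr rfl fun ζ _ => ?_
    rw [pRegularPart_smul, Chars.inner_smul_left, hn, ← pInt_spec, pInner]
    ring
  rw [hsum, Finset.sum_div]
  refine MemLocalIdeal.sum' fun ζ _ => ?_
  rw [mul_div_assoc, irr_apply_one]
  have hloc := pInt_div_mem_loc hpM ζ ξ
  by_cases hζ : ζ ∈ b
  · by_cases hz : degVal p ζ = blockMin p b
    · exact MemLocalIdeal.mul_right'
        ((memLocalIdeal_natCast_iff hp.out hpM _).mpr (hall ζ hζ hz (n ζ) (hn ζ))) hloc
    · refine MemLocalIdeal.mul_left' (natCast_mem_loc _) ?_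
      rw [int_div_memLocalIdeal_iff hpM (irr_charDegree_ne_zero ξ)]
      exact pInt_not_exact_of_height_pos hpM hind.1 hζ hξ
        (lt_of_le_of_ne (blockMin_le hζ) (Ne.symm hz))
  · rw [pInt_symm, pInt_eq_zero hpM hind.1 hξ hζ]
    simpa using MemLocalIdeal.zero'

end CfsgLib.BlockOrth
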