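/-
The Brauer–Feit bounds on the number and heights of the characters of a block.
-/
import Cfsg.Agent.Lib.BlockOrth.Height

set_option autoImplicit false
set_option linter.style.haveILetI false
set_option linter.unusedSectionVars false

namespace CfsgLib.BlockOrth

open Cfsg CfsgLib.Chars CfsgLib.Blocks Finset

universe u

variable {G : Type u} [Group G] [Fintype G] {p : ℕ} [hp : Fact p.Prime]
  {M : Ideal AlgInt} [M.IsPrime] {B : Set (IrrCharacter G)}

theorem sum_mem_block [Fintype (IrrCharacter G)] [DecidablePred (· ∈ B)] {α : Type*}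
    [AddCommMonoid α] (f : IrrCharacter G → α) :
    ∑ᶠ χ ∈ B, f χ = ∑ χ ∈ Finset.univ.filter (· ∈ B), f χ :=
  finsum_mem_eq_sum_of_inter_support_eq _ (by ext; simp)

/-- `p ^ height` divides the entries at a character. -/
theorem pow_height_dvd_dInt (hpM : (p : AlgInt) ∈ M) {χ ψ : IrrCharacter G} (hχ : χ ∈ B)
    (hψ : ψ ∈ B) : (p : ℤ) ^ blockHeight p B (ψ : G → ℂ) ∣ dInt p B χ ψ := by
  have h := pow_degVal_dvd_pInt hpM χ ψ
  rw [← pow_mul_dInt hpM hχ ψ, show degVal p ψ = blockMin p B + blockHeight p B (ψ : G → ℂ) by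
    have h1 := blockHeight_eq (p := p) (B := B) ψ
    have h2 := blockMin_le (p := p) hψ
    omega, pow_add] at h
  exact (mul_dvd_mul_iff_left (pow_ne_zero _ (Nat.cast_ne_zero.mpr hp.out.ne_zero))).mp h

theorem pow_succ_height_dvd_dInt (hpM : (p : AlgInt) ∈ M) (hB : IsPBlock M B)
    {χ ψ : IrrCharacter G} (hχ : χ ∈ B) (hψ : ψ ∈ B)
    (hpos : 0 < blockHeight p B (χ : G → ℂ)) :
    (p : ℤ) ^ (blockHeight p B (ψ : G → ℂ) + 1) ∣ dInt p B χ ψ := by
  have h0 : blockMin p B < degVal p χ := by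
    have h1 := blockHeight_eq (p := p) (B := B) χ
    omega
  have h := pInt_not_exact_of_height_pos hpM hB hχ hψ h0
  rw [← pow_mul_dInt hpM hχ ψ, show degVal p ψ + 1 =
      blockMin p B + (blockHeight p B (ψ : G → ℂ) + 1) by
    have h1 := blockHeight_eq (p := p) (B := B) ψ
    have h2 := blockMin_le (p := p) hψ
    omega, pow_add] at h
  exact (mul_dvd_mul_iff_left (pow_ne_zero _ (Nat.cast_ne_zero.mpr hp.out.ne_zero))).mp h

/-- The row of a height zero character has exact entries, in particular no zero. -/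
theorem not_pow_succ_height_dvd_dInt (hpM : (p : AlgInt) ∈ M) (hB : IsPBlock M B)
    {χ ψ : IrrCharacter G} (hχ : χ ∈ B) (hψ : ψ ∈ B) (h0 : blockHeight p B (χ : G → ℂ) = 0) :
    ¬ (p : ℤ) ^ (blockHeight p B (ψ : G → ℂ) + 1) ∣ dInt p B χ ψ := by
  intro h
  refine pInt_exact_of_height_zero hpM hB hχ hψ ((blockHeight_eq_zero_iff hχ).mp h0) ?_
  rw [← pow_mul_dInt hpM hχ ψ, show degVal p ψ + 1 =
      blockMin p B + (blockHeight p B (ψ : G → ℂ) + 1) by
    have h1 := blockHeight_eq (p := p) (B := B) ψ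
    have h2 := blockMin_le (p := p) hψ
    omega, pow_add]
  exact mul_dvd_mul_left _ h

theorem dInt_ne_zero (hpM : (p : AlgInt) ∈ M) (hB : IsPBlock M B)
    {χ ψ : IrrCharacter G} (hχ : χ ∈ B) (hψ : ψ ∈ B) (h0 : blockHeight p B (χ : G → ℂ) = 0) :
    dInt p B χ ψ ≠ 0 := fun h =>
  not_pow_succ_height_dvd_dInt hpM hB hχ hψ h0 (h ▸ dvd_zero _)

theorem exists_blockHeight_eq_zero (hB : IsPBlock M B) :
    ∃ χ ∈ B, blockHeight p B (χ : G → ℂ) = 0 := by
  obtain ⟨χ, hχ, he⟩ := exists_degVal_eq_blockMin (p := p) (Blocks.IsPBlock.nonempty hB)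
  exact ⟨χ, hχ, (blockHeight_eq_zero_iff hχ).mpr he⟩

section Sums

variable [Fintype (IrrCharacter G)] [DecidablePred (· ∈ B)]

theorem sum_dInt_sq_erase [DecidableEq (IrrCharacter G)] (hpM : (p : AlgInt) ∈ M)
    (hB : IsPBlock M B) {χ : IrrCharacter G} (hχ : χ ∈ B) :
    ∑ ξ ∈ (Finset.univ.filter (· ∈ B)).erase χ, dInt p B χ ξ ^ 2 =
      dInt p B χ χ * ((p : ℤ) ^ blockDefect p B - dInt p B χ χ) := by
  have h := sum_dInt_mul_dInt (ψ := χ) hpM hB hχ
  rw [← Finset.add_sum_erase _ _ (Finset.mem_filter.mpr ⟨Finset.mem_univ χ, hχ⟩)] at h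
  have e : ∀ ξ, dInt p B χ ξ ^ 2 = dInt p B χ ξ * dInt p B ξ χ := fun ξ => by
    rw [dInt_symm ξ χ, sq]
  simp only [e]
  linarith

theorem four_mul_sum_dInt_sq_erase_le [DecidableEq (IrrCharacter G)] (hpM : (p : AlgInt) ∈ M)
    (hB : IsPBlock M B) {χ : IrrCharacter G} (hχ : χ ∈ B) :
    4 * ∑ ξ ∈ (Finset.univ.filter (· ∈ B)).erase χ, dInt p B χ ξ ^ 2 ≤
      ((p : ℤ) ^ blockDefect p B) ^ 2 := by
  rw [sum_dInt_sq_erase hpM hB hχ]
  nlinarith [sq_nonneg (2 * dInt p B χ χ - (p : ℤ) ^ blockDefect p B)]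

theorem sq_pow_le_sq_dInt {χ ξ : IrrCharacter G} {k : ℕ} (h : (p : ℤ) ^ k ∣ dInt p B χ ξ)
    (hne : dInt p B χ ξ ≠ 0) : ((p ^ k : ℕ) : ℤ) ^ 2 ≤ dInt p B χ ξ ^ 2 := by
  rw [← sq_abs (dInt p B χ ξ)]
  refine pow_le_pow_left₀ (by positivity) ?_ 2
  push_cast
  exact Int.le_of_dvd (abs_pos.mpr hne) ((dvd_abs _ _).mpr h)

end Sums

/-- Brauer–Feit, weighted form. -/
theorem sum_pow_height_le (hpM : (p : AlgInt) ∈ M) (hB : IsPBlock M B) :
    4 * ∑ᶠ χ ∈ B, p ^ (2 * blockHeight p B (χ : G → ℂ)) ≤ p ^ (2 * blockDefect p B) + 4 := by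
  classical
  haveI := irrFintype G
  obtain ⟨χ₀, hχ₀, h0⟩ := exists_blockHeight_eq_zero (p := p) hB
  rw [sum_mem_block, ← Finset.add_sum_erase _ _ (Finset.mem_filter.mpr ⟨Finset.mem_univ χ₀, hχ₀⟩), h0]
  have key : (4 * ∑ ξ ∈ (Finset.univ.filter (· ∈ B)).erase χ₀,
      ((p ^ (2 * blockHeight p B (ξ : G → ℂ)) : ℕ) : ℤ)) ≤ ((p : ℤ) ^ blockDefect p B) ^ 2 := by
    refine le_trans ?_ (four_mul_sum_dInt_sq_erase_le hpM hB hχ₀)
    refine mul_le_mul_of_nonneg_left (Finset.sum_le_sum fun ξ hξ => ?_) (by norm_num)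
    have hξB : ξ ∈ B := (Finset.mem_filter.mp (Finset.mem_of_mem_erase hξ)).2
    rw [mul_comm, pow_mul]
    push_cast
    have := sq_pow_le_sq_dInt (pow_height_dvd_dInt hpM hχ₀ hξB) (dInt_ne_zero hpM hB hχ₀ hξB h0)
    push_cast at this
    exact this
  have key' : 4 * ∑ ξ ∈ (Finset.univ.filter (· ∈ B)).erase χ₀,
      p ^ (2 * blockHeight p B (ξ : G → ℂ)) ≤ p ^ (2 * blockDefect p B) := by
    rw [mul_comm 2 (blockDefect p B), pow_mul]
    exact_mod_cast key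
  rw [mul_zero, pow_zero, Nat.mul_add, mul_one, add_comm]
  exact Nat.add_le_add_right key' 4

/-- Brauer–Feit. -/
theorem four_mul_card_le (hpM : (p : AlgInt) ∈ M) (hB : IsPBlock M B) :
    4 * Nat.card B ≤ p ^ (2 * blockDefect p B) + 4 := by
  classical
  haveI := irrFintype G
  refine le_trans ?_ (sum_pow_height_le hpM hB)
  rw [sum_mem_block, Nat.card_eq_fintype_card, Fintype.card_subtype, Finset.card_eq_sum_ones]
  exact Nat.mul_le_mul_left 4 (Finset.sum_le_sum fun ξ _ => Nat.one_le_pow _ _ hp.out.pos)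

/-- A positive height is at most the defect minus two. -/
theorem height_add_two_le (hpM : (p : AlgInt) ∈ M) (hB : IsPBlock M B) {χ : IrrCharacter G}
    (hχ : χ ∈ B) (hpos : 0 < blockHeight p B (χ : G → ℂ)) :
    blockHeight p B (χ : G → ℂ) + 2 ≤ blockDefect p B := by
  classical
  haveI := irrFintype G
  obtain ⟨χ₀, hχ₀, h0⟩ := exists_blockHeight_eq_zero (p := p) hB
  have hne : χ₀ ≠ χ := fun h => by rw [h] at h0; omega
  have hne' : dInt p B χ χ₀ ≠ 0 := by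
    rw [dInt_symm]; exact dInt_ne_zero hpM hB hχ₀ hχ h0
  have hs := sum_dInt_sq_erase hpM hB hχ
  have hge : dInt p B χ χ₀ ^ 2 ≤
      ∑ ξ ∈ (Finset.univ.filter (· ∈ B)).erase χ, dInt p B χ ξ ^ 2 :=
    Finset.single_le_sum (f := fun ξ => dInt p B χ ξ ^ 2) (fun ξ _ => sq_nonneg _)
      (Finset.mem_erase.mpr ⟨hne, Finset.mem_filter.mpr ⟨Finset.mem_univ _, hχ₀⟩⟩)
  have hsq : 0 < dInt p B χ χ₀ ^ 2 := by positivity
  have hpd : 0 ≤ (p : ℤ) ^ blockDefect p B := by positivity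
  have hm : 0 < dInt p B χ χ ∧ dInt p B χ χ < (p : ℤ) ^ blockDefect p B := by
    constructor <;> nlinarith
  have hdvd := pow_succ_height_dvd_dInt hpM hB hχ hχ hpos
  have hlt : (p : ℤ) ^ (blockHeight p B (χ : G → ℂ) + 1) < (p : ℤ) ^ blockDefect p B :=
    lt_of_le_of_lt (Int.le_of_dvd hm.1 hdvd) hm.2
  have := (pow_lt_pow_iff_right₀ (show (1 : ℤ) < p by exact_mod_cast hp.out.one_lt)).mp hlt
  omega

theorem height_eq_zero_of_defect_le_one (hpM : (p : AlgInt) ∈ M) (hB : IsPBlock M B)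
    {χ : IrrCharacter G} (hχ : χ ∈ B) (hd : blockDefect p B ≤ 1) :
    blockHeight p B (χ : G → ℂ) = 0 := by
  by_contra h
  have := height_add_two_le hpM hB hχ (Nat.pos_of_ne_zero h)
  omega

/-- A block with a character of positive height has at most `p^(2d-2)/2` characters. -/
theorem two_mul_card_le (hpM : (p : AlgInt) ∈ M) (hB : IsPBlock M B) {χ : IrrCharacter G}
    (hχ : χ ∈ B) (hpos : 0 < blockHeight p B (χ : G → ℂ)) :
    2 * Nat.card B ≤ p ^ (2 * blockDefect p B - 2) := by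
  classical
  haveI := irrFintype G
  obtain ⟨χ₀, hχ₀, h0⟩ := exists_blockHeight_eq_zero (p := p) hB
  set S := Finset.univ.filter (· ∈ B) with hS
  have hA : 4 * ∑ ξ ∈ S.erase χ₀,
      (if blockHeight p B (ξ : G → ℂ) = 0 then (1 : ℤ) else (p : ℤ) ^ 2) ≤
      ((p : ℤ) ^ blockDefect p B) ^ 2 := by
    refine le_trans ?_ (four_mul_sum_dInt_sq_erase_le hpM hB hχ₀)
    refine mul_le_mul_of_nonneg_left (Finset.sum_le_sum fun ξ hξ => ?_) (by norm_num)
    have hξB : ξ ∈ B := (Finset.mem_filter.mp (Finset.mem_of_mem_erase hξ)).2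
    have hne := dInt_ne_zero hpM hB hχ₀ hξB h0
    split_ifs with hh
    · have : 0 < dInt p B χ₀ ξ ^ 2 := by positivity
      omega
    · have := sq_pow_le_sq_dInt (k := 1)
        ((pow_dvd_pow _ (Nat.one_le_iff_ne_zero.mpr hh)).trans (pow_height_dvd_dInt hpM hχ₀ hξB)) hne
      simpa using this
  have hB' : 4 * ∑ ξ ∈ S.erase χ,
      (if blockHeight p B (ξ : G → ℂ) = 0 then (p : ℤ) ^ 2 else 0) ≤
      ((p : ℤ) ^ blockDefect p B) ^ 2 := by
    refine le_trans ?_ (four_mul_sum_dInt_sq_erase_le hpM hB hχ)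
    refine mul_le_mul_of_nonneg_left (Finset.sum_le_sum fun ξ hξ => ?_) (by norm_num)
    have hξB : ξ ∈ B := (Finset.mem_filter.mp (Finset.mem_of_mem_erase hξ)).2
    split_ifs with hh
    · have h1 := pow_succ_height_dvd_dInt hpM hB hχ hξB hpos
      rw [hh] at h1
      have h2 : dInt p B χ ξ ≠ 0 := by
        rw [dInt_symm]; exact dInt_ne_zero hpM hB hξB hχ hh
      have := sq_pow_le_sq_dInt (k := 1) (by simpa using h1) h2
      simpa using this
    · exact sq_nonneg _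
  have hmem : ∀ ξ : IrrCharacter G, ξ ∈ B → ξ ∈ S := fun ξ h =>
    Finset.mem_filter.mpr ⟨Finset.mem_univ _, h⟩
  rw [Finset.sum_erase_eq_sub (hmem _ hχ₀), if_pos h0] at hA
  rw [Finset.sum_erase_eq_sub (hmem _ hχ), if_neg hpos.ne', sub_zero] at hB'
  have hsum : ∑ ξ ∈ S, (if blockHeight p B (ξ : G → ℂ) = 0 then (1 : ℤ) else (p : ℤ) ^ 2) +
      ∑ ξ ∈ S, (if blockHeight p B (ξ : G → ℂ) = 0 then (p : ℤ) ^ 2 else 0) =
      (p : ℤ) ^ 2 * (S.card : ℤ) +
        ∑ ξ ∈ S, (if blockHeight p B (ξ : G → ℂ) = 0 then (1 : ℤ) else 0) := by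
    rw [← Finset.sum_add_distrib, mul_comm, ← nsmul_eq_mul, ← Finset.sum_const,
      ← Finset.sum_add_distrib]
    refine Finset.sum_congr rfl fun ξ _ => ?_
    split_ifs <;> ring
  have hone : (1 : ℤ) ≤ ∑ ξ ∈ S, (if blockHeight p B (ξ : G → ℂ) = 0 then (1 : ℤ) else 0) := by
    refine le_trans ?_ (Finset.single_le_sum
      (f := fun ξ : IrrCharacter G =>
        if blockHeight p B (ξ : G → ℂ) = 0 then (1 : ℤ) else 0)
      (fun ξ _ => by split_ifs <;> norm_num) (hmem _ hχ₀))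
    simp [h0]
  have hd : 2 ≤ blockDefect p B := by
    have := height_add_two_le hpM hB hχ hpos
    omega
  have key : 2 * (p : ℤ) ^ 2 * (S.card : ℤ) ≤ ((p : ℤ) ^ blockDefect p B) ^ 2 := by nlinarith
  have key' : 2 * p ^ 2 * S.card ≤ (p ^ blockDefect p B) ^ 2 := by exact_mod_cast key
  rw [Nat.card_eq_fintype_card, Fintype.card_subtype]
  refine Nat.le_of_mul_le_mul_left ?_ (pow_pos hp.out.pos 2)
  rw [← pow_add, show 2 + (2 * blockDefect p B - 2) = blockDefect p B * 2 by omega, pow_mul]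
  linarith

end CfsgLib.BlockOrth
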