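/-
The exact power of `p` in the sum of the squared degrees of a block, and the number of
irreducible Brauer characters as the trace of the projection.
-/
import Cfsg.Agent.Lib.BlockOrth.BrauerFeit

set_option autoImplicit false
set_option linter.style.haveILetI false
set_option linter.unusedSectionVars false

namespace CfsgLib.BlockOrth

open Cfsg CfsgLib.Chars CfsgLib.Blocks Finset
open scoped ComplexConjugate

universe u

variable {G : Type u} [Group G] [Fintype G] {p : ℕ} [hp : Fact p.Prime]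
  {M : Ideal AlgInt} [M.IsPrime] {B : Set (IrrCharacter G)}

theorem sum_pInt_mul_degree [Fintype (IrrCharacter G)] (χ : IrrCharacter G) :
    ∑ ψ : IrrCharacter G, (pInt p χ ψ : ℂ) * (ψ : G → ℂ) 1 =
      ((p ^ (Nat.card G).factorization p : ℕ) : ℂ) * (χ : G → ℂ) 1 := by
  have h := congrFun (classFun_eq_sum (isClassFunction_pRegularPart (p := p)
    (isClassFunction_irr χ))) 1
  rw [pRegularPart_apply, if_pos (by simp [hp.out.not_dvd_one]), Finset.sum_apply] at h
  rw [h, Finset.mul_sum]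
  refine Finset.sum_congr rfl fun ψ _ => ?_
  rw [← pInt_spec, pInner, Pi.smul_apply, smul_eq_mul]
  ring

theorem sum_degree_sq_factorization (hpM : (p : AlgInt) ∈ M) (hB : IsPBlock M B) :
    (∑ᶠ χ ∈ B, charDegree (χ : G → ℂ) ^ 2).factorization p =
      (Nat.card G).factorization p + blockMin p B := by
  classical
  haveI := irrFintype G
  rw [sum_mem_block]
  set S : ℕ := ∑ χ ∈ Finset.univ.filter (· ∈ B), charDegree (χ : G → ℂ) ^ 2 with hS
  set a := (Nat.card G).factorization p with ha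
  set v := blockMin p B with hv
  obtain ⟨c, hc, hsum⟩ := exists_loc_sum_pInt (G := G) (M := M) hpM
  have hzero : ∀ ψ ∈ Finset.univ.filter (· ∈ B), invCompl G p * (ψ : G → ℂ) 1 =
      ∑ χ ∈ Finset.univ.filter (· ∈ B), c χ * (pInt p χ ψ : ℂ) := by
    intro ψ hψ
    rw [← hsum ψ]
    refine (Finset.sum_subset (Finset.subset_univ _) fun χ _ hχ => ?_).symm
    rw [pInt_symm, pInt_eq_zero hpM hB (Finset.mem_filter.mp hψ).2 (by simpa using hχ)]
    simp
  set T : ℂ := ∑ χ ∈ Finset.univ.filter (· ∈ B),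
    c χ * (((charDegree (χ : G → ℂ) / p ^ v : ℕ)) : ℂ) with hT
  have hdeg : ∀ χ ∈ Finset.univ.filter (· ∈ B), (χ : G → ℂ) 1 =
      ((p ^ v : ℕ) : ℂ) * (((charDegree (χ : G → ℂ) / p ^ v : ℕ)) : ℂ) := by
    intro χ hχ
    rw [irr_apply_one, ← Nat.cast_mul, Nat.mul_div_cancel']
    exact (pow_dvd_pow p (blockMin_le (Finset.mem_filter.mp hχ).2)).trans (Nat.ordProj_dvd _ _)
  have hST : invCompl G p * (S : ℂ) = ((p ^ (a + v) : ℕ) : ℂ) * T := by
    have h1 : invCompl G p * (S : ℂ) = ∑ ψ ∈ Finset.univ.filter (· ∈ B),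
        ∑ χ ∈ Finset.univ.filter (· ∈ B), c χ * ((pInt p χ ψ : ℂ) * (ψ : G → ℂ) 1) := by
      rw [hS, Nat.cast_sum, Finset.mul_sum]
      refine Finset.sum_congr rfl fun ψ hψ => ?_
      rw [Nat.cast_pow, ← irr_apply_one, sq, ← mul_assoc, hzero ψ hψ, Finset.sum_mul]
      exact Finset.sum_congr rfl fun χ _ => mul_assoc _ _ _
    rw [h1, Finset.sum_comm, hT, Finset.mul_sum]
    refine Finset.sum_congr rfl fun χ hχ => ?_
    rw [← Finset.mul_sum, Finset.sum_subset (Finset.subset_univ _) (fun ψ _ hψ => by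
      rw [pInt_eq_zero hpM hB (Finset.mem_filter.mp hχ).2 (by simpa using hψ)]; simp),
      sum_pInt_mul_degree, hdeg χ hχ]
    push_cast
    ring
  have hTmem : T ∈ loc M := sum_mem fun χ _ => mul_mem (hc χ) (natCast_mem_loc _)
  obtain ⟨ψ, hψ, hψ0⟩ := exists_degVal_eq_blockMin (p := p) (Blocks.IsPBlock.nonempty hB)
  have hT0 : ¬ MemLocalIdeal M T := by
    intro hTi
    refine not_memLocalIdeal_invCompl (G := G) hpM ?_
    set K : ℂ := (pInt p ψ ψ : ℂ) / (charDegree (ψ : G → ℂ) : ℂ) with hK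
    have hKmem : K ∈ loc M := pInt_div_mem_loc hpM ψ ψ
    have hp0 : ((p ^ v : ℕ) : ℂ) ≠ 0 := by simp [hp.out.ne_zero]
    have h1 : invCompl G p * (((charDegree (ψ : G → ℂ) / p ^ v : ℕ)) : ℂ) =
        ∑ χ ∈ Finset.univ.filter (· ∈ B), c χ * ((((charDegree (χ : G → ℂ) / p ^ v : ℕ)) : ℂ) *
          ((pInt p ψ χ : ℂ) / (charDegree (χ : G → ℂ) : ℂ))) := by
      apply mul_left_cancel₀ hp0
      rw [← mul_assoc, mul_comm _ (invCompl G p), mul_assoc,
        ← hdeg ψ (Finset.mem_filter.mpr ⟨Finset.mem_univ _, hψ⟩),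
        hzero ψ (Finset.mem_filter.mpr ⟨Finset.mem_univ _, hψ⟩), Finset.mul_sum]
      refine Finset.sum_congr rfl fun χ hχ => ?_
      have h2 : (charDegree (χ : G → ℂ) : ℂ) ≠ 0 := by simp [irr_charDegree_ne_zero]
      rw [mul_left_comm, ← mul_assoc ((p ^ v : ℕ) : ℂ), ← hdeg χ hχ, irr_apply_one,
        mul_div_cancel₀ _ h2, pInt_symm]
    have h3 : MemLocalIdeal M (invCompl G p * (((charDegree (ψ : G → ℂ) / p ^ v : ℕ)) : ℂ)) := by
      rw [h1, show ∑ χ ∈ Finset.univ.filter (· ∈ B), c χ *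
          ((((charDegree (χ : G → ℂ) / p ^ v : ℕ)) : ℂ) *
            ((pInt p ψ χ : ℂ) / (charDegree (χ : G → ℂ) : ℂ))) = K * T +
        ∑ χ ∈ Finset.univ.filter (· ∈ B), c χ * ((((charDegree (χ : G → ℂ) / p ^ v : ℕ)) : ℂ) *
            ((pInt p ψ χ : ℂ) / (charDegree (χ : G → ℂ) : ℂ) - K)) by
          rw [hT, Finset.mul_sum, ← Finset.sum_add_distrib]
          exact Finset.sum_congr rfl fun χ _ => by ring]
      refine MemLocalIdeal.add' (MemLocalIdeal.mul_left' hKmem hTi)
        (MemLocalIdeal.sum' fun χ hχ => MemLocalIdeal.mul_left' (hc χ)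
          (MemLocalIdeal.mul_left' (natCast_mem_loc _) ?_))
      exact pInt_congr hpM hB ψ (Finset.mem_filter.mp hχ).2 hψ
    refine (MemLocalIdeal.mem_or_mem (invCompl_mem_loc hpM) (natCast_mem_loc _) h3).resolve_right ?_
    rw [memLocalIdeal_natCast_iff hp.out hpM, hv, ← hψ0]
    exact Nat.not_dvd_ordCompl hp.out (irr_charDegree_ne_zero ψ)
  -- compare valuations
  have hm0 : ((Nat.card G / p ^ a : ℕ) : ℂ) ≠ 0 :=
    Nat.cast_ne_zero.mpr (Nat.ordCompl_pos p Nat.card_pos.ne').ne'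
  have hS' : ((S : ℤ) : ℂ) / ((p ^ (a + v) : ℕ) : ℂ) = ((Nat.card G / p ^ a : ℕ) : ℂ) * T := by
    have hp0 : ((p ^ (a + v) : ℕ) : ℂ) ≠ 0 := by simp [hp.out.ne_zero]
    rw [div_eq_iff hp0, mul_assoc, mul_comm T, ← hST, invCompl, mul_inv_cancel_left₀ hm0]
    norm_cast
  have hd0 : p ^ (a + v) ≠ 0 := by simp [hp.out.ne_zero]
  have hfac : (p ^ (a + v)).factorization p = a + v := by
    rw [hp.out.factorization_pow, Finsupp.single_eq_same]
  have h1 : (p : ℤ) ^ (a + v) ∣ (S : ℤ) := by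
    have := int_div_mem_loc (M := M) (p := p) hpM hd0 (n := (S : ℤ))
      (by rw [hS']; exact mul_mem (natCast_mem_loc _) hTmem)
    rwa [hfac] at this
  have h2 : ¬ (p : ℤ) ^ (a + v + 1) ∣ (S : ℤ) := by
    intro h
    have h' : MemLocalIdeal M (((S : ℤ) : ℂ) / ((p ^ (a + v) : ℕ) : ℂ)) := by
      rw [int_div_memLocalIdeal_iff hpM hd0, hfac]; exact h
    rw [hS'] at h'
    rcases MemLocalIdeal.mem_or_mem (natCast_mem_loc _) hTmem h' with h'' | h''
    · exact Nat.not_dvd_ordCompl hp.out Nat.card_pos.ne'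
        ((memLocalIdeal_natCast_iff hp.out hpM _).mp h'')
    · exact hT0 h''
  have h1' : p ^ (a + v) ∣ S := by exact_mod_cast h1
  have h2' : ¬ p ^ (a + v + 1) ∣ S := fun h => h2 (by exact_mod_cast h)
  have hS0 : S ≠ 0 := fun h => h2' (h ▸ dvd_zero _)
  rw [hp.out.pow_dvd_iff_le_factorization hS0] at h1' h2'
  omega

/-- The trace formula for the number of irreducible Brauer characters. -/
theorem blockRank_eq_sum [Fintype (IrrCharacter G)] [DecidablePred (· ∈ B)]
    (hpM : (p : AlgInt) ∈ M) (hB : IsPBlock M B) :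
    (blockRank p B : ℂ) =
      ∑ χ ∈ Finset.univ.filter (· ∈ B), classInner (pRegularPart p (χ : G → ℂ)) (χ : G → ℂ) := by
  classical
  have hortho : ∀ χ ψ : IrrCharacter G, χ ∈ B → ψ ∉ B →
      classInner (pRegularPart p (χ : G → ℂ)) (ψ : G → ℂ) = 0 := by
    intro χ ψ hχ hψ
    have h := pInt_spec (p := p) χ ψ
    rw [pInt_eq_zero hpM hB hχ hψ, pInner, Int.cast_zero] at h
    exact (mul_eq_zero.mp h).resolve_left (by simp [hp.out.ne_zero])
  let T : (↥B → ℂ) →ₗ[ℂ] (G → ℂ) :=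
    Fintype.linearCombination ℂ fun χ : ↥B => pRegularPart p ((χ : IrrCharacter G) : G → ℂ)
  let Q : Matrix ↥B ↥B ℂ := Matrix.of fun ψ χ =>
    classInner (pRegularPart p ((χ : IrrCharacter G) : G → ℂ)) ((ψ : IrrCharacter G) : G → ℂ)
  let E : (↥B → ℂ) →ₗ[ℂ] (↥B → ℂ) := Matrix.toLin' Q
  have hTapply : ∀ a, T a = ∑ χ : ↥B, a χ • pRegularPart p ((χ : IrrCharacter G) : G → ℂ) :=
    fun a => Fintype.linearCombination_apply ℂ _ a
  have hinner : ∀ a (ψ : ↥B), classInner (T a) ((ψ : IrrCharacter G) : G → ℂ) = E a ψ := by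
    intro a ψ
    rw [hTapply, Chars.inner_sum_left]
    simp [E, Q, Matrix.mulVec, dotProduct, Chars.inner_smul_left, mul_comm]
  have hTcl : ∀ a, IsClassFunction G (T a) := fun a => by
    rw [hTapply]
    exact isClassFunction_sum _ fun χ _ =>
      isClassFunction_smul _ (isClassFunction_pRegularPart (isClassFunction_irr _))
  have hker : LinearMap.ker T = LinearMap.ker E := by
    ext a
    simp only [LinearMap.mem_ker]
    refine ⟨fun h => funext fun ψ => ?_, fun h => eq_zero_of_inner_irr (hTcl a) fun ψ => ?_⟩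
    · rw [← hinner, h, Chars.inner_zero_left, Pi.zero_apply]
    · by_cases hψ : ψ ∈ B
      · rw [hinner a ⟨ψ, hψ⟩, h, Pi.zero_apply]
      · rw [hTapply, Chars.inner_sum_left]
        refine Finset.sum_eq_zero fun χ _ => ?_
        rw [Chars.inner_smul_left, hortho _ ψ χ.2 hψ, mul_zero]
  have hQ : Q * Q = Q := by
    ext ψ χ
    simp only [Matrix.mul_apply, Q, Matrix.of_apply]
    have h := inner_eq_sum (isClassFunction_pRegularPart (p := p)
      (isClassFunction_irr (χ : IrrCharacter G))) (pRegularPart p ((ψ : IrrCharacter G) : G → ℂ))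
    rw [classInner_pRegularPart_right, pRegularPart_pRegularPart] at h
    simp only [inner_conj, classInner_pRegularPart_right] at h
    rw [h, ← Finset.sum_subset (Finset.subset_univ (Finset.univ.filter (· ∈ B))) (fun ξ _ hξ => by
      rw [hortho _ ξ χ.2 (by simpa using hξ), zero_mul]),
      Finset.sum_subtype (p := fun ξ => ξ ∈ B) _ (by simp) fun ξ =>
        classInner (pRegularPart p ((χ : IrrCharacter G) : G → ℂ)) (ξ : G → ℂ) *
          classInner (pRegularPart p (ξ : G → ℂ)) ((ψ : IrrCharacter G) : G → ℂ)]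
    exact Finset.sum_congr rfl fun ξ _ => mul_comm _ _
  have hproj : LinearMap.IsProj (LinearMap.range E) E := by
    refine ⟨fun x => LinearMap.mem_range_self E x, ?_⟩
    rintro x ⟨y, rfl⟩
    show (E * E) y = E y
    rw [show E * E = E by simp only [E, Module.End.mul_eq_comp, ← Matrix.toLin'_mul, hQ]]
  have hrank : blockRank p B = Module.finrank ℂ (LinearMap.range E) := by
    have h1 : LinearMap.range T =
        Submodule.span ℂ ((fun χ : IrrCharacter G => pRegularPart p (χ : G → ℂ)) '' B) := by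
      rw [Fintype.range_linearCombination, Set.image_eq_range]
    rw [blockRank, ← h1]
    have e1 := LinearMap.finrank_range_add_finrank_ker T
    have e2 := LinearMap.finrank_range_add_finrank_ker E
    rw [hker] at e1
    omega
  rw [hrank, ← hproj.trace, LinearMap.trace_eq_matrix_trace ℂ (Pi.basisFun ℂ ↥B),
    LinearMap.toMatrix_eq_toMatrix', LinearMap.toMatrix'_toLin', Matrix.trace,
    Finset.sum_subtype (p := fun ξ => ξ ∈ B) _ (by simp)
      fun ξ : IrrCharacter G => classInner (pRegularPart p (ξ : G → ℂ)) (ξ : G → ℂ)]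
  exact Finset.sum_congr rfl fun χ _ => rfl

end CfsgLib.BlockOrth
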