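import Cfsg.Agent.Lib.Blocks.NormalBlocks
import Cfsg.Agent.Lib.Blocks.NormalPPrime

/-!
# Blocks and the centralizer of a normal `p`-subgroup
-/

set_option linter.unusedSectionVars false
set_option linter.style.haveILetI false

namespace CfsgLib.BlockOrth

open Cfsg CfsgLib.Chars CfsgLib.Blocks

variable {G : Type*} [Group G] [Fintype G] {M : Ideal AlgInt} [M.IsPrime] {p : ℕ} [Fact p.Prime]

/-- Characters lying over characters of one block of `C_G(P)` lie in one block of `G`. -/
theorem sameBlock_of_constituent_centralizer (hpM : (p : AlgInt) ∈ M) {P : Subgroup G} [P.Normal]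
    (hP : IsPGroup p P) (C : Subgroup G) [C.Normal] [Fintype C]
    (hC : C = Subgroup.centralizer (P : Set G)) {χ ψ : IrrCharacter G} {θ η : IrrCharacter C}
    (hθ : classInner (fun n : C => (χ : G → ℂ) n) (θ : C → ℂ) ≠ 0)
    (hη : classInner (fun n : C => (ψ : G → ℂ) n) (η : C → ℂ) ≠ 0)
    (h : SameBlock M (θ : C → ℂ) (η : C → ℂ)) :
    SameBlock M (χ : G → ℂ) (ψ : G → ℂ) := by
  intro g
  by_cases hg : g ∈ C
  · have hsupp : ∀ x, x ∉ C → classInd g x = 0 := fun x hx => by
      rw [classInd_apply, if_neg]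
      intro hc
      obtain ⟨c, rfl⟩ := isConj_iff.mp hc
      exact hx (Subgroup.Normal.conj_mem inferInstance g hg c)
    rw [← omega_classInd, ← omega_classInd,
      ← omega_eq_omega_constituent C (isClassFunction_classInd g) hsupp χ θ hθ,
      ← omega_eq_omega_constituent C (isClassFunction_classInd g) hsupp ψ η hη]
    exact omega_sub_mem h (isLocClassFun_resFun C (isLocClassFun_classInd g))
  · have hnot : ∀ x, IsConj g x → x ∉ Subgroup.centralizer (P : Set G) := fun x hx hx' => by
      obtain ⟨c, rfl⟩ := isConj_iff.mp hx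
      refine hg ?_
      have := Subgroup.Normal.conj_mem (inferInstance : C.Normal) _ (hC ▸ hx') c⁻¹
      simpa [mul_assoc] using this
    exact MemLocalIdeal.sub' (centralChar_mem_of_not_meet hpM hP hnot χ)
      (centralChar_mem_of_not_meet hpM hP hnot ψ)

/-- A `p`-group has one block. -/
theorem sameBlock_of_isPGroup (hpM : (p : AlgInt) ∈ M) (hG : IsPGroup p G) (χ ψ : IrrCharacter G) :
    SameBlock M (χ : G → ℂ) (ψ : G → ℂ) := by
  classical
  haveI : Fintype (⊥ : Subgroup G) := Fintype.ofFinite _
  obtain ⟨k, hk⟩ := IsPGroup.iff_card.mp hG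
  obtain ⟨θ, hθ⟩ := exists_constituent_restrict (⊥ : Subgroup G) χ
  obtain ⟨η, hη⟩ := exists_constituent_restrict (⊥ : Subgroup G) ψ
  have : θ = η := by
    have hc : ∀ ξ : IrrCharacter (⊥ : Subgroup G), charDegree (ξ : (⊥ : Subgroup G) → ℂ) = 1 := by
      intro ξ
      obtain ⟨n, -, hn, hd⟩ := irr_degree_dvd_card ξ.2
      rw [Subgroup.card_bot, Nat.dvd_one] at hd
      rw [← charDegree_cast, hd] at hn
      exact_mod_cast hn
    refine Subtype.ext (funext fun x => ?_)
    rw [Subsingleton.elim x 1, ← charDegree_cast, ← charDegree_cast, hc, hc]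
  exact sameBlock_of_common_constituent (k := k) hpM ⊥ (by rw [Subgroup.index_bot, hk]) hθ
    (this ▸ hη)

/-- The idempotent of a block is supported on the centralizer of any normal `p`-subgroup. -/
theorem blockCoeff_eq_zero_of_notMem_centralizer (hpM : (p : AlgInt) ∈ M) {P : Subgroup G}
    [P.Normal] (hP : IsPGroup p P) {B : Set (IrrCharacter G)} (hB : IsPBlock M B) {g : G}
    (hg : g ∉ Subgroup.centralizer (P : Set G)) : blockCoeff B g = 0 := by
  classical
  obtain ⟨C, hC⟩ : ∃ C : Subgroup G, C = Subgroup.centralizer (P : Set G) := ⟨_, rfl⟩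
  rw [← hC] at hg
  haveI : C.Normal := by rw [hC]; infer_instance
  haveI : Fintype C := Fintype.ofFinite _
  haveI := irrFintype C
  obtain ⟨O, hO⟩ : ∃ O : Set (IrrCharacter C),
      O = {θ : IrrCharacter C | ∃ χ ∈ B,
        classInner (fun n : C => (χ : G → ℂ) n) (θ : C → ℂ) ≠ 0} := ⟨_, rfl⟩
  obtain ⟨a, ha0⟩ : ∃ a : G → ℂ, a = extendByZero C (blockCoeff O) := ⟨_, rfl⟩
  have hinv : ∀ (g : G) (n : C), blockCoeff O (CharsMore.conjBy C g n) = blockCoeff O n := by
    intro g n
    have hc : IsClassFunction C (fun n => blockCoeff O (CharsMore.conjBy C g n)) := fun x y => by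
      simp only [map_mul, map_inv]
      exact isClassFunction_blockCoeff O _ _
    refine congrFun (classFun_ext_omega hc (isClassFunction_blockCoeff O) fun φ => ?_) n
    have hbij : Function.Bijective (CharsMore.conjBy C g) :=
      (Finite.injective_iff_bijective).1 ((Finite.injective_iff_surjective).2
        (CharsMore.conjBy_surjective C g))
    have e : omega (φ : C → ℂ) (fun n => blockCoeff O (CharsMore.conjBy C g n)) =
        omega (CharsMore.conjFn C g⁻¹ (φ : C → ℂ)) (blockCoeff O) := by
      rw [omega, omega]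
      congr 1
      · refine Fintype.sum_bijective _ hbij _ _ fun m => ?_
        simp only [CharsMore.conjFn]
        congr 2
        exact congrArg _ (Subtype.ext (by simp [mul_assoc]))
      · simp only [CharsMore.conjFn, map_one]
    rw [e, omega_blockCoeff O (⟨_, CharsMore.isIrr_conjFn C g⁻¹ φ.2⟩ : IrrCharacter C),
      omega_blockCoeff]
    refine if_congr ?_ rfl rfl
    simp only [hO, Set.mem_ofPred_eq]
    exact exists_congr fun χ => and_congr_right fun _ => by
      rw [inner_conjFn C (isClassFunction_irr χ)]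
  have hsupp : ∀ x : G, x ∉ C → a x = 0 := fun x hx => by rw [ha0, extendByZero_of_not_mem C _ hx]
  have ha : IsClassFunction G a := by
    intro x y
    by_cases hx : x ∈ C
    · have hx' : y * x * y⁻¹ ∈ C := Subgroup.Normal.conj_mem inferInstance x hx y
      rw [ha0, extendByZero_of_mem C _ hx, extendByZero_of_mem C _ hx', ← hinv y ⟨x, hx⟩]
      congr 1
    · have hx' : y * x * y⁻¹ ∉ C := fun h' => hx (by
        simpa [mul_assoc] using Subgroup.Normal.conj_mem inferInstance _ h' y⁻¹)
      rw [hsupp _ hx, hsupp _ hx']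
  have hres : resFun C a = blockCoeff O := funext fun n => by
    rw [resFun, ha0, extendByZero_coe]
  have key : a = blockCoeff B := by
    refine classFun_ext_omega ha (isClassFunction_blockCoeff B) fun ξ => ?_
    obtain ⟨φ, hφ⟩ := exists_constituent_restrict C ξ
    rw [← omega_eq_omega_constituent C ha hsupp ξ φ hφ, hres, omega_blockCoeff, omega_blockCoeff]
    refine if_congr ⟨fun h => ?_, fun h => by rw [hO]; exact ⟨ξ, h, hφ⟩⟩ rfl rfl
    rw [hO] at h
    obtain ⟨χ, hχ, hχφ⟩ := h
    exact IsPBlock.mem_of_sameBlock hB hχ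
      (sameBlock_of_constituent_centralizer hpM hP C hC hχφ hφ (SameBlock.refl _))
  rw [← key, hsupp g hg]

end CfsgLib.BlockOrth
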