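import Cfsg.Agent.S0867
import Cfsg.Agent.Lib.CharsMore.CliffordDegree
import Cfsg.Agent.Lib.CharApps.Codegree
import Cfsg.Agent.Lib.Blocks.OrbitSum
import Cfsg.Agent.Lib.Blocks.Degree
import Cfsg.Agent.Lib.Transfer.NormalPComplement

/-!
# The order of `O^p(G)` modulo `p`
-/

set_option autoImplicit false
set_option linter.style.haveILetI false
set_option linter.unusedSectionVars false

namespace CfsgLib.BlockOrth

open Cfsg CfsgLib.Chars
open scoped ComplexConjugate

variable {G : Type*} [Group G] [Finite G] {p : ℕ} [Fact p.Prime]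

/-- The determinantal order of a character of `O^p(G)` is prime to `p`. -/
theorem not_dvd_detOrder_pResidual (θ : IrrCharacter (pResidual p G)) :
    ¬ p ∣ detOrder (θ : pResidual p G → ℂ) := by
  have hp : p.Prime := Fact.out
  obtain ⟨θ, n, ρ, hρ, rfl⟩ := θ
  show ¬ p ∣ detOrder ρ.character
  rw [detOrder, CfsgLib.CharsMore.detChar_eq ρ rfl, CfsgLib.CharsMore.orderOf_linFun]
  set l := CfsgLib.CharsMore.detHom ρ
  intro hdvd
  have ho : orderOf l ≠ 0 := by
    intro h
    have h1 : l ^ Nat.card (pResidual p G) = 1 := MonoidHom.ext fun x => by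
      rw [MonoidHom.pow_apply, ← map_pow, pow_card_eq_one', map_one]
      rfl
    rw [orderOf_eq_zero_iff'] at h
    exact h _ Nat.card_pos h1
  obtain ⟨o, ho'⟩ := hdvd
  -- `l ^ o` has order `p`, but is trivial on the generators
  have h1 : ∀ x, (l x ^ o) ^ p = 1 := fun x => by
    rw [← pow_mul, mul_comm, ← ho', ← MonoidHom.pow_apply, pow_orderOf_eq_one]
    rfl
  have key : ∀ (x : G) (hx : x ∈ pResidual p G), l ⟨x, hx⟩ ^ o = 1 := by
    intro x hx
    induction hx using Subgroup.closure_induction with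
    | mem g hg =>
      set y : pResidual p G := ⟨g, Subgroup.subset_closure hg⟩
      have e1 := h1 y
      have e2 : (l y ^ o) ^ orderOf g = 1 := by
        rw [← pow_mul, mul_comm, pow_mul, ← map_pow,
          show y ^ orderOf g = 1 from Subtype.ext (pow_orderOf_eq_one g), map_one, one_pow]
      rw [← orderOf_eq_one_iff]
      exact Nat.eq_one_of_dvd_coprimes hg (orderOf_dvd_of_pow_eq_one e2)
        (orderOf_dvd_of_pow_eq_one e1)
    | one => rw [show (⟨1, _⟩ : pResidual p G) = 1 from rfl, map_one, one_pow]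
    | mul a b ha hb iha ihb =>
      rw [show (⟨a * b, _⟩ : pResidual p G) = ⟨a, ha⟩ * ⟨b, hb⟩ from rfl, map_mul, mul_pow, iha, ihb, mul_one]
    | inv a ha iha =>
      rw [show (⟨a⁻¹, _⟩ : pResidual p G) = (⟨a, ha⟩ : pResidual p G)⁻¹ from rfl, map_inv, inv_pow, iha, inv_one]
  have hd : orderOf l ∣ o := orderOf_dvd_of_pow_eq_one
    (MonoidHom.ext fun x => by rw [MonoidHom.pow_apply]; exact key x.1 x.2)
  have ho0 : 0 < o := Nat.pos_of_ne_zero fun h0 => ho (by rw [ho', h0, mul_zero])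
  have h2 := Nat.le_of_dvd ho0 hd
  rw [ho'] at h2
  have h3 := hp.two_le
  nlinarith

variable [Fintype G]

/-- `|O^p(G)|` is congruent to the sum of the squares of the degrees prime to `p` of characters
with determinantal order prime to `p`. -/
theorem card_pResidual_modEq [Fintype (IrrCharacter G)]
    [DecidablePred fun χ : IrrCharacter G =>
      ¬ p ∣ charDegree (χ : G → ℂ) ∧ ¬ p ∣ detOrder (χ : G → ℂ)] :
    ((Nat.card (pResidual p G) : ℕ) : ZMod p) =
      ∑ χ ∈ Finset.univ.filter (fun χ : IrrCharacter G =>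
        ¬ p ∣ charDegree (χ : G → ℂ) ∧ ¬ p ∣ detOrder (χ : G → ℂ)),
        ((charDegree (χ : G → ℂ) : ℕ) : ZMod p) ^ 2 := by
  classical
  have hp : p.Prime := Fact.out
  set N := pResidual p G with hN
  haveI hNn : N.Normal := CfsgLib.Transfer.pResidual_normal
  haveI : Fintype N := Fintype.ofFinite _
  haveI := irrFintype N
  obtain ⟨k, hk⟩ := CfsgLib.Transfer.exists_index_pResidual (G := G) (p := p)
  rw [← hN] at hk
  obtain ⟨S⟩ := (inferInstance : Nonempty (Sylow p G))
  let act : MulAction (S : Subgroup G) (IrrCharacter N) :=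
    { smul := fun g θ => ⟨CharsMore.conjFn N ((g : G)⁻¹) (θ : N → ℂ),
        CharsMore.isIrr_conjFn N _ θ.2⟩
      one_smul := fun θ => Subtype.ext (by
        show CharsMore.conjFn N ((1 : G)⁻¹) (θ : N → ℂ) = _
        rw [inv_one, CharsMore.conjFn_one])
      mul_smul := fun g h θ => Subtype.ext (by
        show CharsMore.conjFn N (((g : G) * h)⁻¹) (θ : N → ℂ) =
          CharsMore.conjFn N ((g : G)⁻¹) (CharsMore.conjFn N ((h : G)⁻¹) (θ : N → ℂ))
        rw [mul_inv_rev, CharsMore.conjFn_mul]) }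
  letI := act
  have hfixed : ∀ θ : IrrCharacter N, θ ∈ MulAction.fixedPoints (S : Subgroup G) (IrrCharacter N) ↔
      ∀ g : G, CharsMore.conjFn N g (θ : N → ℂ) = (θ : N → ℂ) := by
    intro θ
    constructor
    · intro h g
      have hT : (S : Subgroup G) ⊔ N ≤ CharsMore.inertia N (θ : N → ℂ) := by
        refine sup_le (fun s hs => ?_) (CharsMore.le_inertia N
          (isClassFunction_of_isCharacter (isCharacter_of_irr θ.2)))
        rw [CharsMore.mem_inertia]
        intro n
        have h1 := congrArg Subtype.val (h ⟨s⁻¹, inv_mem hs⟩)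
        have h2 : CharsMore.conjFn N ((s⁻¹)⁻¹) (θ : N → ℂ) n = (θ : N → ℂ) n := congrFun h1 n
        rwa [inv_inv] at h2
      rw [CfsgLib.Transfer.sup_pResidual_eq_top S] at hT
      exact funext ((CharsMore.mem_inertia N).mp (hT (Subgroup.mem_top g)))
    · intro h g
      exact Subtype.ext (h _)
  -- the total
  have h1 : ((Nat.card N : ℕ) : ZMod p) =
      ∑ θ : IrrCharacter N, ((charDegree (θ : N → ℂ) : ℕ) : ZMod p) ^ 2 := by
    rw [← CfsgLib.CharApps.sum_degree_sq_nat]
    push_cast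
    rfl
  have hdeg : ∀ (g : (S : Subgroup G)) (θ : IrrCharacter N),
      charDegree ((g • θ : IrrCharacter N) : N → ℂ) = charDegree (θ : N → ℂ) := fun g θ => by
    have : ((g • θ : IrrCharacter N) : N → ℂ) 1 = (θ : N → ℂ) 1 :=
      congrArg (θ : N → ℂ) (map_one _)
    rw [← CfsgLib.Blocks.charDegree_cast, ← CfsgLib.Blocks.charDegree_cast] at this
    exact_mod_cast this
  rw [CfsgLib.Blocks.sum_eq_sum_fixedPoints (P := (S : Subgroup G)) p S.isPGroup'
    (fun θ : IrrCharacter N => ((charDegree (θ : N → ℂ) : ℕ) : ZMod p) ^ 2)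
    (fun g θ => by rw [hdeg])] at h1
  rw [h1]
  rw [← Finset.sum_filter_of_ne (p := fun θ : IrrCharacter N => ¬ p ∣ charDegree (θ : N → ℂ))
    (fun θ _ hne hd => hne (by
      rw [(ZMod.natCast_eq_zero_iff _ _).mpr hd, zero_pow two_ne_zero])), Finset.filter_filter]
  symm
  -- restriction
  have hres : ∀ χ : IrrCharacter G, ¬ p ∣ charDegree (χ : G → ℂ) →
      ∃ θ : IrrCharacter N, (∀ n : N, (χ : G → ℂ) n = (θ : N → ℂ) n) ∧
        ∀ g : G, CharsMore.conjFn N g (θ : N → ℂ) = (θ : N → ℂ) := by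
    intro χ hχ
    obtain ⟨θ, hθ⟩ := exists_constituent (φ := fun n : N => (χ : G → ℂ) n)
      (isCharacter_restrict N (isCharacter_of_irr χ.2))
      fun h => irr_degree_ne_zero χ.2 (by simpa using congrFun h 1)
    have hdq := CharsMore.degree_quotient N χ.2 θ.2 hθ
    obtain ⟨j, -, hj, hjd⟩ := hdq
    rw [← CfsgLib.Blocks.charDegree_cast, ← CfsgLib.Blocks.charDegree_cast] at hj
    have hj' : charDegree (χ : G → ℂ) = j * charDegree (θ : N → ℂ) := by exact_mod_cast hj
    have hj1 : j = 1 := by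
      rw [hk] at hjd
      obtain ⟨i, -, hi⟩ := (Nat.dvd_prime_pow hp).mp hjd
      rcases Nat.eq_zero_or_pos i with rfl | hi0
      · simpa using hi
      · exact absurd (hj' ▸ Dvd.dvd.mul_right (hi ▸ dvd_pow_self p hi0.ne') _) hχ
    have hcd := CharsMore.clifford_degree N χ.2 θ.2 hθ
    have he := CharsMore.inner_eq_multNat (isCharacter_restrict N (isCharacter_of_irr χ.2))
      (isCharacter_of_irr θ.2)
    rw [he, ← CfsgLib.Blocks.charDegree_cast, ← CfsgLib.Blocks.charDegree_cast, hj', hj1, one_mul]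
      at hcd
    set e := CharsMore.multNat (fun n : N => (χ : G → ℂ) n) (θ : N → ℂ)
    have hcd' : 1 * charDegree (θ : N → ℂ) =
        e * (CharsMore.inertia N (θ : N → ℂ)).index * charDegree (θ : N → ℂ) := by
      rw [one_mul]; exact_mod_cast hcd
    have h2 := (Nat.eq_of_mul_eq_mul_right (CfsgLib.Blocks.charDegree_pos θ) hcd').symm
    obtain ⟨he1, hi1⟩ := mul_eq_one.mp h2
    have hinv : ∀ g : G, CharsMore.conjFn N g (θ : N → ℂ) = (θ : N → ℂ) := fun g =>
      funext ((CharsMore.mem_inertia N).mp (Subgroup.index_eq_one.mp hi1 ▸ Subgroup.mem_top g))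
    refine ⟨θ, fun n => ?_, hinv⟩
    rw [CharsMore.restrict_eq_mul_of_invariant N χ.2 θ.2 (fun g n => congrFun (hinv g) n) hθ n, he,
      he1, Nat.cast_one, one_mul]
  let f : IrrCharacter G → IrrCharacter N := fun χ =>
    if h : ¬ p ∣ charDegree (χ : G → ℂ) then Classical.choose (hres χ h)
    else CfsgLib.Chars.principal N
  have hf : ∀ χ : IrrCharacter G, ¬ p ∣ charDegree (χ : G → ℂ) →
      (∀ n : N, (χ : G → ℂ) n = (f χ : N → ℂ) n) ∧
        ∀ g : G, CharsMore.conjFn N g (f χ : N → ℂ) = (f χ : N → ℂ) := fun χ h => by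
    simp only [f, dif_pos h]
    exact Classical.choose_spec (hres χ h)
  have hfd : ∀ χ : IrrCharacter G, ¬ p ∣ charDegree (χ : G → ℂ) →
      charDegree (f χ : N → ℂ) = charDegree (χ : G → ℂ) := fun χ h => by
    have := (hf χ h).1 1
    rw [OneMemClass.coe_one, ← CfsgLib.Blocks.charDegree_cast, ← CfsgLib.Blocks.charDegree_cast]
      at this
    exact_mod_cast this.symm
  have hcop : ∀ θ : IrrCharacter N, ¬ p ∣ charDegree (θ : N → ℂ) →
      Nat.Coprime N.index (detOrder (θ : N → ℂ) * charDegree (θ : N → ℂ)) := fun θ h => by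
    rw [hk]
    refine Nat.Coprime.pow_left _ (hp.coprime_iff_not_dvd.mpr fun hd => ?_)
    exact (hp.dvd_mul.mp hd).elim (not_dvd_detOrder_pResidual θ) h
  refine Finset.sum_bij (fun χ _ => f χ) ?_ ?_ ?_ ?_
  · intro χ hχ
    obtain ⟨h1, -⟩ := (Finset.mem_filter.mp hχ).2
    refine Finset.mem_filter.mpr ⟨Finset.mem_univ _, (hfixed _).mpr (hf χ h1).2, ?_⟩
    rwa [hfd χ h1]
  · intro χ hχ χ' hχ' he
    obtain ⟨h1, h1o⟩ := (Finset.mem_filter.mp hχ).2
    obtain ⟨h2, h2o⟩ := (Finset.mem_filter.mp hχ').2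
    obtain ⟨η, -, huniq⟩ := Cfsg.Agent.S0867.result N (f χ : N → ℂ) (f χ).2
      (fun g n => congrFun ((hf χ h1).2 g) n) _ (CfsgLib.Blocks.charDegree_cast (f χ)).symm
      (hcop _ (by rwa [hfd χ h1]))
    have e1 := huniq _ χ.2 (hf χ h1).1
      (by rw [hk]; exact Nat.Coprime.pow_left _ (hp.coprime_iff_not_dvd.mpr h1o))
    have e2 := huniq _ χ'.2 (fun n => by rw [(hf χ' h2).1 n, he])
      (by rw [hk]; exact Nat.Coprime.pow_left _ (hp.coprime_iff_not_dvd.mpr h2o))
    exact Subtype.ext (e1.trans e2.symm)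
  · intro θ hθ
    obtain ⟨h1, h2⟩ := (Finset.mem_filter.mp hθ).2
    obtain ⟨η, ⟨hη, hηres, hηo⟩, -⟩ := Cfsg.Agent.S0867.result N (θ : N → ℂ) θ.2
      (fun g n => congrFun ((hfixed θ).mp h1 g) n) _ (CfsgLib.Blocks.charDegree_cast θ).symm
      (hcop θ h2)
    set χ : IrrCharacter G := ⟨η, hη⟩
    have hd : charDegree (χ : G → ℂ) = charDegree (θ : N → ℂ) := by
      have := hηres 1
      have e : (χ : G → ℂ) 1 = (θ : N → ℂ) 1 := by simpa using this
      rw [← CfsgLib.Blocks.charDegree_cast, ← CfsgLib.Blocks.charDegree_cast] at e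
      exact_mod_cast e
    have hχd : ¬ p ∣ charDegree (χ : G → ℂ) := hd ▸ h2
    refine ⟨χ, Finset.mem_filter.mpr ⟨Finset.mem_univ _, hχd, ?_⟩, ?_⟩
    · show ¬ p ∣ detOrder η
      rw [hηo]; exact not_dvd_detOrder_pResidual θ
    · exact Subtype.ext (funext fun n => ((hf χ hχd).1 n).symm.trans (hηres n))
  · intro χ hχ
    obtain ⟨h1, -⟩ := (Finset.mem_filter.mp hχ).2
    rw [hfd χ h1]

end CfsgLib.BlockOrth
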