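/-
Integral spans of blocks: `p^d χ⁰` lies in the span of the block, and related forms.
-/
import Cfsg.Agent.Lib.BlockOrth.Dimension

set_option autoImplicit false
set_option linter.style.haveILetI false
set_option linter.unusedSectionVars false

namespace CfsgLib.BlockOrth

open Cfsg CfsgLib.Chars CfsgLib.Blocks Finset

universe u

variable {G : Type u} [Group G] [Fintype G] {p : ℕ} [hp : Fact p.Prime]
  {M : Ideal AlgInt} [M.IsPrime] {B : Set (IrrCharacter G)}

theorem pow_smul_pRegularPart_eq_sum [Fintype (IrrCharacter G)] [DecidablePred (· ∈ B)]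
    (hpM : (p : AlgInt) ∈ M) (hB : IsPBlock M B) {χ : IrrCharacter G} (hχ : χ ∈ B) (g : G) :
    ((p ^ blockDefect p B : ℕ) : ℂ) * pRegularPart p (χ : G → ℂ) g =
      ∑ ψ ∈ Finset.univ.filter (· ∈ B), (dInt p B χ ψ : ℂ) * (ψ : G → ℂ) g := by
  conv_lhs => rw [classFun_eq_sum (isClassFunction_pRegularPart (p := p) (isClassFunction_irr χ))]
  rw [Finset.sum_apply, Finset.mul_sum, Finset.sum_filter]
  refine Finset.sum_congr rfl fun ψ _ => ?_
  rw [Pi.smul_apply, smul_eq_mul, ← mul_assoc, ← dInt_spec hpM hχ ψ]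
  split_ifs with hψ
  · rfl
  · rw [dInt_eq_zero hpM hB hχ hψ, Int.cast_zero, zero_mul]

theorem exists_block_combination (hpM : (p : AlgInt) ∈ M) (hB : IsPBlock M B) {φ : G → ℂ}
    (hφ : ∃ n : IrrCharacter G → ℤ, ∀ g : G, φ g = ∑ᶠ ψ ∈ B, (n ψ : ℂ) * (ψ : G → ℂ) g) :
    ∃ n : IrrCharacter G → ℤ, ∀ g : G,
      (p ^ blockDefect p B : ℂ) * pRegularPart p φ g = ∑ᶠ ψ ∈ B, (n ψ : ℂ) * (ψ : G → ℂ) g := by
  classical
  haveI := irrFintype G
  obtain ⟨n, hn⟩ := hφ
  refine ⟨fun ψ => ∑ χ ∈ Finset.univ.filter (· ∈ B), n χ * dInt p B χ ψ, fun g => ?_⟩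
  have hφ' : φ = ∑ χ ∈ Finset.univ.filter (· ∈ B), (n χ : ℂ) • (χ : G → ℂ) := by
    funext x
    rw [hn x, sum_mem_block, Finset.sum_apply]
    exact Finset.sum_congr rfl fun χ _ => rfl
  rw [hφ', pRegularPart_sum, Finset.sum_apply, Finset.mul_sum, sum_mem_block]
  simp only [Int.cast_sum, Int.cast_mul, Finset.sum_mul]
  rw [Finset.sum_comm]
  refine Finset.sum_congr rfl fun χ hχ => ?_
  have h := pow_smul_pRegularPart_eq_sum hpM hB (Finset.mem_filter.mp hχ).2 g
  rw [pRegularPart_smul, Pi.smul_apply, smul_eq_mul]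
  push_cast at h
  rw [mul_left_comm, h, Finset.mul_sum]
  exact Finset.sum_congr rfl fun ψ _ => by ring

end CfsgLib.BlockOrth
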