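/-
The order of a defect group: `|D| = p ^ d`.
-/
import Cfsg.Agent.Lib.BlockOrth.Span
import Cfsg.Agent.Lib.Blocks.MinMax

set_option autoImplicit false
set_option linter.style.haveILetI false
set_option linter.unusedSectionVars false

namespace CfsgLib.BlockOrth

open Cfsg CfsgLib.Chars CfsgLib.Blocks Finset
open scoped ComplexConjugate

universe u

variable {G : Type u} [Group G] [Fintype G] {p : ℕ} [hp : Fact p.Prime]
  {M : Ideal AlgInt} [M.IsPrime] {B : Set (IrrCharacter G)}

/-- A natural quotient with more `p` upstairs lies in the local ideal. -/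
theorem memLocalIdeal_natDiv (hpM : (p : AlgInt) ∈ M) {m d : ℕ} (hd : d ≠ 0)
    (h : d.factorization p < m.factorization p) : MemLocalIdeal M ((m : ℂ) / d) := by
  have h1 := (int_div_memLocalIdeal_iff (M := M) hpM (n := (m : ℤ)) hd).mpr
    (by exact_mod_cast (pow_dvd_pow p h).trans (Nat.ordProj_dvd m p))
  simpa using h1

/-- The block idempotent through the characters of the block only. -/
theorem exists_blockCoeff_eq (hpM : (p : AlgInt) ∈ M) (hB : IsPBlock M B) :
    ∃ c : IrrCharacter G → ℂ, (∀ χ, c χ ∈ loc M) ∧ ∀ g : G, ¬ p ∣ orderOf g →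
      blockCoeff B g = ∑ᶠ ψ ∈ B, c ψ * conj ((ψ : G → ℂ) g) := by
  classical
  haveI := irrFintype G
  obtain ⟨c, hc, hsum⟩ := exists_loc_sum_pInt (G := G) hpM
  refine ⟨c, hc, fun g hg => ?_⟩
  have hne : ((p ^ (Nat.card G).factorization p : ℕ) : ℂ) ≠ 0 :=
    Nat.cast_ne_zero.2 (pow_ne_zero _ hp.out.ne_zero)
  apply mul_left_cancel₀ hne
  rw [blockCoeff, sum_mem_block, sum_mem_block, ← mul_assoc, pow_mul_inv_card, Finset.mul_sum]
  calc ∑ χ ∈ univ.filter (· ∈ B), invCompl G p * ((χ : G → ℂ) 1 * conj ((χ : G → ℂ) g))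
      = ∑ χ ∈ univ.filter (· ∈ B), ∑ ψ ∈ univ.filter (· ∈ B),
          c ψ * ((pInt p ψ χ : ℂ) * conj ((χ : G → ℂ) g)) := by
        refine Finset.sum_congr rfl fun χ hχ => ?_
        rw [← mul_assoc, ← hsum χ, Finset.sum_mul]
        rw [Finset.sum_filter]
        refine Finset.sum_congr rfl fun ψ _ => ?_
        split_ifs with hψ
        · ring
        · rw [pInt_symm, pInt_eq_zero hpM hB (Finset.mem_filter.1 hχ).2 hψ]
          simp
    _ = _ := by
        rw [Finset.sum_comm, Finset.mul_sum]
        refine Finset.sum_congr rfl fun ψ hψ => ?_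
        have hψB := (Finset.mem_filter.1 hψ).2
        have h := congrArg conj (pow_smul_pRegularPart_eq_sum (M := M) hpM hB hψB g)
        rw [map_mul, map_natCast, map_sum, pRegularPart_apply, if_pos hg] at h
        rw [← blockMin_add_blockDefect (p := p) (B := B) ⟨ψ, hψB⟩, pow_add, Nat.cast_mul,
          mul_assoc, mul_left_comm _ (c ψ) (conj _), h]
        simp only [Finset.mul_sum]
        refine Finset.sum_congr rfl fun χ _ => ?_
        rw [map_mul, map_intCast, ← pow_mul_dInt hpM hψB χ]
        push_cast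
        ring

/-- The class size of a defect class has the least `p`-part of a degree in the block. -/
theorem factorization_index_defectClass (hpM : (p : AlgInt) ∈ M) (hB : IsPBlock M B) {g : G}
    (hg : IsDefectClass M B g) :
    (Subgroup.centralizer ({g} : Set G)).index.factorization p = blockMin p B := by
  classical
  haveI := irrFintype G
  set i := (Subgroup.centralizer ({g} : Set G)).index with hi
  have hi0 : i ≠ 0 := Subgroup.index_ne_zero_of_finite
  apply le_antisymm
  · obtain ⟨χ, hχ, hmin⟩ := exists_degVal_eq_blockMin (p := p) (IsPBlock.nonempty hB)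
    by_contra hlt
    refine hg.2.2 χ hχ ?_
    rw [centralChar, irr_apply_one, mul_div_right_comm]
    exact MemLocalIdeal.mul_right' (memLocalIdeal_natDiv hpM (irr_charDegree_ne_zero χ)
      (by rw [← degVal, hmin, ← hi]; omega)) (irr_mem_loc χ g)
  · obtain ⟨c, hc, hform⟩ := exists_blockCoeff_eq (M := M) hpM hB
    by_contra hlt
    refine hg.2.1 ?_
    rw [hform g (IsDefectClass.regular hpM hB hg), sum_mem_block]
    refine MemLocalIdeal.sum' fun ψ hψ => MemLocalIdeal.mul_left' (hc ψ) ?_
    have hψB := (Finset.mem_filter.1 hψ).2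
    have e : (ψ : G → ℂ) g =
        ((charDegree (ψ : G → ℂ) : ℕ) : ℂ) / (i : ℂ) * centralChar (ψ : G → ℂ) g := by
      rw [centralChar, irr_apply_one, ← hi]
      have h1 : (i : ℂ) ≠ 0 := Nat.cast_ne_zero.2 hi0
      have h2 : ((charDegree (ψ : G → ℂ) : ℕ) : ℂ) ≠ 0 :=
        Nat.cast_ne_zero.2 (irr_charDegree_ne_zero ψ)
      field_simp
    rw [e, map_mul, map_div₀, map_natCast, map_natCast]
    refine MemLocalIdeal.mul_right' (memLocalIdeal_natDiv hpM hi0 ?_)
      (isIntegral_mem_loc (map_isIntegral_int (starRingEnd ℂ) (isIntegral_centralChar ψ g)))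
    have hle : blockMin p B ≤ degVal p ψ := blockMin_le hψB
    rw [degVal] at hle
    omega

/-- A defect group has order `p ^ d`. -/
theorem card_defectGroup (hpM : (p : AlgInt) ∈ M) (hB : IsPBlock M B) {D : Subgroup G}
    (hD : IsDefectGroup p M B D) : Nat.card D = p ^ blockDefect p B := by
  obtain ⟨g, hg, P, rfl⟩ := hD
  rw [Subgroup.card_map_of_injective (Subgroup.subtype_injective _), P.card_eq_multiplicity]
  congr 1
  have h := (Subgroup.centralizer ({g} : Set G)).card_mul_index
  have h2 := congrArg (fun n : ℕ => n.factorization p) h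
  simp only [Nat.factorization_mul Nat.card_pos.ne' Subgroup.index_ne_zero_of_finite,
    Finsupp.coe_add, Pi.add_apply, factorization_index_defectClass hpM hB hg,
    ← blockMin_add_blockDefect (p := p) (IsPBlock.nonempty hB)] at h2
  omega

end CfsgLib.BlockOrth
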