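/-
Subsections: orthogonality of the `b`-parts of `c ↦ χ(x c)` on `C(x)`.
-/
import Cfsg.Agent.S0923
import Cfsg.Agent.Lib.Blocks.Induced
import Cfsg.Agent.Lib.BlockOrth.Dimension
import Cfsg.Agent.Lib.BlockOrth.Induced

set_option autoImplicit false
set_option linter.style.haveILetI false
set_option linter.unusedSectionVars false

namespace CfsgLib.BlockOrth

open Cfsg CfsgLib.Chars CfsgLib.Blocks Finset
open scoped ComplexConjugate

universe u

variable {G : Type u} [Group G] [Fintype G] {M : Ideal AlgInt} [M.IsPrime] {p : ℕ}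
  [hp : Fact p.Prime]

section BlockParts

variable {b : Set (IrrCharacter G)}

/-- The block part commutes with the restriction to regular elements. -/
theorem inner_pRegularPart_blockPart [DecidablePred (· ∈ b)] (hpM : (p : AlgInt) ∈ M)
    (hb : IsPBlock M b) {φ : G → ℂ} (hφ : IsClassFunction G φ) (η : IrrCharacter G) :
    classInner (pRegularPart p (blockPart b φ)) (η : G → ℂ) =
      if η ∈ b then classInner (pRegularPart p φ) (η : G → ℂ) else 0 := by
  classical
  haveI := irrFintype G
  have hoff : ∀ θ ξ : IrrCharacter G, θ ∈ b → ξ ∉ b →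
      classInner (pRegularPart p (θ : G → ℂ)) (ξ : G → ℂ) = 0 := by
    intro θ ξ hθ hξ
    have h := pInt_spec (p := p) θ ξ
    rw [pInt_eq_zero hpM hb hθ hξ, pInner, Int.cast_zero] at h
    exact (mul_eq_zero.mp h).resolve_left (by simp [hp.out.ne_zero])
  have hbp : blockPart b φ = ∑ θ ∈ univ.filter (· ∈ b), classInner φ (θ : G → ℂ) • (θ : G → ℂ) := by
    funext g
    rw [blockPart, sum_mem_block, Finset.sum_apply]
    refine Finset.sum_congr rfl fun θ _ => ?_
    rw [Pi.smul_apply, smul_eq_mul, inner_congr_inst]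
  rw [hbp, pRegularPart_sum, Chars.inner_sum_left]
  simp only [pRegularPart_smul, Chars.inner_smul_left]
  by_cases hη : η ∈ b
  · rw [if_pos hη]
    conv_rhs => rw [classFun_eq_sum hφ, pRegularPart_sum, Chars.inner_sum_left]
    simp only [pRegularPart_smul, Chars.inner_smul_left]
    refine Finset.sum_subset (Finset.subset_univ _) fun θ _ hθ => ?_
    have h := congrArg conj (hoff η θ hη (by simpa using hθ))
    rw [inner_conj, classInner_pRegularPart_right, map_zero] at h
    rw [h, mul_zero]
  · rw [if_neg hη]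
    exact Finset.sum_eq_zero fun θ hθ => by rw [hoff θ η (mem_filter.1 hθ).2 hη, mul_zero]

/-- Parseval for the regular block part. -/
theorem inner_self_pRegularPart_blockPart [Fintype (IrrCharacter G)] [DecidablePred (· ∈ b)]
    (hpM : (p : AlgInt) ∈ M) (hb : IsPBlock M b) {φ : G → ℂ} (hφ : IsClassFunction G φ) :
    classInner (pRegularPart p (blockPart b φ)) (pRegularPart p (blockPart b φ)) =
      ∑ η ∈ univ.filter (· ∈ b), classInner (pRegularPart p φ) (η : G → ℂ) *
        conj (classInner (pRegularPart p φ) (η : G → ℂ)) := by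
  classical
  have hcl : IsClassFunction G (blockPart b φ) := by
    intro g h
    simp only [blockPart]
    exact finsum_congr fun θ => finsum_congr fun _ => by rw [isClassFunction_irr θ g h]
  rw [inner_eq_sum (isClassFunction_pRegularPart hcl) _, Finset.sum_filter]
  refine Finset.sum_congr rfl fun η _ => ?_
  rw [inner_pRegularPart_blockPart hpM hb hφ η]
  split_ifs <;> simp

/-- Vanishing of the block part on regular elements. -/
theorem pRegularPart_blockPart_eq_zero_iff (hpM : (p : AlgInt) ∈ M)
    (hb : IsPBlock M b) {φ : G → ℂ} (hφ : IsClassFunction G φ) :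
    (∀ y, ¬ p ∣ orderOf y → blockPart b φ y = 0) ↔
      ∀ η ∈ b, classInner (pRegularPart p φ) (η : G → ℂ) = 0 := by
  classical
  haveI := irrFintype G
  have hcl : IsClassFunction G (pRegularPart p (blockPart b φ)) := by
    refine isClassFunction_pRegularPart fun g h => ?_
    simp only [blockPart]
    exact finsum_congr fun θ => finsum_congr fun _ => by rw [isClassFunction_irr θ g h]
  constructor
  · intro h η hη
    have h0 : pRegularPart p (blockPart b φ) = 0 := by
      funext y
      rw [pRegularPart_apply]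
      split_ifs with hy
      · rfl
      · exact h y hy
    have h1 := inner_pRegularPart_blockPart hpM hb hφ η
    rw [h0, Chars.inner_zero_left, if_pos hη] at h1
    exact h1.symm
  · intro h y hy
    have h0 : pRegularPart p (blockPart b φ) = 0 := eq_zero_of_inner_irr hcl fun η => by
      rw [inner_pRegularPart_blockPart hpM hb hφ η]
      split_ifs with hη
      · exact h η hη
      · rfl
    have := congrFun h0 y
    rwa [pRegularPart_apply, if_pos hy] at this

end BlockParts

section Section

variable {H : Subgroup G} [Fintype H] {x : G}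

/-- The function `c ↦ χ (x c)` on a subgroup. -/
def secFun (H : Subgroup G) (x : G) (χ : G → ℂ) : H → ℂ := fun c => χ (x * (c : G))

theorem isClassFunction_secFun (hH : ∀ c : G, c ∈ H ↔ c * x = x * c) {χ : G → ℂ}
    (hχ : IsClassFunction G χ) : IsClassFunction H (secFun H x χ) := by
  intro c d
  have hd : (d : G) * x = x * d := (hH d).1 d.2
  have : x * ((d : G) * c * (d : G)⁻¹) = (d : G) * (x * c) * (d : G)⁻¹ := by
    rw [← mul_assoc, ← mul_assoc, ← hd]; group
  simp only [secFun, Subgroup.coe_mul, Subgroup.coe_inv, this]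
  exact hχ _ _

theorem isConj_section_iff (hH : ∀ c : G, c ∈ H ↔ c * x = x * c)
    (hx : ∃ k, orderOf x = p ^ k) {c c' : H} (hc : ¬ p ∣ orderOf c) (hc' : ¬ p ∣ orderOf c') :
    IsConj (x * (c' : G)) (x * (c : G)) ↔ IsConj c' c := by
  constructor
  · intro h
    obtain ⟨g, hg⟩ := isConj_iff.1 h
    have e1 : pPrimePart p (x * (c : G)) = c :=
      pPrimePart_mul ((hH c).1 c.2).symm hx (by rwa [Subgroup.orderOf_coe])
    have e2 : pPrimePart p (x * (c' : G)) = c' :=
      pPrimePart_mul ((hH c').1 c'.2).symm hx (by rwa [Subgroup.orderOf_coe])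
    have e3 : g * (c' : G) * g⁻¹ = c := by rw [← e2, ← pPrimePart_conj, hg, e1]
    have hgH : g ∈ H := by
      rw [hH]
      have h3 : g * x * g⁻¹ * c = x * c := by
        rw [← hg, ← e3]; group
      exact mul_inv_eq_iff_eq_mul.1 (mul_right_cancel h3)
    exact isConj_iff.2 ⟨⟨g, hgH⟩, Subtype.ext e3⟩
  · intro h
    obtain ⟨d, hd⟩ := isConj_iff.1 h
    refine isConj_iff.2 ⟨d, ?_⟩
    rw [← hd]
    push_cast
    rw [← mul_assoc, (hH d).1 d.2]
    group

theorem card_centralizer_section (hH : ∀ c : G, c ∈ H ↔ c * x = x * c)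
    (hx : ∃ k, orderOf x = p ^ k) {c : H} (hc : ¬ p ∣ orderOf c) :
    Nat.card (Subgroup.centralizer ({x * (c : G)} : Set G)) =
      Nat.card (Subgroup.centralizer ({c} : Set H)) := by
  have e1 : pPrimePart p (x * (c : G)) = c :=
    pPrimePart_mul ((hH c).1 c.2).symm hx (by rwa [Subgroup.orderOf_coe])
  rw [← Subgroup.card_map_of_injective (K := Subgroup.centralizer ({c} : Set H)) H.subtype_injective]
  congr 2
  ext g
  simp only [Subgroup.mem_map, Subgroup.mem_centralizer_singleton_iff, Subgroup.coe_subtype]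
  constructor
  · intro hg
    have h1 : g * (x * c) * g⁻¹ = x * c := by rw [hg]; group
    have h2 : g * (c : G) * g⁻¹ = c := by rw [← e1, ← pPrimePart_conj, h1]
    have hgH : g ∈ H := by
      rw [hH]
      have h3 : g * x * g⁻¹ * c = x * c := by
        conv_lhs => arg 2; rw [← h2]
        rw [← h1]; group
      exact mul_inv_eq_iff_eq_mul.1 (mul_right_cancel h3)
    exact ⟨⟨g, hgH⟩, Subtype.ext (mul_inv_eq_iff_eq_mul.1 h2), rfl⟩
  · rintro ⟨d, hd, rfl⟩
    have hd' : (d : G) * c = c * d := congrArg Subtype.val hd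
    rw [← mul_assoc, (hH d).1 d.2, mul_assoc, hd', mul_assoc]

/-- Column orthogonality across a section. -/
theorem sum_irr_inner_secFun [Fintype (IrrCharacter G)] (hH : ∀ c : G, c ∈ H ↔ c * x = x * c)
    (hx : ∃ k, orderOf x = p ^ k) {η η' : H → ℂ}
    (hη' : IsClassFunction H η') :
    ∑ χ : IrrCharacter G, classInner (pRegularPart p (secFun H x (χ : G → ℂ))) η *
        conj (classInner (pRegularPart p (secFun H x (χ : G → ℂ))) η') =
      classInner (pRegularPart p η') η := by
  classical
  have hn : (Nat.card H : ℂ) ≠ 0 := Nat.cast_ne_zero.2 Nat.card_pos.ne'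
  simp only [inner_def, map_mul, map_inv₀, map_natCast, map_sum, Complex.conj_conj]
  simp only [Finset.mul_sum, Finset.sum_mul]
  rw [Finset.sum_comm]
  rw [Finset.sum_congr rfl fun c' _ => Finset.sum_comm]
  have key : ∀ c' c : H, (∑ χ : IrrCharacter G,
      (Nat.card H : ℂ)⁻¹ * (pRegularPart p (secFun H x (χ : G → ℂ)) c * conj (η c)) *
        ((Nat.card H : ℂ)⁻¹ * (conj (pRegularPart p (secFun H x (χ : G → ℂ)) c') * η' c'))) =
      (Nat.card H : ℂ)⁻¹ * (Nat.card H : ℂ)⁻¹ * (pRegularPart p η' c * conj (η c)) *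
        (if IsConj c' c then (Nat.card (Subgroup.centralizer ({c} : Set H)) : ℂ) else 0) := by
    intro c' c
    by_cases hc : p ∣ orderOf c
    · simp [pRegularPart_apply, hc]
    by_cases hc' : p ∣ orderOf c'
    · have hne : ¬ IsConj c' c := fun h => hc (by
        obtain ⟨d, rfl⟩ := isConj_iff.1 h
        rwa [← (SemiconjBy.conj_mk d c').orderOf_eq])
      rw [if_neg hne, mul_zero]
      simp [pRegularPart_apply, hc']
    have h2 := second_orthogonality (x * (c : G)) (x * (c' : G))
    have hiff := isConj_section_iff (p := p) hH hx hc hc'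
    simp only [pRegularPart_apply, if_pos hc, if_pos hc', secFun]
    calc _ = (Nat.card H : ℂ)⁻¹ * (Nat.card H : ℂ)⁻¹ * conj (η c) * η' c' *
          ∑ χ : IrrCharacter G, (χ : G → ℂ) (x * c) * conj ((χ : G → ℂ) (x * c')) := by
          rw [Finset.mul_sum]
          exact Finset.sum_congr rfl fun χ _ => by ring
      _ = _ := by
          rw [h2]
          by_cases h : IsConj c' c
          · rw [if_pos h, if_pos (hiff.2 h), card_centralizer_section hH hx hc,
              classFun_of_isConj hη' h]
            ring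
          · rw [if_neg h, if_neg (fun h' => h (hiff.1 h'))]
            ring
  simp only [key]
  rw [Finset.sum_comm]
  refine Finset.sum_congr rfl fun c _ => ?_
  rw [← Finset.mul_sum]
  have hcount : (∑ c' : H, if IsConj c' c
      then (Nat.card (Subgroup.centralizer ({c} : Set H)) : ℂ) else 0) = (Nat.card H : ℂ) := by
    rw [← Finset.sum_filter, Finset.sum_const, nsmul_eq_mul, ← Nat.cast_mul]
    congr 1
    rw [← card_isConj_mul_card_centralizer c]
    congr 1
    rw [← Fintype.card_subtype, ← Nat.card_eq_fintype_card]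
    exact Nat.card_congr (Equiv.subtypeEquivRight fun z => ⟨fun h => h.symm, fun h => h.symm⟩)
  rw [hcount]
  field_simp

theorem secFun_eq_zero_of_notMem (hM : IsPModular p M) (hH : ∀ c : G, c ∈ H ↔ c * x = x * c)
    (hx : ∃ k, orderOf x = p ^ k) {B : Set (IrrCharacter G)} {b : Set (IrrCharacter H)}
    (hb : IsInducedBlock M H b B) {χ : IrrCharacter G} (hχ : χ ∉ B) {η : IrrCharacter H}
    (hη : η ∈ b) : classInner (pRegularPart p (secFun H x (χ : G → ℂ))) (η : H → ℂ) = 0 := by
  have hHC : H = Subgroup.centralizer ({x} : Set G) := by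
    ext c; rw [Subgroup.mem_centralizer_singleton_iff]; exact hH c
  subst hHC
  refine (pRegularPart_blockPart_eq_zero_iff hM.2.2 hb.1
    (isClassFunction_secFun hH (isClassFunction_irr χ))).1 (fun y hy => ?_) η hη
  refine Cfsg.Agent.S0923.result p M hM x hx (blockOf M (χ : G → ℂ)) (isPBlock_blockOf χ) χ
    (mem_blockOf_self χ) b hb.1 (fun hind => hχ ?_) y hy
  rw [← Blocks.IsInducedBlock.unique hind hb]
  exact mem_blockOf_self χ

/-- The contributions of a subsection sum to the rank of the local block. -/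
theorem sum_secFun_sq [Fintype (IrrCharacter G)] [Fintype (IrrCharacter H)]
    (hM : IsPModular p M) (hH : ∀ c : G, c ∈ H ↔ c * x = x * c)
    (hx : ∃ k, orderOf x = p ^ k) {B : Set (IrrCharacter G)} [DecidablePred (· ∈ B)]
    {b : Set (IrrCharacter H)} [DecidablePred (· ∈ b)]
    (hb : IsInducedBlock M H b B) :
    ∑ χ ∈ univ.filter (· ∈ B), ∑ η ∈ univ.filter (· ∈ b),
      classInner (pRegularPart p (secFun H x (χ : G → ℂ))) (η : H → ℂ) *
        conj (classInner (pRegularPart p (secFun H x (χ : G → ℂ))) (η : H → ℂ)) =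
      (blockRank p b : ℂ) := by
  rw [blockRank_eq_sum hM.2.2 hb.1, Finset.sum_comm]
  refine Finset.sum_congr rfl fun η hη => ?_
  rw [← sum_irr_inner_secFun hH hx (isClassFunction_irr η)]
  refine Finset.sum_subset (Finset.subset_univ _) fun χ _ hχ => ?_
  rw [secFun_eq_zero_of_notMem hM hH hx hb (by simpa using hχ) (mem_filter.1 hη).2, zero_mul]

/-- `χ (x c)` and `χ c` agree modulo the local ideal. -/
theorem memLocalIdeal_secFun_sub (hpM : (p : AlgInt) ∈ M) (hH : ∀ c : G, c ∈ H ↔ c * x = x * c)
    (hx : ∃ k, orderOf x = p ^ k) {χ : G → ℂ} (hχ : IsCharacter G χ) {c : H}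
    (hc : ¬ p ∣ orderOf c) : MemLocalIdeal M (secFun H x χ c - χ c) := by
  have h := memLocalIdeal_char_sub hpM hχ (x * (c : G))
  rwa [pPrimePart_mul ((hH c).1 c.2).symm hx (by rwa [Subgroup.orderOf_coe])] at h

/-- For a height zero character the section values meet every inducing block exactly. -/
theorem not_memLocalIdeal_secFun (hpM : (p : AlgInt) ∈ M) (hH : ∀ c : G, c ∈ H ↔ c * x = x * c)
    (hx : ∃ k, orderOf x = p ^ k) {B : Set (IrrCharacter G)}
    {b : Set (IrrCharacter H)} (hb : IsInducedBlock M H b B) {χ : IrrCharacter G} (hχ : χ ∈ B)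
    (h0 : degVal p χ = blockMin p B) {η : IrrCharacter H} (hη : η ∈ b) :
    ¬ MemLocalIdeal M (pInner p (secFun H x (χ : G → ℂ)) (η : H → ℂ) / (η : H → ℂ) 1) := by
  intro hmem
  refine (isInducedBlock_iff H hpM ⟨B, hb⟩ hb.2.1 hχ h0 hη).mp hb ?_
  rw [pInner_div_eq_omega] at hmem ⊢
  set a : H → ℂ := fun c => pRegularPart p (secFun H x (χ : G → ℂ)) c⁻¹
  set a' : H → ℂ := fun c => pRegularPart p (fun c : H => (χ : G → ℂ) c) c⁻¹
  have hla : IsLocClassFun M a := isLocClassFun_regular
    (isClassFunction_secFun hH (isClassFunction_irr χ)) fun c => irr_mem_loc χ _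
  have hla' : IsLocClassFun M a' := isLocClassFun_regular
    (fun c d => by simpa using isClassFunction_irr χ (c : G) (d : G)) fun c => irr_mem_loc χ _
  have h1 : MemLocalIdeal M (omega (η : H → ℂ) a' - omega (η : H → ℂ) a) := by
    refine Blocks.omega_congr hla' hla (fun c => ?_) η
    simp only [a, a', pRegularPart_apply]
    split_ifs with hc
    · simpa using MemLocalIdeal.zero' (M := M)
    · have := MemLocalIdeal.neg'
        (memLocalIdeal_secFun_sub hpM hH hx (isCharacter_of_irr χ.2) hc)
      simpa using this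
  have h2 := MemLocalIdeal.mul_left' (invCompl_mem_loc (G := H) (p := p) hpM) h1
  rw [mul_sub] at h2
  have h3 := MemLocalIdeal.add' h2 hmem
  rwa [sub_add_cancel] at h3

end Section

end CfsgLib.BlockOrth
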