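/-
Contribution matrices of subsections and the bound `k₀(B)² ≤ p^{2q} l(b)`.
-/
import Cfsg.Agent.Lib.BlockOrth.Subsection
import Cfsg.Agent.Lib.CharApps.Galois
import Cfsg.Agent.S4566

set_option autoImplicit false
set_option linter.style.haveILetI false
set_option linter.unusedSectionVars false

namespace CfsgLib.BlockOrth

open Cfsg CfsgLib.Chars CfsgLib.Blocks Finset
open scoped ComplexConjugate IntermediateField

universe u

variable {G : Type u} [Group G] [Fintype G] {M : Ideal AlgInt} [M.IsPrime] {p : ℕ}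
  [hp : Fact p.Prime] {H : Subgroup G} [Fintype H] {x : G}

/-- The scalar of a central element on an irreducible character. -/
noncomputable def centralScalar (η : G → ℂ) (z : G) : ℂ := η z / η 1

theorem irr_central_mul (η : IrrCharacter G) {z : G} (hz : z ∈ Subgroup.center G) (m : G) :
    (η : G → ℂ) (z * m) = centralScalar (η : G → ℂ) z * (η : G → ℂ) m := by
  obtain ⟨c, hc⟩ := Cfsg.Agent.S4566.central_mul_irr η z hz
  have h1 := hc 1
  rw [mul_one] at h1
  rw [centralScalar, h1, mul_div_assoc, div_self (irr_degree_ne_zero η.2), mul_one, hc]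

theorem centralScalar_pow (η : IrrCharacter G) {z : G} (hz : z ∈ Subgroup.center G) (k : ℕ) :
    centralScalar (η : G → ℂ) (z ^ k) = centralScalar (η : G → ℂ) z ^ k := by
  induction k with
  | zero => simp [centralScalar, irr_degree_ne_zero η.2]
  | succ k ih =>
    rw [pow_succ', pow_succ', ← ih]
    conv_lhs => rw [centralScalar, irr_central_mul η hz, mul_div_assoc]
    rfl

theorem centralScalar_pow_eq_one (η : IrrCharacter G) {z : G} (hz : z ∈ Subgroup.center G) {N : ℕ}
    (hN : z ^ N = 1) : centralScalar (η : G → ℂ) z ^ N = 1 := by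
  rw [← centralScalar_pow η hz, hN, centralScalar, div_self (irr_degree_ne_zero η.2)]

theorem mem_center_of_self (hH : ∀ c : G, c ∈ H ↔ c * x = x * c) :
    (⟨x, (hH x).2 rfl⟩ : H) ∈ Subgroup.center H :=
  Subgroup.mem_center_iff.2 fun c => Subtype.ext ((hH c).1 c.2)

/-- The coefficient of `θ` in `c ↦ χ (x c)`. -/
theorem inner_secFun_eq (hH : ∀ c : G, c ∈ H ↔ c * x = x * c) (χ : IrrCharacter G)
    (θ : IrrCharacter H) :
    classInner (secFun H x (χ : G → ℂ)) (θ : H → ℂ) =
      centralScalar (θ : H → ℂ) ⟨x, (hH x).2 rfl⟩ *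
        classInner (fun h : H => (χ : G → ℂ) h) (θ : H → ℂ) := by
  classical
  haveI := irrFintype H
  have hres : IsCharacter H (fun h : H => (χ : G → ℂ) h) :=
    isCharacter_restrict H (isCharacter_of_irr χ.2)
  have hexp : secFun H x (χ : G → ℂ) = ∑ φ : IrrCharacter H,
      (centralScalar (φ : H → ℂ) ⟨x, (hH x).2 rfl⟩ *
        classInner (fun h : H => (χ : G → ℂ) h) (φ : H → ℂ)) • (φ : H → ℂ) := by
    funext c
    have h := congrFun (classFun_eq_sum (isClassFunction_of_isCharacter hres)) (⟨x, (hH x).2 rfl⟩ * c)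
    rw [Finset.sum_apply] at h ⊢
    show (χ : G → ℂ) (x * c) = _
    refine (show _ = _ from h).trans (Finset.sum_congr rfl fun φ _ => ?_)
    rw [Pi.smul_apply, Pi.smul_apply, smul_eq_mul, smul_eq_mul,
      irr_central_mul φ (mem_center_of_self hH)]
    ring
  rw [hexp, Chars.inner_sum_left]
  simp only [Chars.inner_smul_left, inner_irr, mul_ite, mul_one, mul_zero]
  rw [Finset.sum_ite_eq' Finset.univ θ, if_pos (Finset.mem_univ _)]

variable [Fintype (IrrCharacter H)] {B : Set (IrrCharacter G)} {b : Set (IrrCharacter H)}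
  [DecidablePred (· ∈ b)]

/-- The entry of the contribution matrix of a subsection, times `p ^ d`. -/
noncomputable def contrib (p : ℕ) [Fact p.Prime] (b : Set (IrrCharacter H))
    [DecidablePred (· ∈ b)] (x : G) (χ ψ : IrrCharacter G) : ℂ :=
  ∑ θ ∈ univ.filter (· ∈ b), ∑ θ' ∈ univ.filter (· ∈ b),
    classInner (secFun H x (χ : G → ℂ)) (θ : H → ℂ) *
      conj (classInner (secFun H x (ψ : G → ℂ)) (θ' : H → ℂ)) * (dInt p b θ θ' : ℂ)

/-- The regular coefficient from the ordinary ones. -/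
theorem sum_inner_mul_dInt (hpM : (p : AlgInt) ∈ M) (hb : IsPBlock M b) {φ : H → ℂ}
    (hφ : IsClassFunction H φ) {θ : IrrCharacter H} (hθ : θ ∈ b) :
    ∑ θ' ∈ univ.filter (· ∈ b), classInner φ (θ' : H → ℂ) * (dInt p b θ θ' : ℂ) =
      ((p ^ blockDefect p b : ℕ) : ℂ) * classInner (pRegularPart p φ) (θ : H → ℂ) := by
  conv_rhs => rw [classFun_eq_sum hφ, pRegularPart_sum, Chars.inner_sum_left, Finset.mul_sum]
  refine (Finset.sum_subset (Finset.subset_univ _) fun θ' _ hθ' => ?_).trans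
    (Finset.sum_congr rfl fun θ' _ => ?_)
  · rw [dInt_eq_zero hpM hb hθ (by simpa using hθ'), Int.cast_zero, mul_zero]
  · have h := congrArg conj (dInt_spec hpM hθ θ')
    rw [map_intCast, map_mul, map_natCast, inner_conj, classInner_pRegularPart_right] at h
    rw [h, pRegularPart_smul, Chars.inner_smul_left]
    ring

theorem contrib_eq_inner (hpM : (p : AlgInt) ∈ M) (hH : ∀ c : G, c ∈ H ↔ c * x = x * c)
    (hb : IsPBlock M b) (χ ψ : IrrCharacter G) :
    contrib p b x χ ψ = ((p ^ blockDefect p b : ℕ) : ℂ) *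
      ∑ η ∈ univ.filter (· ∈ b), classInner (pRegularPart p (secFun H x (χ : G → ℂ))) (η : H → ℂ) *
        conj (classInner (pRegularPart p (secFun H x (ψ : G → ℂ))) (η : H → ℂ)) := by
  have hcl := fun χ : IrrCharacter G => isClassFunction_secFun hH (isClassFunction_irr χ)
  set P : ℂ := ((p ^ blockDefect p b : ℕ) : ℂ) with hP
  have h1 : contrib p b x χ ψ = P * ∑ θ ∈ univ.filter (· ∈ b),
      classInner (secFun H x (χ : G → ℂ)) (θ : H → ℂ) *
        conj (classInner (pRegularPart p (secFun H x (ψ : G → ℂ))) (θ : H → ℂ)) := by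
    rw [contrib, Finset.mul_sum]
    refine Finset.sum_congr rfl fun θ hθ => ?_
    have h := congrArg conj (sum_inner_mul_dInt (p := p) hpM hb (hcl ψ) (mem_filter.1 hθ).2)
    simp only [map_sum, map_mul, map_intCast, map_natCast] at h
    rw [mul_left_comm, ← h, Finset.mul_sum]
    exact Finset.sum_congr rfl fun θ' _ => by ring
  rw [h1]
  congr 1
  have hpar := inner_eq_sum (ψ := blockPart b (secFun H x (χ : G → ℂ)))
    (isClassFunction_pRegularPart (p := p) (hcl ψ))
  have hb1 : ∀ θ : IrrCharacter H, classInner (blockPart b (secFun H x (χ : G → ℂ))) (θ : H → ℂ) =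
      if θ ∈ b then classInner (secFun H x (χ : G → ℂ)) (θ : H → ℂ) else 0 := by
    intro θ
    have hbp : blockPart b (secFun H x (χ : G → ℂ)) = ∑ θ ∈ univ.filter (· ∈ b),
        classInner (secFun H x (χ : G → ℂ)) (θ : H → ℂ) • (θ : H → ℂ) := by
      funext g
      rw [blockPart, sum_mem_block, Finset.sum_apply]
      refine Finset.sum_congr rfl fun θ _ => ?_
      rw [Pi.smul_apply, smul_eq_mul, inner_congr_inst]
    classical
    rw [hbp, Chars.inner_sum_left]
    simp only [Chars.inner_smul_left, inner_irr, mul_ite, mul_one, mul_zero]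
    rw [Finset.sum_ite_eq' (univ.filter (· ∈ b)) θ]
    simp
  -- both sides are the inner product of the block part with the regular function
  have e1 : ∑ θ ∈ univ.filter (· ∈ b), classInner (secFun H x (χ : G → ℂ)) (θ : H → ℂ) *
      conj (classInner (pRegularPart p (secFun H x (ψ : G → ℂ))) (θ : H → ℂ)) =
      classInner (blockPart b (secFun H x (χ : G → ℂ))) (pRegularPart p (secFun H x (ψ : G → ℂ))) := by
    rw [← inner_conj, hpar, map_sum, Finset.sum_filter]
    refine Finset.sum_congr rfl fun θ _ => ?_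
    rw [map_mul, Complex.conj_conj, hb1]
    split_ifs <;> ring
  rw [e1, classInner_pRegularPart_right, ← pRegularPart_pRegularPart p (blockPart b _),
    ← classInner_pRegularPart_right, inner_eq_sum (isClassFunction_pRegularPart ?_),
    Finset.sum_filter]
  · refine Finset.sum_congr rfl fun η _ => ?_
    rw [inner_pRegularPart_blockPart hpM hb (hcl χ) η]
    split_ifs <;> simp
  · intro g h
    simp only [blockPart]
    exact finsum_congr fun θ => finsum_congr fun _ => by rw [isClassFunction_irr θ g h]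

theorem sum_norm_sq_contrib [Fintype (IrrCharacter G)] [DecidablePred (· ∈ B)]
    (hM : IsPModular p M) (hH : ∀ c : G, c ∈ H ↔ c * x = x * c)
    (hx : ∃ k, orderOf x = p ^ k) (hb : IsInducedBlock M H b B) :
    ∑ χ ∈ univ.filter (· ∈ B), ∑ ψ ∈ univ.filter (· ∈ B), ‖contrib p b x χ ψ‖ ^ 2 =
      (p : ℝ) ^ (2 * blockDefect p b) * (blockRank p b : ℝ) := by
  have hpM := hM.2.2
  set P : ℂ := ((p ^ blockDefect p b : ℕ) : ℂ) with hP
  set u : IrrCharacter G → IrrCharacter H → ℂ := fun χ η =>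
    classInner (pRegularPart p (secFun H x (χ : G → ℂ))) (η : H → ℂ) with hu
  set s := univ.filter (· ∈ b)
  set t := univ.filter (· ∈ B) with ht
  have hA : ∀ η ∈ s, ∀ η' ∈ s, P * ∑ χ ∈ t, u χ η * conj (u χ η') = (dInt p b η' η : ℂ) := by
    intro η hη η' hη'
    rw [dInt_spec hpM (mem_filter.1 hη').2, ← sum_irr_inner_secFun hH hx (isClassFunction_irr η')]
    congr 1
    refine Finset.sum_subset (Finset.subset_univ _) fun χ _ hχ => ?_
    simp only [hu]
    rw [secFun_eq_zero_of_notMem hM hH hx hb (by simpa [ht] using hχ) (mem_filter.1 hη).2, zero_mul]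
  apply Complex.ofReal_injective
  push_cast
  simp only [← Complex.mul_conj']
  calc ∑ χ ∈ t, ∑ ψ ∈ t, contrib p b x χ ψ * conj (contrib p b x χ ψ)
      = ∑ χ ∈ t, ∑ ψ ∈ t, ∑ η ∈ s, ∑ η' ∈ s,
          (P * (u χ η * conj (u χ η'))) * (P * (u ψ η' * conj (u ψ η))) := by
        refine Finset.sum_congr rfl fun χ _ => Finset.sum_congr rfl fun ψ _ => ?_
        rw [contrib_eq_inner hpM hH hb.1, map_mul, map_sum, hP, map_natCast,
          mul_mul_mul_comm, Finset.sum_mul_sum, Finset.mul_sum]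
        refine Finset.sum_congr rfl fun η _ => ?_
        rw [Finset.mul_sum]
        refine Finset.sum_congr rfl fun η' _ => ?_
        simp only [hu, map_mul, Complex.conj_conj]
        ring
    _ = ∑ η ∈ s, ∑ η' ∈ s,
          (P * ∑ χ ∈ t, u χ η * conj (u χ η')) * (P * ∑ ψ ∈ t, u ψ η' * conj (u ψ η)) := by
        rw [Finset.sum_congr rfl fun χ (_ : χ ∈ t) => Finset.sum_comm, Finset.sum_comm]
        refine Finset.sum_congr rfl fun η _ => ?_
        rw [Finset.sum_congr rfl fun χ (_ : χ ∈ t) => Finset.sum_comm, Finset.sum_comm]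
        refine Finset.sum_congr rfl fun η' _ => ?_
        simp only [Finset.mul_sum, Finset.sum_mul]
        rw [Finset.sum_comm]
    _ = ((∑ η ∈ s, ∑ η' ∈ s, dInt p b η' η * dInt p b η η' : ℤ) : ℂ) := by
        push_cast
        exact Finset.sum_congr rfl fun η hη => Finset.sum_congr rfl fun η' hη' => by
          rw [hA η hη η' hη', hA η' hη' η hη]
    _ = (p : ℂ) ^ (2 * blockDefect p b) * (blockRank p b : ℂ) := by
        rw [Finset.sum_comm, Finset.sum_congr rfl fun η' hη' =>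
          sum_dInt_mul_dInt (ψ := η') hpM hb.1 (mem_filter.1 hη').2,
          blockRank_eq_sum hpM hb.1, Finset.mul_sum]
        push_cast
        refine Finset.sum_congr rfl fun η hη => ?_
        rw [dInt_spec hpM (mem_filter.1 hη).2]
        push_cast
        ring

/-- Contributions at characters of height zero are units at `M`. -/
theorem not_memLocalIdeal_contrib (hpM : (p : AlgInt) ∈ M)
    (hH : ∀ c : G, c ∈ H ↔ c * x = x * c) (hx : ∃ k, orderOf x = p ^ k)
    (hb : IsInducedBlock M H b B) {χ ψ : IrrCharacter G} (hχ : χ ∈ B) (hψ : ψ ∈ B)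
    (hχ0 : degVal p χ = blockMin p B) (hψ0 : degVal p ψ = blockMin p B) :
    ¬ MemLocalIdeal M (contrib p b x χ ψ) := by
  classical
  obtain ⟨n, hn⟩ := hx
  set s := univ.filter (· ∈ b) with hs
  set v := blockMin p b with hv
  obtain ⟨η₀, hη₀, hmin⟩ := exists_degVal_eq_blockMin (p := p) (Blocks.IsPBlock.nonempty hb.1)
  have hres : ∀ φ : IrrCharacter G, IsCharacter H (fun h : H => (φ : G → ℂ) h) := fun φ =>
    isCharacter_restrict H (isCharacter_of_irr φ.2)
  choose m hm using fun (φ : IrrCharacter G) (θ : IrrCharacter H) => inner_irr_right_nat (hres φ) θ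
  set τ : IrrCharacter H → ℂ := fun θ => ((charDegree (θ : H → ℂ) / p ^ v : ℕ) : ℂ) with hτ
  have hdeg : ∀ θ ∈ s, (θ : H → ℂ) 1 = ((p ^ v : ℕ) : ℂ) * τ θ := fun θ hθ => by
    simp only [hτ]
    rw [irr_apply_one, ← Nat.cast_mul, Nat.mul_div_cancel']
    exact (pow_dvd_pow p (blockMin_le (mem_filter.1 hθ).2)).trans (Nat.ordProj_dvd _ _)
  have hp0 : ((p ^ v : ℕ) : ℂ) ≠ 0 := by simp [hp.out.ne_zero]
  have hs₀ : η₀ ∈ s := mem_filter.2 ⟨mem_univ _, hη₀⟩
  have hD : ∀ (φ : IrrCharacter G), ∀ θ ∈ s, (∑ θ' ∈ s, (m φ θ' : ℂ) * (dInt p b θ θ' : ℂ)) =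
      τ θ * (pInner p (fun h : H => (φ : G → ℂ) h) (θ : H → ℂ) / (θ : H → ℂ) 1) := by
    intro φ θ hθ
    simp only [← hm]
    rw [sum_inner_mul_dInt hpM hb.1 (isClassFunction_of_isCharacter (hres φ)) (mem_filter.1 hθ).2]
    apply mul_left_cancel₀ hp0
    rw [← mul_assoc ((p ^ v : ℕ) : ℂ), ← mul_assoc ((p ^ v : ℕ) : ℂ), ← hdeg θ hθ,
      mul_div_cancel₀ _ (irr_degree_ne_zero θ.2), pInner,
      ← blockMin_add_blockDefect (p := p) (Blocks.IsPBlock.nonempty hb.1), pow_add, Nat.cast_mul]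
  have hunit : ∀ φ : IrrCharacter G, φ ∈ B → degVal p φ = blockMin p B → ∀ θ ∈ b,
      ¬ MemLocalIdeal M (pInner p (fun h : H => (φ : G → ℂ) h) (θ : H → ℂ) / (θ : H → ℂ) 1) :=
    fun φ hφ h0 θ hθ => (isInducedBlock_iff H hpM ⟨B, hb⟩ hb.2.1 hφ h0 hθ).mp hb
  have hτunit : ¬ MemLocalIdeal M (τ η₀) := by
    simp only [hτ]
    rw [memLocalIdeal_natCast_iff hp.out hpM, hv, ← hmin]
    exact Nat.not_dvd_ordCompl hp.out (irr_charDegree_ne_zero η₀)
  set T : ℂ := ∑ θ ∈ s, (m χ θ : ℂ) * τ θ with hT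
  have hτloc : ∀ θ, τ θ ∈ loc M := fun θ => natCast_mem_loc _
  have hTloc : T ∈ loc M := sum_mem fun θ _ => mul_mem (natCast_mem_loc _) (hτloc θ)
  have hT0 : ¬ MemLocalIdeal M T := by
    intro hTi
    have hKloc : pInner p (fun h : H => (χ : G → ℂ) h) (η₀ : H → ℂ) / (η₀ : H → ℂ) 1 ∈ loc M := by
      rw [pInner_div_eq_omega]
      exact mul_mem (invCompl_mem_loc hpM) (omega_mem_loc η₀ (isLocClassFun_regular
        (isClassFunction_of_isCharacter (hres χ)) fun h => irr_mem_loc χ _))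
    refine hunit χ hχ hχ0 η₀ hη₀ ((MemLocalIdeal.mem_or_mem (hτloc η₀) hKloc ?_).resolve_left hτunit)
    rw [← hD χ η₀ hs₀]
    set J : ℂ := (pInt p η₀ η₀ : ℂ) / (charDegree (η₀ : H → ℂ) : ℂ) with hJ
    have hJd : ∀ θ ∈ s, (dInt p b η₀ θ : ℂ) =
        τ θ * ((pInt p η₀ θ : ℂ) / (charDegree (θ : H → ℂ) : ℂ)) := fun θ hθ => by
      apply mul_left_cancel₀ hp0
      rw [← mul_assoc, ← hdeg θ hθ, ← irr_apply_one, mul_div_cancel₀ _ (irr_degree_ne_zero θ.2),
        ← pow_mul_dInt (B := b) hpM hη₀ θ]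
      push_cast
      rfl
    have e : (∑ θ ∈ s, (m χ θ : ℂ) * (dInt p b η₀ θ : ℂ)) = T * J + ∑ θ ∈ s,
        (m χ θ : ℂ) * τ θ * ((pInt p η₀ θ : ℂ) / (charDegree (θ : H → ℂ) : ℂ) - J) := by
      rw [hT, Finset.sum_mul, ← Finset.sum_add_distrib]
      exact Finset.sum_congr rfl fun θ hθ => by rw [hJd θ hθ]; ring
    rw [e]
    refine MemLocalIdeal.add' (MemLocalIdeal.mul_right' hTi (pInt_div_mem_loc hpM η₀ η₀))
      (MemLocalIdeal.sum' fun θ hθ => MemLocalIdeal.mul_left'
        (mul_mem (natCast_mem_loc _) (hτloc θ)) ?_)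
    exact pInt_congr hpM hb.1 η₀ (mem_filter.1 hθ).2 hη₀
  set ε : IrrCharacter H → ℂ := fun θ => centralScalar (θ : H → ℂ) ⟨x, (hH x).2 rfl⟩
  have hεN : ∀ θ, ε θ ^ (p ^ n) = 1 := fun θ =>
    centralScalar_pow_eq_one θ (mem_center_of_self hH)
      (Subtype.ext (by rw [SubmonoidClass.coe_pow, ← hn]; exact pow_orderOf_eq_one x))
  intro hmem
  set K : ℂ := pInner p (fun h : H => (ψ : G → ℂ) h) (η₀ : H → ℂ) / (η₀ : H → ℂ) 1 with hK
  have hacl := isLocClassFun_regular (p := p) (M := M) (isClassFunction_of_isCharacter (hres ψ))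
    fun h : H => irr_mem_loc ψ _
  have hKloc : K ∈ loc M := by
    rw [hK, pInner_div_eq_omega]
    exact mul_mem (invCompl_mem_loc hpM) (omega_mem_loc η₀ hacl)
  have h1 : MemLocalIdeal M (contrib p b x χ ψ -
      ∑ θ ∈ s, ∑ θ' ∈ s, (m χ θ : ℂ) * (m ψ θ' : ℂ) * (dInt p b θ θ' : ℂ)) := by
    rw [contrib, ← Finset.sum_sub_distrib]
    refine MemLocalIdeal.sum' fun θ _ => ?_
    rw [← Finset.sum_sub_distrib]
    refine MemLocalIdeal.sum' fun θ' _ => ?_
    rw [inner_secFun_eq hH, inner_secFun_eq hH, hm, hm, map_mul, map_natCast,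
      show ∀ a b c d e : ℂ, a * b * (c * d) * e - b * d * e = b * d * e * (a * c - 1) by
        intros; ring]
    refine MemLocalIdeal.mul_left' (mul_mem (mul_mem (natCast_mem_loc _) (natCast_mem_loc _))
      (intCast_mem _ _)) ?_
    have hint : ∀ θ, IsIntegral ℤ (ε θ) := fun θ => IsIntegral.of_pow (pow_pos hp.out.pos n)
      (by rw [hεN]; exact isIntegral_one)
    refine memLocalIdeal_sub_of_pow_eq hp.out hpM (n := n)
      (mul_mem (isIntegral_mem_loc (hint θ))
        (isIntegral_mem_loc (map_isIntegral_int (starRingEnd ℂ) (hint θ')))) (one_mem _) ?_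
    rw [mul_pow, ← map_pow, hεN θ, hεN θ', map_one, one_mul, one_pow]
  have h2 : MemLocalIdeal M ((∑ θ ∈ s, ∑ θ' ∈ s,
      (m χ θ : ℂ) * (m ψ θ' : ℂ) * (dInt p b θ θ' : ℂ)) - T * K) := by
    rw [hT, Finset.sum_mul, ← Finset.sum_sub_distrib]
    refine MemLocalIdeal.sum' fun θ hθ => ?_
    simp only [mul_assoc, ← Finset.mul_sum]
    rw [← mul_sub]
    refine MemLocalIdeal.mul_left' (natCast_mem_loc _) ?_
    rw [hD ψ θ hθ, ← mul_sub]
    refine MemLocalIdeal.mul_left' (hτloc θ) ?_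
    rw [hK, pInner_div_eq_omega, pInner_div_eq_omega, ← mul_sub]
    exact MemLocalIdeal.mul_left' (invCompl_mem_loc hpM)
      (omega_sub_mem (Blocks.IsPBlock.sameBlock hb.1 (mem_filter.1 hθ).2 hη₀) hacl)
  have h3 := MemLocalIdeal.sub' hmem (MemLocalIdeal.add' h1 h2)
  rw [show ∀ a c d : ℂ, a - (a - c + (c - d)) = d by intros; ring] at h3
  exact hunit ψ hψ hψ0 η₀ hη₀ ((MemLocalIdeal.mem_or_mem hTloc hKloc h3).resolve_left hT0)

open scoped Classical in
/-- `k₀(B)² ≤ p ^ (2 q) l(b)` for every subsection `(x, b)`, `q` the defect of `b`. -/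
theorem card_height_zero_sq_le (hM : IsPModular p M)
    (hH : ∀ c : G, c ∈ H ↔ c * x = x * c) (hx : ∃ k, orderOf x = p ^ k)
    (hb : IsInducedBlock M H b B) :
    Nat.card {χ : IrrCharacter G // χ ∈ B ∧ degVal p χ = blockMin p B} ^ 2 ≤
      p ^ (2 * blockDefect p b) * blockRank p b := by
  haveI := irrFintype G
  have hpM := hM.2.2
  obtain ⟨n, hn⟩ := hx
  set N := p ^ n with hN
  haveI : NeZero N := ⟨pow_ne_zero _ hp.out.ne_zero⟩
  set S := (Finset.range N).filter fun k => Nat.Coprime k N with hS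
  have hSpos : 0 < S.card := by
    refine Finset.card_pos.2 ⟨1 % N, mem_filter.2 ⟨mem_range.2 (Nat.mod_lt _ (NeZero.pos N)), ?_⟩⟩
    rw [Nat.coprime_iff_gcd_eq_one, ← Nat.gcd_rec, Nat.gcd_one_right]
  have hxN : x ^ N = 1 := by
    have h := pow_orderOf_eq_one x
    rwa [hn] at h
  have hHk : ∀ k ∈ S, (∀ c : G, c ∈ H ↔ c * x ^ k = x ^ k * c) ∧ ∃ j, orderOf (x ^ k) = p ^ j := by
    intro k hk
    have hcop : Nat.Coprime k (orderOf x) := by rw [hn]; exact (mem_filter.1 hk).2
    refine ⟨fun c => ⟨fun hc => Commute.pow_right ((hH c).1 hc) k, fun hc => (hH c).2 ?_⟩,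
      n, by rw [hcop.symm.orderOf_pow, hn]⟩
    obtain ⟨j, hj⟩ := exists_pow_eq_self_of_coprime hcop
    have := Commute.pow_right (show Commute c (x ^ k) from hc) j
    rwa [hj] at this
  set ε : IrrCharacter H → ℂ := fun θ => centralScalar (θ : H → ℂ) ⟨x, (hH x).2 rfl⟩ with hε
  have hεN : ∀ θ, ε θ ^ N = 1 := fun θ =>
    centralScalar_pow_eq_one θ (mem_center_of_self hH)
      (Subtype.ext (by rw [SubmonoidClass.coe_pow]; exact hxN))
  set c : IrrCharacter G → IrrCharacter G → IrrCharacter H → IrrCharacter H → ℤ := fun χ ψ θ θ' =>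
    ((inner_irr_right_nat (isCharacter_restrict H (isCharacter_of_irr χ.2)) θ).choose : ℤ) *
      ((inner_irr_right_nat (isCharacter_restrict H (isCharacter_of_irr ψ.2)) θ').choose : ℤ) *
      dInt p b θ θ' with hc
  have hform : ∀ k ∈ S, ∀ χ ψ, contrib p b (x ^ k) χ ψ =
      ∑ θ ∈ univ.filter (· ∈ b), ∑ θ' ∈ univ.filter (· ∈ b),
        (c χ ψ θ θ' : ℂ) * (ε θ * conj (ε θ')) ^ k := by
    intro k hk χ ψ
    rw [contrib]
    refine Finset.sum_congr rfl fun θ _ => Finset.sum_congr rfl fun θ' _ => ?_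
    have hz : ∀ φ : IrrCharacter H,
        centralScalar (φ : H → ℂ) ⟨x ^ k, ((hHk k hk).1 _).2 rfl⟩ = ε φ ^ k := fun φ => by
      simp only [hε]
      rw [← centralScalar_pow φ (mem_center_of_self hH)]
      congr 1
    rw [inner_secFun_eq (hHk k hk).1, inner_secFun_eq (hHk k hk).1, hz, hz,
      (inner_irr_right_nat (isCharacter_restrict H (isCharacter_of_irr χ.2)) θ).choose_spec,
      (inner_irr_right_nat (isCharacter_restrict H (isCharacter_of_irr ψ.2)) θ').choose_spec]
    simp only [hc]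
    push_cast
    simp only [map_mul, map_pow, map_natCast, mul_pow]
    ring
  set s0 := univ.filter fun χ : IrrCharacter G => χ ∈ B ∧ degVal p χ = blockMin p B with hs0
  have hpair : ∀ χ ∈ s0, ∀ ψ ∈ s0, (S.card : ℝ) ≤ ∑ k ∈ S, ‖contrib p b (x ^ k) χ ψ‖ ^ 2 := by
    intro χ hχ ψ hψ
    obtain ⟨-, hχB, hχ0⟩ := mem_filter.1 hχ
    obtain ⟨-, hψB, hψ0⟩ := mem_filter.1 hψ
    set f : ℕ → ℂ := fun k => ∑ θ ∈ univ.filter (· ∈ b), ∑ θ' ∈ univ.filter (· ∈ b),
      (c χ ψ θ θ' : ℂ) * (ε θ * conj (ε θ')) ^ k with hf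
    have he : ∀ θ θ', (ε θ * conj (ε θ')) ^ N = 1 := fun θ θ' => by
      rw [mul_pow, ← map_pow, hεN, hεN, map_one, one_mul]
    have hmem : ∀ k, f k ∈ ℚ⟮CharApps.rootN N⟯ := fun k => by
      refine sum_mem fun θ _ => sum_mem fun θ' _ => mul_mem (intCast_mem _ _) (pow_mem ?_ k)
      obtain ⟨i, -, hi⟩ := (CharApps.rootN_prim N).eq_pow_of_pow_eq_one (he θ θ')
      rw [← hi]
      exact pow_mem (IntermediateField.mem_adjoin_simple_self ℚ _) i
    have hint : ∀ k, IsIntegral ℤ (f k) := fun k => by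
      refine IsIntegral.sum _ fun θ _ => IsIntegral.sum _ fun θ' _ => IsIntegral.mul ?_
        (IsIntegral.pow (IsIntegral.of_pow (NeZero.pos N) (by rw [he]; exact isIntegral_one)) k)
      exact_mod_cast (isIntegral_algebraMap (R := ℤ) (x := c χ ψ θ θ'))
    have hne : ∀ k ∈ S, f k ≠ 0 := fun k hk h => by
      refine not_memLocalIdeal_contrib hpM (hHk k hk).1 (hHk k hk).2 hb hχB hψB hχ0 hψ0 ?_
      rw [hform k hk]
      show MemLocalIdeal M (f k)
      rw [h]
      exact MemLocalIdeal.zero'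
    obtain ⟨z, hz⟩ := CharApps.exists_int_of_rat (IsIntegral.prod _ fun k _ => hint k)
      (CharApps.exists_rat_of_fixed (prod_mem fun k (_ : k ∈ S) => hmem k) fun j σ hj hσ => by
        rw [map_prod]
        have hterm : ∀ k ∈ S, σ (f k) = f (k * j % N) := fun k _ => by
          simp only [hf, map_sum, map_mul, map_intCast]
          refine Finset.sum_congr rfl fun θ _ => Finset.sum_congr rfl fun θ' _ => ?_
          rw [map_pow, hσ _ (he θ θ'), ← pow_mul, mul_comm j k,
            pow_eq_pow_mod (k * j) (he θ θ')]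
        rw [Finset.prod_congr rfl hterm]
        have hinj : Set.InjOn (fun k => k * j % N) (S : Set ℕ) := fun a ha a' ha' h => by
          have h' : a ≡ a' [MOD N] := Nat.ModEq.cancel_right_of_coprime (by
            rw [Nat.gcd_comm]; exact hj) h
          have e1 := mem_range.1 (mem_filter.1 ha).1
          have e2 := mem_range.1 (mem_filter.1 ha').1
          rwa [Nat.ModEq, Nat.mod_eq_of_lt e1, Nat.mod_eq_of_lt e2] at h'
        have himg : S.image (fun k => k * j % N) = S := by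
          refine Finset.eq_of_subset_of_card_le (fun a ha => ?_)
            (le_of_eq (Finset.card_image_of_injOn hinj).symm)
          obtain ⟨k, hk, rfl⟩ := mem_image.1 ha
          refine mem_filter.2 ⟨mem_range.2 (Nat.mod_lt _ (NeZero.pos N)), ?_⟩
          rw [Nat.coprime_iff_gcd_eq_one, ← Nat.gcd_rec, Nat.gcd_comm]
          exact Nat.Coprime.mul_left (mem_filter.1 hk).2 hj
        conv_rhs => rw [← himg]
        rw [Finset.prod_image hinj])
    have hz0 : z ≠ 0 := fun h => by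
      rw [h, Int.cast_zero] at hz
      exact Finset.prod_ne_zero_iff.2 hne hz.symm
    have hle := CharApps.card_le_sum_of_one_le_prod S (f := fun k => ‖f k‖ ^ 2)
      (fun k _ => by positivity) (by
        rw [Finset.prod_pow, ← norm_prod, ← hz, Complex.norm_intCast, sq_abs]
        exact_mod_cast Int.add_one_le_iff.2 (sq_pos_of_ne_zero hz0))
    refine hle.trans (le_of_eq (Finset.sum_congr rfl fun k hk => ?_))
    rw [hform k hk]
  have h1 : ((s0.card : ℝ) ^ 2) * S.card ≤
      ∑ k ∈ S, ∑ χ ∈ univ.filter (· ∈ B), ∑ ψ ∈ univ.filter (· ∈ B),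
        ‖contrib p b (x ^ k) χ ψ‖ ^ 2 := by
    calc ((s0.card : ℝ) ^ 2) * S.card = ∑ χ ∈ s0, ∑ ψ ∈ s0, (S.card : ℝ) := by
          simp only [Finset.sum_const, nsmul_eq_mul]; ring
      _ ≤ ∑ χ ∈ s0, ∑ ψ ∈ s0, ∑ k ∈ S, ‖contrib p b (x ^ k) χ ψ‖ ^ 2 :=
          Finset.sum_le_sum fun χ hχ => Finset.sum_le_sum fun ψ hψ => hpair χ hχ ψ hψ
      _ = ∑ k ∈ S, ∑ χ ∈ s0, ∑ ψ ∈ s0, ‖contrib p b (x ^ k) χ ψ‖ ^ 2 := by
          rw [Finset.sum_congr rfl fun χ (_ : χ ∈ s0) => Finset.sum_comm, Finset.sum_comm]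
      _ ≤ _ := by
          have hsub : s0 ⊆ univ.filter (· ∈ B) := fun χ hχ =>
            mem_filter.2 ⟨mem_univ _, (mem_filter.1 hχ).2.1⟩
          refine Finset.sum_le_sum fun k _ => le_trans (Finset.sum_le_sum fun χ _ =>
            Finset.sum_le_sum_of_subset_of_nonneg hsub fun _ _ _ => by positivity)
            (Finset.sum_le_sum_of_subset_of_nonneg hsub fun _ _ _ =>
              Finset.sum_nonneg fun _ _ => by positivity)
  rw [Finset.sum_congr rfl fun k hk => sum_norm_sq_contrib hM (hHk k hk).1 (hHk k hk).2 hb,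
    Finset.sum_const, nsmul_eq_mul, mul_comm (S.card : ℝ)] at h1
  have h2 := le_of_mul_le_mul_right h1 (by exact_mod_cast hSpos)
  have h3 : s0.card ^ 2 ≤ p ^ (2 * blockDefect p b) * blockRank p b := by exact_mod_cast h2
  rwa [Nat.card_eq_fintype_card, Fintype.card_subtype]

end CfsgLib.BlockOrth
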