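/-
Galois averages of algebraic integers of cyclotomic fields.
-/
import Cfsg.Agent.Lib.CharApps.Galois
import Cfsg.Agent.Lib.BlockOrth.PPart

set_option autoImplicit false
set_option linter.style.haveILetI false
set_option linter.unusedSectionVars false

namespace CfsgLib.BlockOrth

open Cfsg CfsgLib.Chars CfsgLib.Blocks CfsgLib.CharApps Finset Polynomial
open scoped ComplexConjugate IntermediateField

/-- The exponents prime to `N`, below `N`. -/
def unitsBelow (N : ℕ) : Finset ℕ := (Finset.range N).filter fun k => Nat.Coprime k N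

theorem mem_unitsBelow {N k : ℕ} : k ∈ unitsBelow N ↔ k < N ∧ Nat.Coprime k N := by
  simp [unitsBelow]

theorem card_unitsBelow (N : ℕ) : (unitsBelow N).card = N.totient := by
  rw [Nat.totient, unitsBelow]
  simp only [Nat.coprime_comm]

theorem card_unitsBelow_pos (N : ℕ) [NeZero N] : 0 < (unitsBelow N).card := by
  rw [card_unitsBelow]
  exact Nat.totient_pos.2 (NeZero.pos N)

/-- An algebraic integer of a cyclotomic field is an integral combination of the powers of a
primitive root of exponent below the degree. -/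
theorem exists_cyclo_rep {N : ℕ} [NeZero N] {y : ℂ} (hy : y ∈ ℚ⟮rootN N⟯) (hint : IsIntegral ℤ y) :
    ∃ b : ℕ → ℤ, y = ∑ e ∈ range N.totient, (b e : ℂ) * rootN N ^ e := by
  haveI hcyc : IsCyclotomicExtension {N} ℚ ℚ⟮rootN N⟯ :=
    (IntermediateField.isCyclotomicExtension_singleton_iff_eq_adjoin N _ _ _ (rootN_prim N)).mpr
      rfl
  haveI : NumberField ℚ⟮rootN N⟯ := IsCyclotomicExtension.numberField {N} ℚ _
  set ζ : ℚ⟮rootN N⟯ := ⟨rootN N, IntermediateField.mem_adjoin_simple_self ℚ _⟩ with hζdef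
  have hζ : IsPrimitiveRoot ζ N :=
    IsPrimitiveRoot.of_map_of_injective (f := algebraMap ℚ⟮rootN N⟯ ℂ) (rootN_prim N)
      (RingHom.injective _)
  haveI := IsCyclotomicExtension.Rat.isIntegralClosure_adjoin_singleton hζ
  have hint' : IsIntegral ℤ (⟨y, hy⟩ : ℚ⟮rootN N⟯) :=
    (isIntegral_algHom_iff ((IntermediateField.val _).restrictScalars ℤ) Subtype.val_injective).1
      hint
  obtain ⟨z, hz⟩ := (IsIntegralClosure.isIntegral_iff (A := Algebra.adjoin ℤ ({ζ} : Set _))).1 hint'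
  have hz2 : (z : ℚ⟮rootN N⟯) ∈ (Polynomial.aeval (R := ℤ) ζ).range :=
    (Algebra.adjoin_singleton_eq_range_aeval ℤ ζ).le z.2
  rw [AlgHom.mem_range] at hz2
  obtain ⟨f, hf⟩ := hz2
  have hy' : y = Polynomial.aeval (rootN N) f := by
    have h1 : rootN N = ((IntermediateField.val _).restrictScalars ℤ) ζ := rfl
    rw [h1, Polynomial.aeval_algHom_apply, hf]
    exact (congrArg Subtype.val hz).symm
  set Φ := Polynomial.cyclotomic N ℤ with hΦ
  have hroot : Polynomial.aeval (rootN N) Φ = 0 := by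
    rw [hΦ, cyclotomic_eq_minpoly (rootN_prim N) (NeZero.pos N), minpoly.aeval]
  set g := f %ₘ Φ with hg
  have hgy : y = Polynomial.aeval (rootN N) g := by
    rw [hy', hg]
    conv_lhs => rw [← Polynomial.modByMonic_add_div f Φ]
    rw [map_add, map_mul, hroot, zero_mul, add_zero]
  have hdeg : g.natDegree < N.totient := by
    have h := Polynomial.natDegree_modByMonic_lt f (cyclotomic.monic N ℤ) (fun h => by
      have := congrArg Polynomial.natDegree h
      rw [natDegree_cyclotomic, natDegree_one] at this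
      exact (Nat.totient_pos.2 (NeZero.pos N)).ne' this)
    rwa [natDegree_cyclotomic] at h
  refine ⟨g.coeff, ?_⟩
  rw [hgy, Polynomial.aeval_eq_sum_range' hdeg]
  exact Finset.sum_congr rfl fun e _ => zsmul_eq_mul _ _

/-- Such a combination is unique. -/
theorem cyclo_coeff_eq_zero {N : ℕ} [NeZero N] {b : ℕ → ℤ}
    (h : ∑ e ∈ range N.totient, (b e : ℂ) * rootN N ^ e = 0) :
    ∀ e < N.totient, b e = 0 := by
  set g : ℤ[X] := ∑ e ∈ range N.totient, C (b e) * X ^ e with hg
  have hroot : Polynomial.aeval (rootN N) g = 0 := by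
    rw [hg, map_sum, ← h]
    refine Finset.sum_congr rfl fun e _ => ?_
    simp
  have hdvd : Polynomial.cyclotomic N ℤ ∣ g := by
    rw [cyclotomic_eq_minpoly (rootN_prim N) (NeZero.pos N)]
    exact minpoly.isIntegrallyClosed_dvd ((rootN_prim N).isIntegral (NeZero.pos N)) hroot
  have hdeg : g.natDegree < (Polynomial.cyclotomic N ℤ).natDegree := by
    rw [natDegree_cyclotomic]
    refine lt_of_le_of_lt (natDegree_sum_le_of_forall_le _ _ (n := N.totient - 1) fun e he => ?_)
      (Nat.sub_lt (Nat.totient_pos.2 (NeZero.pos N)) one_pos)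
    exact le_trans (natDegree_C_mul_X_pow_le _ _) (Nat.le_sub_one_of_lt (mem_range.1 he))
  have h0 := Polynomial.eq_zero_of_dvd_of_natDegree_lt hdvd hdeg
  intro e he
  have h1 := congrArg (fun q : ℤ[X] => q.coeff e) h0
  simp only [hg, finsetSum_coeff, coeff_C_mul_X_pow, coeff_zero] at h1
  rwa [Finset.sum_ite_eq, if_pos (mem_range.2 he)] at h1

/-- The product of the conjugates of an algebraic integer of a cyclotomic field is an integer. -/
theorem exists_int_prod_conjugates {N : ℕ} [NeZero N] {y : ℂ} (hy : y ∈ ℚ⟮rootN N⟯)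
    (hint : IsIntegral ℤ y) (f : ℕ → ℂ)
    (hf : ∀ k ∈ unitsBelow N, ∀ σ : ℂ ≃+* ℂ, (∀ z : ℂ, z ^ N = 1 → σ z = z ^ k) → σ y = f k) :
    ∃ m : ℤ, (m : ℂ) = ∏ k ∈ unitsBelow N, f k := by
  obtain ⟨b, hb⟩ := exists_cyclo_rep hy hint
  have hσ : ∀ k ∈ unitsBelow N, ∃ σ : ℂ ≃+* ℂ, (∀ z : ℂ, z ^ N = 1 → σ z = z ^ k) ∧ σ y = f k :=
    fun k hk => by
      obtain ⟨σ, hσ⟩ := exists_galois_pow N (mem_unitsBelow.1 hk).2
      exact ⟨σ, hσ, hf k hk σ hσ⟩
  have hmem : ∀ k ∈ unitsBelow N, f k ∈ ℚ⟮rootN N⟯ ∧ IsIntegral ℤ (f k) := by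
    intro k hk
    obtain ⟨σ, hσ, hσy⟩ := hσ k hk
    refine ⟨?_, ?_⟩
    · rw [← hσy, hb, map_sum]
      refine sum_mem fun e _ => ?_
      rw [map_mul, map_intCast, map_pow, hσ _ (rootN_prim N).pow_eq_one]
      exact mul_mem (intCast_mem _ _)
        (pow_mem (pow_mem (IntermediateField.mem_adjoin_simple_self ℚ _) _) _)
    · rw [← hσy]
      exact map_isIntegral_int σ hint
  exact exists_int_of_rat (IsIntegral.prod _ fun k hk => (hmem k hk).2)
    (exists_rat_of_fixed (prod_mem fun k (hk : k ∈ unitsBelow N) => (hmem k hk).1)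
      fun j τ hj hτ => by
        rw [map_prod]
        have hterm : ∀ k ∈ unitsBelow N, τ (f k) = f (k * j % N) := fun k hk => by
          obtain ⟨σ, hσ, hσy⟩ := hσ k hk
          rw [← hσy, ← RingEquiv.trans_apply]
          refine hf _ (mem_unitsBelow.2 ⟨Nat.mod_lt _ (NeZero.pos N), ?_⟩) _ fun z hz => ?_
          · rw [Nat.coprime_iff_gcd_eq_one, ← Nat.gcd_rec, Nat.gcd_comm]
            exact Nat.Coprime.mul_left (mem_unitsBelow.1 hk).2 hj
          · rw [RingEquiv.trans_apply, hσ z hz, map_pow, hτ z hz, ← pow_mul, mul_comm j k,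
              pow_eq_pow_mod (k * j) hz]
        rw [Finset.prod_congr rfl hterm]
        have hinj : Set.InjOn (fun k => k * j % N) (unitsBelow N : Set ℕ) := fun a ha a' ha' h => by
          have h' : a ≡ a' [MOD N] := Nat.ModEq.cancel_right_of_coprime (by
            rw [Nat.gcd_comm]; exact hj) h
          have e1 := (mem_unitsBelow.1 ha).1
          have e2 := (mem_unitsBelow.1 ha').1
          rwa [Nat.ModEq, Nat.mod_eq_of_lt e1, Nat.mod_eq_of_lt e2] at h'
        have himg : (unitsBelow N).image (fun k => k * j % N) = unitsBelow N := by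
          refine Finset.eq_of_subset_of_card_le (fun a ha => ?_)
            (le_of_eq (Finset.card_image_of_injOn hinj).symm)
          obtain ⟨k, hk, rfl⟩ := mem_image.1 ha
          refine mem_unitsBelow.2 ⟨Nat.mod_lt _ (NeZero.pos N), ?_⟩
          rw [Nat.coprime_iff_gcd_eq_one, ← Nat.gcd_rec, Nat.gcd_comm]
          exact Nat.Coprime.mul_left (mem_unitsBelow.1 hk).2 hj
        conv_rhs => rw [← himg]
        rw [Finset.prod_image hinj])

/-- A nonzero algebraic integer of a cyclotomic field: the squared norms of the conjugates average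
at least to one. -/
theorem card_le_sum_conjugates_normSq {N : ℕ} [NeZero N] {y : ℂ} (hy : y ∈ ℚ⟮rootN N⟯)
    (hint : IsIntegral ℤ y) (h0 : y ≠ 0) (f : ℕ → ℂ)
    (hf : ∀ k ∈ unitsBelow N, ∀ σ : ℂ ≃+* ℂ, (∀ z : ℂ, z ^ N = 1 → σ z = z ^ k) → σ y = f k) :
    ((unitsBelow N).card : ℝ) ≤ ∑ k ∈ unitsBelow N, ‖f k‖ ^ 2 := by
  obtain ⟨m, hm⟩ := exists_int_prod_conjugates hy hint f hf
  have hne : ∀ k ∈ unitsBelow N, f k ≠ 0 := fun k hk h => by
    obtain ⟨σ, hσ⟩ := exists_galois_pow N (mem_unitsBelow.1 hk).2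
    exact h0 (σ.injective (by rw [hf k hk σ hσ, h, map_zero]))
  have hm0 : m ≠ 0 := fun h => by
    rw [h, Int.cast_zero] at hm
    exact Finset.prod_ne_zero_iff.2 hne hm.symm
  refine CharApps.card_le_sum_of_one_le_prod _ (fun k _ => by positivity) ?_
  rw [Finset.prod_pow, ← norm_prod, ← hm, Complex.norm_intCast, sq_abs]
  exact_mod_cast Int.add_one_le_iff.2 (sq_pos_of_ne_zero hm0)

theorem unitsBelow_two_pow (n : ℕ) :
    unitsBelow (2 ^ (n + 1)) = (range (2 ^ n)).image fun j => 2 * j + 1 := by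
  ext k
  rw [mem_unitsBelow, Nat.coprime_pow_right_iff (Nat.succ_pos n), Nat.coprime_two_right, mem_image,
    pow_succ]
  constructor
  · rintro ⟨hk, j, rfl⟩
    exact ⟨j, mem_range.2 (by omega), rfl⟩
  · rintro ⟨j, hj, rfl⟩
    rw [mem_range] at hj
    exact ⟨by omega, j, rfl⟩

theorem sum_pow_unitsBelow_two {n e : ℕ} (he : e + 1 < (2 ^ (n + 1)).totient) :
    ∑ k ∈ unitsBelow (2 ^ (n + 1)), (rootN (2 ^ (n + 1)) ^ (e + 1)) ^ k = 0 := by
  rw [Nat.totient_prime_pow_succ Nat.prime_two] at he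
  simp only [mul_one, show (2 : ℕ) - 1 = 1 from rfl] at he
  rw [unitsBelow_two_pow, Finset.sum_image fun a _ b _ h => by omega]
  set w := rootN (2 ^ (n + 1)) ^ (e + 1) with hw
  have hne : w ^ 2 ≠ 1 := by
    rw [hw, ← pow_mul]
    exact (rootN_prim (2 ^ (n + 1))).pow_ne_one_of_pos_of_lt (Nat.succ_ne_zero _ |> fun h => by omega)
      (by rw [pow_succ]; omega)
  have hpow : (w ^ 2) ^ 2 ^ n = 1 := by
    rw [hw, ← pow_mul, ← pow_mul, show (e + 1) * (2 * 2 ^ n) = 2 ^ (n + 1) * (e + 1) by ring,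
      pow_mul, (rootN_prim (2 ^ (n + 1))).pow_eq_one, one_pow]
  simp only [pow_add, pow_mul, pow_one, ← Finset.sum_mul]
  rw [geom_sum_eq hne, hpow, sub_self, zero_div, zero_mul]

/-- A real algebraic integer of a `2`-power cyclotomic field has an integral Galois average, to
which it is congruent at the prime over `2`. -/
theorem exists_int_average {n : ℕ} {M : Ideal AlgInt} [M.IsPrime] (hpM : (2 : AlgInt) ∈ M) {y : ℂ}
    (hy : y ∈ ℚ⟮rootN (2 ^ n)⟯) (hint : IsIntegral ℤ y) (hreal : conj y = y) (f : ℕ → ℂ)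
    (hf : ∀ k ∈ unitsBelow (2 ^ n), ∀ σ : ℂ ≃+* ℂ,
      (∀ z : ℂ, z ^ 2 ^ n = 1 → σ z = z ^ k) → σ y = f k) :
    ∃ t : ℤ, ∑ k ∈ unitsBelow (2 ^ n), f k = ((unitsBelow (2 ^ n)).card : ℂ) * t ∧
      MemLocalIdeal M (y - t) := by
  obtain ⟨b, hb⟩ := exists_cyclo_rep hy hint
  have hfk : ∀ k ∈ unitsBelow (2 ^ n),
      f k = ∑ e ∈ range (2 ^ n).totient, (b e : ℂ) * (rootN (2 ^ n) ^ e) ^ k := fun k hk => by
    obtain ⟨σ, hσ⟩ := exists_galois_pow (2 ^ n) (mem_unitsBelow.1 hk).2
    rw [← hf k hk σ hσ, hb, map_sum]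
    refine Finset.sum_congr rfl fun e _ => ?_
    rw [map_mul, map_intCast, hσ _ (by rw [← pow_mul, mul_comm, pow_mul,
      (rootN_prim (2 ^ n)).pow_eq_one, one_pow])]
  rw [Finset.sum_congr rfl hfk, Finset.sum_comm]
  rcases Nat.eq_zero_or_pos n with rfl | hn
  · refine ⟨b 0, ?_, ?_⟩
    · simp
    · rw [hb]
      simp [MemLocalIdeal.zero']
  obtain ⟨m, rfl⟩ : ∃ m, n = m + 1 := ⟨n - 1, by omega⟩
  set ζ := rootN (2 ^ (m + 1)) with hζ
  obtain ⟨q, hq⟩ : ∃ q, (2 ^ (m + 1)).totient = q + 1 :=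
    ⟨_, (Nat.succ_pred_eq_of_pos (Nat.totient_pos.2 (Nat.two_pow_pos _))).symm⟩
  have hφ : q + 1 = 2 ^ m := by
    rw [← hq, Nat.totient_prime_pow_succ Nat.prime_two]
    simp
  have hhalf : ζ ^ (q + 1) = -1 := by
    have h2 : (ζ ^ 2 ^ m) ^ 2 = 1 := by
      rw [← pow_mul, ← pow_succ, (rootN_prim (2 ^ (m + 1))).pow_eq_one]
    rcases sq_eq_one_iff.1 h2 with h | h
    · exact absurd h ((rootN_prim (2 ^ (m + 1))).pow_ne_one_of_pos_of_lt
        (Nat.two_pow_pos m).ne' (Nat.pow_lt_pow_right Nat.one_lt_two (Nat.lt_succ_self m)))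
    · rw [hφ, h]
  -- reality flips the coefficients
  have hcj : ∀ i < q, conj (ζ ^ (i + 1)) = -ζ ^ (q - i) := fun i hi => by
    rw [← Complex.inv_eq_conj (by rw [norm_pow, (rootN_prim (2 ^ (m + 1))).norm'_eq_one
      (pow_ne_zero _ two_ne_zero), one_pow])]
    refine inv_eq_of_mul_eq_one_right ?_
    rw [mul_neg, ← pow_add, show i + 1 + (q - i) = q + 1 by omega, hhalf, neg_neg]
  rw [hq] at hb ⊢
  have hflip : ∀ i < q, b (i + 1) = -b (q - i) := by
    set c : ℕ → ℤ := fun e => if e = 0 then 0 else b e + b (q + 1 - e) with hc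
    have h0 : ∑ e ∈ range (2 ^ (m + 1)).totient, (c e : ℂ) * ζ ^ e = 0 := by
      rw [hq, Finset.sum_range_succ']
      have hrefl : ∑ i ∈ range q, (b (q - i) : ℂ) * ζ ^ (i + 1) =
          -∑ i ∈ range q, (b (i + 1) : ℂ) * conj (ζ ^ (i + 1)) := by
        rw [← Finset.sum_range_reflect, ← Finset.sum_neg_distrib]
        refine Finset.sum_congr rfl fun i hi => ?_
        rw [mem_range] at hi
        rw [hcj i hi, show q - (q - 1 - i) = i + 1 by omega,
          show q - 1 - i + 1 = q - i by omega]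
        ring
      have e1 := congrArg conj hb
      rw [hreal, map_sum, Finset.sum_range_succ'] at e1
      rw [hb, Finset.sum_range_succ'] at e1
      simp only [map_mul, map_intCast, pow_zero, mul_one, add_left_inj] at e1
      simp only [hc, Nat.succ_ne_zero, if_false, if_pos, Int.cast_zero, zero_mul, add_zero]
      calc ∑ i ∈ range q, ((b (i + 1) + b (q + 1 - (i + 1)) : ℤ) : ℂ) * ζ ^ (i + 1)
          = ∑ i ∈ range q, (b (i + 1) : ℂ) * ζ ^ (i + 1) +
              ∑ i ∈ range q, (b (q - i) : ℂ) * ζ ^ (i + 1) := by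
            rw [← Finset.sum_add_distrib]
            refine Finset.sum_congr rfl fun i _ => ?_
            rw [Nat.add_sub_add_right]
            push_cast
            ring
        _ = 0 := by rw [hrefl, e1, add_neg_cancel]
    intro i hi
    have h := cyclo_coeff_eq_zero h0 (i + 1) (by omega)
    simp only [hc, Nat.succ_ne_zero, if_false, Nat.add_sub_add_right] at h
    omega
  have hsum : ∑ i ∈ range q, b (i + 1) = 0 := by
    have h : ∑ i ∈ range q, b (i + 1) = -∑ i ∈ range q, b (i + 1) := by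
      conv_lhs => rw [Finset.sum_congr rfl fun i hi => hflip i (mem_range.1 hi)]
      rw [Finset.sum_neg_distrib, ← Finset.sum_range_reflect (fun i => b (q - i))]
      refine congrArg Neg.neg (Finset.sum_congr rfl fun i hi => congrArg b ?_)
      rw [mem_range] at hi
      omega
    omega
  refine ⟨b 0, ?_, ?_⟩
  · rw [Finset.sum_range_succ', Finset.sum_eq_zero fun i hi => ?_]
    · simp [mul_comm]
    · rw [← Finset.mul_sum, sum_pow_unitsBelow_two (by rw [mem_range] at hi; omega), mul_zero]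
  · rw [hb, Finset.sum_range_succ', pow_zero, mul_one, add_sub_cancel_right]
    have hcast : ∑ i ∈ range q, (b (i + 1) : ℂ) = 0 := by exact_mod_cast hsum
    rw [show ∑ i ∈ range q, (b (i + 1) : ℂ) * ζ ^ (i + 1) =
      ∑ i ∈ range q, (b (i + 1) : ℂ) * (ζ ^ (i + 1) - 1) by
        simp only [mul_sub, mul_one, Finset.sum_sub_distrib, hcast, sub_zero]]
    refine MemLocalIdeal.sum' fun i _ => MemLocalIdeal.mul_left' (intCast_mem _ _) ?_
    refine memLocalIdeal_sub_of_pow_eq Nat.prime_two (by exact_mod_cast hpM) (n := m + 1)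
      (isIntegral_mem_loc (((rootN_prim (2 ^ (m + 1))).isIntegral (Nat.two_pow_pos _)).pow _))
      (one_mem _) ?_
    rw [← pow_mul, mul_comm, pow_mul, (rootN_prim (2 ^ (m + 1))).pow_eq_one, one_pow, one_pow]

end CfsgLib.BlockOrth
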