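/-
Galois behaviour, rows and trace of the contribution matrix of a subsection.
-/
import Cfsg.Agent.Lib.BlockOrth.Contribution
import Cfsg.Agent.Lib.BlockOrth.CycloTwo

set_option autoImplicit false
set_option linter.style.haveILetI false
set_option linter.unusedSectionVars false

namespace CfsgLib.BlockOrth

open Cfsg CfsgLib.Chars CfsgLib.Blocks Finset
open scoped ComplexConjugate IntermediateField

universe u

variable {G : Type u} [Group G] [Fintype G] {M : Ideal AlgInt} [M.IsPrime] {p : ℕ}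
  [hp : Fact p.Prime] {H : Subgroup G} [Fintype H] {x : G} [Fintype (IrrCharacter H)]
  {B : Set (IrrCharacter G)} {b : Set (IrrCharacter H)} [DecidablePred (· ∈ b)]

/-- A generator of `⟨x⟩` has the same centralizer. -/
theorem centralizer_pow_of_coprime (hH : ∀ c : G, c ∈ H ↔ c * x = x * c) {k : ℕ}
    (hk : k.Coprime (orderOf x)) : ∀ c : G, c ∈ H ↔ c * x ^ k = x ^ k * c :=
  fun c => ⟨fun hc => Commute.pow_right ((hH c).1 hc) k, fun hc => (hH c).2 (by
    obtain ⟨j, hj⟩ := exists_pow_eq_self_of_coprime hk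
    have := Commute.pow_right (show Commute c (x ^ k) from hc) j
    rwa [hj] at this)⟩

theorem exists_orderOf_pow_of_coprime (hx : ∃ j, orderOf x = p ^ j) {k : ℕ}
    (hk : k.Coprime (orderOf x)) : ∃ j, orderOf (x ^ k) = p ^ j := by
  obtain ⟨j, hj⟩ := hx
  exact ⟨j, by rw [hk.symm.orderOf_pow, hj]⟩

/-- The root of unity by which the central element `x` acts. -/
theorem centralScalar_self_pow (hH : ∀ c : G, c ∈ H ↔ c * x = x * c) {N : ℕ} (hN : x ^ N = 1)
    (θ : IrrCharacter H) : centralScalar (θ : H → ℂ) ⟨x, (hH x).2 rfl⟩ ^ N = 1 :=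
  centralScalar_pow_eq_one θ (mem_center_of_self hH)
    (Subtype.ext (by rw [SubmonoidClass.coe_pow]; exact hN))

/-- Galois conjugation raises the element of a subsection to a power. -/
theorem contrib_galois (hH : ∀ c : G, c ∈ H ↔ c * x = x * c) {N k : ℕ} (hN : x ^ N = 1)
    (hk : k.Coprime (orderOf x)) {σ : ℂ ≃+* ℂ} (hσ : ∀ z : ℂ, z ^ N = 1 → σ z = z ^ k)
    (χ ψ : IrrCharacter G) : σ (contrib p b x χ ψ) = contrib p b (x ^ k) χ ψ := by
  have hHk := centralizer_pow_of_coprime hH hk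
  have hres : ∀ φ : IrrCharacter G, IsCharacter H (fun h : H => (φ : G → ℂ) h) := fun φ =>
    isCharacter_restrict H (isCharacter_of_irr φ.2)
  have hz : ∀ φ : IrrCharacter H, centralScalar (φ : H → ℂ) ⟨x ^ k, (hHk _).2 rfl⟩ =
      centralScalar (φ : H → ℂ) ⟨x, (hH x).2 rfl⟩ ^ k := fun φ => by
    rw [← centralScalar_pow φ (mem_center_of_self hH)]
    rfl
  simp only [contrib, map_sum]
  refine Finset.sum_congr rfl fun θ _ => Finset.sum_congr rfl fun θ' _ => ?_
  obtain ⟨m, hm⟩ := inner_irr_right_nat (hres χ) θ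
  obtain ⟨m', hm'⟩ := inner_irr_right_nat (hres ψ) θ'
  rw [inner_secFun_eq hH, inner_secFun_eq hH, inner_secFun_eq hHk, inner_secFun_eq hHk, hz, hz,
    hm, hm']
  simp only [map_mul, map_natCast, map_intCast, map_pow]
  rw [hσ _ (centralScalar_self_pow hH hN θ), hσ _ (by
    rw [← map_pow, centralScalar_self_pow hH hN θ', map_one])]

theorem contrib_mem_field (hH : ∀ c : G, c ∈ H ↔ c * x = x * c) {N : ℕ} [NeZero N] (hN : x ^ N = 1)
    (χ ψ : IrrCharacter G) : contrib p b x χ ψ ∈ ℚ⟮CharApps.rootN N⟯ := by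
  have hroot : ∀ z : ℂ, z ^ N = 1 → z ∈ ℚ⟮CharApps.rootN N⟯ := fun z hz => by
    obtain ⟨i, -, rfl⟩ := (CharApps.rootN_prim N).eq_pow_of_pow_eq_one hz
    exact pow_mem (IntermediateField.mem_adjoin_simple_self ℚ _) i
  refine sum_mem fun θ _ => sum_mem fun θ' _ => ?_
  obtain ⟨m, hm⟩ := inner_irr_right_nat (isCharacter_restrict H (isCharacter_of_irr χ.2)) θ
  obtain ⟨m', hm'⟩ := inner_irr_right_nat (isCharacter_restrict H (isCharacter_of_irr ψ.2)) θ'
  rw [inner_secFun_eq hH, inner_secFun_eq hH, hm, hm']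
  simp only [map_mul, map_natCast]
  exact mul_mem (mul_mem (mul_mem (hroot _ (centralScalar_self_pow hH hN θ)) (natCast_mem _ _))
    (mul_mem (hroot _ (by rw [← map_pow, centralScalar_self_pow hH hN θ', map_one]))
      (natCast_mem _ _))) (intCast_mem _ _)

theorem isIntegral_contrib (hH : ∀ c : G, c ∈ H ↔ c * x = x * c) (χ ψ : IrrCharacter G) :
    IsIntegral ℤ (contrib p b x χ ψ) := by
  refine IsIntegral.sum _ fun θ _ => IsIntegral.sum _ fun θ' _ => ?_
  obtain ⟨m, hm⟩ := inner_irr_right_nat (isCharacter_restrict H (isCharacter_of_irr χ.2)) θ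
  obtain ⟨m', hm'⟩ := inner_irr_right_nat (isCharacter_restrict H (isCharacter_of_irr ψ.2)) θ'
  rw [inner_secFun_eq hH, inner_secFun_eq hH, hm, hm']
  have hε : ∀ φ : IrrCharacter H, IsIntegral ℤ (centralScalar (φ : H → ℂ) ⟨x, (hH x).2 rfl⟩) :=
    fun φ => IsIntegral.of_pow (orderOf_pos x) (by
      rw [centralScalar_self_pow hH (pow_orderOf_eq_one x) φ]
      exact isIntegral_one)
  simp only [map_mul, map_natCast]
  refine (((hε θ).mul ?_).mul ((map_isIntegral_int (starRingEnd ℂ) (hε θ')).mul ?_)).mul ?_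
  · exact_mod_cast isIntegral_algebraMap (R := ℤ) (A := ℂ) (x := (m : ℤ))
  · exact_mod_cast isIntegral_algebraMap (R := ℤ) (A := ℂ) (x := (m' : ℤ))
  · exact_mod_cast isIntegral_algebraMap (R := ℤ) (A := ℂ) (x := dInt p b θ θ')

theorem conj_contrib (hpM : (p : AlgInt) ∈ M) (hH : ∀ c : G, c ∈ H ↔ c * x = x * c)
    (hb : IsPBlock M b) (χ ψ : IrrCharacter G) :
    conj (contrib p b x χ ψ) = contrib p b x ψ χ := by
  rw [contrib_eq_inner hpM hH hb, contrib_eq_inner hpM hH hb, map_mul, map_natCast, map_sum]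
  refine congrArg _ (Finset.sum_congr rfl fun η _ => ?_)
  rw [map_mul, Complex.conj_conj, mul_comm]

theorem contrib_self_eq_ofReal (hpM : (p : AlgInt) ∈ M) (hH : ∀ c : G, c ∈ H ↔ c * x = x * c)
    (hb : IsPBlock M b) (χ : IrrCharacter G) :
    ∃ r : ℝ, 0 ≤ r ∧ contrib p b x χ χ = (r : ℂ) := by
  refine ⟨(p ^ blockDefect p b : ℕ) * ∑ η ∈ univ.filter (· ∈ b),
    ‖classInner (pRegularPart p (secFun H x (χ : G → ℂ))) (η : H → ℂ)‖ ^ 2, by positivity, ?_⟩
  rw [contrib_eq_inner hpM hH hb]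
  push_cast
  exact congrArg _ (Finset.sum_congr rfl fun η _ => Complex.mul_conj' _)

variable [Fintype (IrrCharacter G)] [DecidablePred (· ∈ B)]

theorem sum_block_mul_conj (hM : IsPModular p M) (hH : ∀ c : G, c ∈ H ↔ c * x = x * c)
    (hx : ∃ j, orderOf x = p ^ j) (hb : IsInducedBlock M H b B) {η η' : IrrCharacter H}
    (hη : η ∈ b) (hη' : η' ∈ b) :
    ((p ^ blockDefect p b : ℕ) : ℂ) * ∑ χ ∈ univ.filter (· ∈ B),
        classInner (pRegularPart p (secFun H x (χ : G → ℂ))) (η : H → ℂ) *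
          conj (classInner (pRegularPart p (secFun H x (χ : G → ℂ))) (η' : H → ℂ)) =
      (dInt p b η' η : ℂ) := by
  rw [dInt_spec hM.2.2 hη', ← sum_irr_inner_secFun hH hx (isClassFunction_irr η')]
  congr 1
  refine Finset.sum_subset (Finset.subset_univ _) fun χ _ hχ => ?_
  rw [secFun_eq_zero_of_notMem hM hH hx hb (by simpa using hχ) hη, zero_mul]

/-- The trace of the contribution matrix. -/
theorem sum_contrib_self (hM : IsPModular p M) (hH : ∀ c : G, c ∈ H ↔ c * x = x * c)
    (hx : ∃ j, orderOf x = p ^ j) (hb : IsInducedBlock M H b B) :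
    ∑ χ ∈ univ.filter (· ∈ B), contrib p b x χ χ =
      ((p ^ blockDefect p b : ℕ) : ℂ) * (blockRank p b : ℂ) := by
  rw [Finset.sum_congr rfl fun χ _ => contrib_eq_inner hM.2.2 hH hb.1 χ χ, ← Finset.mul_sum,
    Finset.sum_comm, Finset.mul_sum, blockRank_eq_sum hM.2.2 hb.1, Finset.mul_sum]
  refine Finset.sum_congr rfl fun η hη => ?_
  rw [sum_block_mul_conj hM hH hx hb (mem_filter.1 hη).2 (mem_filter.1 hη).2,
    dInt_spec hM.2.2 (mem_filter.1 hη).2]

/-- The contribution matrix is `p ^ d` times a projection. -/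
theorem sum_norm_sq_contrib_row (hM : IsPModular p M) (hH : ∀ c : G, c ∈ H ↔ c * x = x * c)
    (hx : ∃ j, orderOf x = p ^ j) (hb : IsInducedBlock M H b B) (χ : IrrCharacter G) :
    ∑ ψ ∈ univ.filter (· ∈ B), ‖contrib p b x χ ψ‖ ^ 2 =
      (p : ℝ) ^ blockDefect p b * (contrib p b x χ χ).re := by
  have hpM := hM.2.2
  set P : ℂ := ((p ^ blockDefect p b : ℕ) : ℂ) with hP
  set u : IrrCharacter G → IrrCharacter H → ℂ := fun χ η =>
    classInner (pRegularPart p (secFun H x (χ : G → ℂ))) (η : H → ℂ) with hu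
  set s := univ.filter (· ∈ b) with hs
  set t := univ.filter (· ∈ B) with ht
  have hproj : ∀ η ∈ s, ∑ η' ∈ s, conj (u χ η') * (dInt p b η η' : ℂ) = P * conj (u χ η) := by
    intro η hη
    have h := congrArg conj (sum_inner_mul_dInt (p := p) hpM hb.1
      (isClassFunction_pRegularPart (p := p) (isClassFunction_secFun hH (isClassFunction_irr χ)))
      (mem_filter.1 hη).2)
    simp only [map_sum, map_mul, map_intCast, map_natCast, pRegularPart_pRegularPart] at h
    exact h
  have key : ∑ ψ ∈ t, contrib p b x χ ψ * conj (contrib p b x χ ψ) = P * contrib p b x χ χ := by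
    calc ∑ ψ ∈ t, contrib p b x χ ψ * conj (contrib p b x χ ψ)
        = ∑ ψ ∈ t, ∑ η ∈ s, ∑ η' ∈ s,
            P * (u χ η * (conj (u χ η') * (P * (u ψ η' * conj (u ψ η))))) := by
          refine Finset.sum_congr rfl fun ψ _ => ?_
          rw [contrib_eq_inner hpM hH hb.1, map_mul, map_sum, hP, map_natCast,
            mul_mul_mul_comm, Finset.sum_mul_sum, Finset.mul_sum]
          refine Finset.sum_congr rfl fun η _ => ?_
          rw [Finset.mul_sum]
          refine Finset.sum_congr rfl fun η' _ => ?_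
          simp only [hu, map_mul, Complex.conj_conj]
          ring
      _ = ∑ η ∈ s, P * (u χ η * ∑ η' ∈ s, conj (u χ η') * (dInt p b η η' : ℂ)) := by
          rw [Finset.sum_comm]
          refine Finset.sum_congr rfl fun η hη => ?_
          rw [Finset.sum_comm]
          simp only [← Finset.mul_sum]
          refine congrArg _ (congrArg _ (Finset.sum_congr rfl fun η' hη' => congrArg _ ?_))
          exact sum_block_mul_conj hM hH hx hb (mem_filter.1 hη').2 (mem_filter.1 hη).2
      _ = P * contrib p b x χ χ := by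
          rw [contrib_eq_inner hpM hH hb.1, Finset.mul_sum, Finset.mul_sum]
          refine Finset.sum_congr rfl fun η hη => ?_
          rw [hproj η hη]
          simp only [hu]
          ring
  have h := congrArg Complex.re key
  rw [Complex.re_sum, hP, Complex.mul_re, Complex.natCast_re, Complex.natCast_im, zero_mul, sub_zero] at h
  rw [show ((p : ℝ) ^ blockDefect p b) = ((p ^ blockDefect p b : ℕ) : ℝ) by push_cast; rfl, ← h]
  refine Finset.sum_congr rfl fun ψ _ => ?_
  rw [Complex.mul_conj', ← Complex.ofReal_pow, Complex.ofReal_re]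

end CfsgLib.BlockOrth
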