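/-
Galois averaged diagonal of the contribution matrix of a subsection, `p = 2`.
-/
import Cfsg.Agent.Lib.BlockOrth.ContribAverage

set_option autoImplicit false
set_option linter.style.haveILetI false
set_option linter.unusedSectionVars false

namespace CfsgLib.BlockOrth

open Cfsg CfsgLib.Chars CfsgLib.Blocks Finset
open scoped ComplexConjugate IntermediateField

universe u

variable {G : Type u} [Group G] [Fintype G] {M : Ideal AlgInt} [M.IsPrime]
  {H : Subgroup G} [Fintype H] {x : G} [Fintype (IrrCharacter H)]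
  {B : Set (IrrCharacter G)} {b : Set (IrrCharacter H)} [DecidablePred (· ∈ b)]

/-- The average of the diagonal entry over the generators of `⟨x⟩` is a natural number congruent to
the entry. -/
theorem exists_avg_diag (hpM : (2 : AlgInt) ∈ M) (hH : ∀ c : G, c ∈ H ↔ c * x = x * c)
    {n : ℕ} (hn : orderOf x = 2 ^ n) (hb : IsPBlock M b) (χ : IrrCharacter G) :
    ∃ t : ℕ, ∑ k ∈ unitsBelow (2 ^ n), contrib 2 b (x ^ k) χ χ =
        ((unitsBelow (2 ^ n)).card : ℂ) * t ∧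
      MemLocalIdeal M (contrib 2 b x χ χ - t) := by
  have hpM' : ((2 : ℕ) : AlgInt) ∈ M := by exact_mod_cast hpM
  have hN : x ^ (2 ^ n) = 1 := by rw [← hn]; exact pow_orderOf_eq_one x
  have hcop : ∀ k ∈ unitsBelow (2 ^ n), k.Coprime (orderOf x) := fun k hk => by
    rw [hn]; exact (mem_unitsBelow.1 hk).2
  obtain ⟨r, -, hr⟩ := contrib_self_eq_ofReal (p := 2) hpM' hH hb χ
  obtain ⟨t, ht, hcong⟩ := exists_int_average hpM (contrib_mem_field (p := 2) (b := b) hH hN χ χ)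
    (isIntegral_contrib hH χ χ) (by rw [hr, Complex.conj_ofReal])
    (fun k => contrib 2 b (x ^ k) χ χ) fun k hk σ hσ => contrib_galois hH hN (hcop k hk) hσ χ χ
  have hre : ∀ k ∈ unitsBelow (2 ^ n), 0 ≤ (contrib 2 b (x ^ k) χ χ).re := fun k hk => by
    obtain ⟨r, hr0, hr⟩ := contrib_self_eq_ofReal (p := 2) hpM'
      (centralizer_pow_of_coprime hH (hcop k hk)) hb χ
    rw [hr, Complex.ofReal_re]
    exact hr0
  have h0 : 0 ≤ t := by
    have h := congrArg Complex.re ht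
    rw [Complex.re_sum, Complex.mul_re, Complex.natCast_re, Complex.natCast_im, zero_mul,
      sub_zero, Complex.intCast_re] at h
    have h2 : 0 ≤ ((unitsBelow (2 ^ n)).card : ℝ) * t := h ▸ Finset.sum_nonneg hre
    exact_mod_cast nonneg_of_mul_nonneg_right h2 (by exact_mod_cast card_unitsBelow_pos (2 ^ n))
  lift t to ℕ using h0
  exact ⟨t, by simpa using ht, by simpa using hcong⟩

/-- The averaged diagonal. -/
noncomputable def avgDiag (n : ℕ) (b : Set (IrrCharacter H)) [DecidablePred (· ∈ b)] (x : G)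
    (χ : IrrCharacter G) : ℕ :=
  ⌊((∑ k ∈ unitsBelow (2 ^ n), contrib 2 b (x ^ k) χ χ).re) / (unitsBelow (2 ^ n)).card⌋₊

theorem avgDiag_spec (hpM : (2 : AlgInt) ∈ M) (hH : ∀ c : G, c ∈ H ↔ c * x = x * c)
    {n : ℕ} (hn : orderOf x = 2 ^ n) (hb : IsPBlock M b) (χ : IrrCharacter G) :
    ∑ k ∈ unitsBelow (2 ^ n), contrib 2 b (x ^ k) χ χ =
        ((unitsBelow (2 ^ n)).card : ℂ) * avgDiag n b x χ ∧
      MemLocalIdeal M (contrib 2 b x χ χ - avgDiag n b x χ) := by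
  obtain ⟨t, ht, hcong⟩ := exists_avg_diag hpM hH hn hb χ
  have h : avgDiag n b x χ = t := by
    rw [avgDiag, ht, Complex.mul_re, Complex.natCast_re, Complex.natCast_im, zero_mul, sub_zero,
      Complex.natCast_re, mul_div_cancel_left₀ _ (by
        exact_mod_cast (card_unitsBelow_pos (2 ^ n)).ne'), Nat.floor_natCast]
  rw [h]
  exact ⟨ht, hcong⟩

variable [Fintype (IrrCharacter G)] [DecidablePred (· ∈ B)]

/-- The averaged trace. -/
theorem sum_avgDiag (hM : IsPModular 2 M) (hH : ∀ c : G, c ∈ H ↔ c * x = x * c)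
    {n : ℕ} (hn : orderOf x = 2 ^ n) (hb : IsInducedBlock M H b B) :
    ∑ χ ∈ univ.filter (· ∈ B), avgDiag n b x χ = 2 ^ blockDefect 2 b * blockRank 2 b := by
  have hpM : (2 : AlgInt) ∈ M := by exact_mod_cast hM.2.2
  have hcop : ∀ k ∈ unitsBelow (2 ^ n), k.Coprime (orderOf x) := fun k hk => by
    rw [hn]; exact (mem_unitsBelow.1 hk).2
  have h : ((unitsBelow (2 ^ n)).card : ℂ) * ((∑ χ ∈ univ.filter (· ∈ B), avgDiag n b x χ : ℕ) : ℂ) =
      ((unitsBelow (2 ^ n)).card : ℂ) * ((2 ^ blockDefect 2 b * blockRank 2 b : ℕ) : ℂ) := by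
    rw [Nat.cast_sum, Finset.mul_sum,
      ← Finset.sum_congr rfl fun χ _ => (avgDiag_spec hpM hH hn hb.1 χ).1, Finset.sum_comm,
      Finset.sum_congr rfl fun k hk => sum_contrib_self hM
        (centralizer_pow_of_coprime hH (hcop k hk))
        (exists_orderOf_pow_of_coprime ⟨n, hn⟩ (hcop k hk)) hb,
      Finset.sum_const, nsmul_eq_mul, Nat.cast_mul]
  exact_mod_cast mul_left_cancel₀ (Nat.cast_ne_zero.2 (card_unitsBelow_pos (2 ^ n)).ne') h

/-- The averaged row. -/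
theorem sum_add_sq_avgDiag_le [DecidableEq (IrrCharacter G)] (hM : IsPModular 2 M)
    (hH : ∀ c : G, c ∈ H ↔ c * x = x * c) {n : ℕ} (hn : orderOf x = 2 ^ n)
    (hb : IsInducedBlock M H b B) {χ : IrrCharacter G} (hχ : χ ∈ B) (w : IrrCharacter G → ℕ)
    (hw : ∀ ψ ∈ B, ψ ≠ χ → ((w ψ * (unitsBelow (2 ^ n)).card : ℕ) : ℝ) ≤
      ∑ k ∈ unitsBelow (2 ^ n), ‖contrib 2 b (x ^ k) χ ψ‖ ^ 2) :
    ∑ ψ ∈ (univ.filter (· ∈ B)).erase χ, w ψ + avgDiag n b x χ ^ 2 ≤
      2 ^ blockDefect 2 b * avgDiag n b x χ := by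
  have hpM : (2 : AlgInt) ∈ M := by exact_mod_cast hM.2.2
  set S := unitsBelow (2 ^ n) with hS
  set t := avgDiag n b x χ with ht
  have hcop : ∀ k ∈ S, k.Coprime (orderOf x) := fun k hk => by
    rw [hn]; exact (mem_unitsBelow.1 hk).2
  have hre : ∑ k ∈ S, (contrib 2 b (x ^ k) χ χ).re = (S.card : ℝ) * t := by
    have h := congrArg Complex.re (avgDiag_spec hpM hH hn hb.1 χ).1
    simpa [hS, ht] using h
  have hdiag : (S.card : ℝ) * (t : ℝ) ^ 2 ≤ ∑ k ∈ S, ‖contrib 2 b (x ^ k) χ χ‖ ^ 2 := by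
    have hS0 : (0 : ℝ) < S.card := by exact_mod_cast card_unitsBelow_pos (2 ^ n)
    have h := sq_sum_le_card_mul_sum_sq (s := S) (f := fun k => (contrib 2 b (x ^ k) χ χ).re)
    rw [hre, mul_pow, sq (S.card : ℝ), mul_assoc] at h
    refine le_trans (le_of_mul_le_mul_left h hS0) (Finset.sum_le_sum fun k _ => ?_)
    rw [← sq_abs]
    exact pow_le_pow_left₀ (abs_nonneg _) (Complex.abs_re_le_norm _) 2
  have hrow : ∑ k ∈ S, ∑ ψ ∈ univ.filter (· ∈ B), ‖contrib 2 b (x ^ k) χ ψ‖ ^ 2 =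
      (2 : ℝ) ^ blockDefect 2 b * ((S.card : ℝ) * t) := by
    rw [← hre, Finset.mul_sum]
    refine Finset.sum_congr rfl fun k hk => ?_
    exact_mod_cast sum_norm_sq_contrib_row hM (centralizer_pow_of_coprime hH (hcop k hk))
      (exists_orderOf_pow_of_coprime ⟨n, hn⟩ (hcop k hk)) hb χ
  rw [Finset.sum_comm, ← Finset.add_sum_erase (univ.filter (· ∈ B)) _
    (mem_filter.2 ⟨mem_univ χ, hχ⟩)] at hrow
  have hoff : ((∑ ψ ∈ (univ.filter (· ∈ B)).erase χ, w ψ : ℕ) : ℝ) * S.card ≤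
      ∑ ψ ∈ (univ.filter (· ∈ B)).erase χ, ∑ k ∈ S, ‖contrib 2 b (x ^ k) χ ψ‖ ^ 2 := by
    rw [Nat.cast_sum, Finset.sum_mul]
    refine Finset.sum_le_sum fun ψ hψ => ?_
    have h := hw ψ (mem_filter.1 (Finset.mem_of_mem_erase hψ)).2 (Finset.ne_of_mem_erase hψ)
    push_cast at h
    exact h
  have hfin : (((∑ ψ ∈ (univ.filter (· ∈ B)).erase χ, w ψ + t ^ 2 : ℕ)) : ℝ) * S.card ≤
      ((2 ^ blockDefect 2 b * t : ℕ) : ℝ) * S.card := by
    rw [Nat.cast_add, add_mul]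
    push_cast
    push_cast at hoff
    linarith [hrow, hoff, hdiag, mul_comm (S.card : ℝ) ((t : ℝ) ^ 2),
      mul_right_comm ((2 : ℝ) ^ blockDefect 2 b) (t : ℝ) (S.card : ℝ),
      mul_assoc ((2 : ℝ) ^ blockDefect 2 b) (S.card : ℝ) (t : ℝ)]
  exact_mod_cast le_of_mul_le_mul_right hfin (by exact_mod_cast card_unitsBelow_pos (2 ^ n))

theorem odd_avgDiag (hM : IsPModular 2 M) (hH : ∀ c : G, c ∈ H ↔ c * x = x * c)
    {n : ℕ} (hn : orderOf x = 2 ^ n) (hb : IsInducedBlock M H b B) {χ : IrrCharacter G}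
    (hχ : χ ∈ B) (h0 : degVal 2 χ = blockMin 2 B) : Odd (avgDiag n b x χ) := by
  have hpM := hM.2.2
  obtain ⟨-, hcong⟩ := avgDiag_spec (by exact_mod_cast hpM) hH hn hb.1 χ
  rw [← Nat.not_even_iff_odd, even_iff_two_dvd]
  intro hdvd
  refine not_memLocalIdeal_contrib hpM hH ⟨n, hn⟩ hb hχ hχ h0 h0 ?_
  have h := MemLocalIdeal.add' hcong ((memLocalIdeal_natCast_iff Nat.prime_two hpM _).2 hdvd)
  rwa [sub_add_cancel] at h

/-- The averaged squared norm of an entry between characters of height zero. -/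
theorem one_mul_card_le_avg_normSq (hM : IsPModular 2 M) (hH : ∀ c : G, c ∈ H ↔ c * x = x * c)
    {n : ℕ} (hn : orderOf x = 2 ^ n) (hb : IsInducedBlock M H b B) {χ ψ : IrrCharacter G}
    (hχ : χ ∈ B) (hψ : ψ ∈ B) (h0 : degVal 2 χ = blockMin 2 B) (h0' : degVal 2 ψ = blockMin 2 B) :
    ((unitsBelow (2 ^ n)).card : ℝ) ≤ ∑ k ∈ unitsBelow (2 ^ n), ‖contrib 2 b (x ^ k) χ ψ‖ ^ 2 := by
  have hN : x ^ (2 ^ n) = 1 := by rw [← hn]; exact pow_orderOf_eq_one x
  refine card_le_sum_conjugates_normSq (contrib_mem_field (p := 2) (b := b) hH hN χ ψ)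
    (isIntegral_contrib hH χ ψ) (fun h => ?_) _ fun k hk σ hσ =>
      contrib_galois hH hN (by rw [hn]; exact (mem_unitsBelow.1 hk).2) hσ χ ψ
  refine not_memLocalIdeal_contrib hM.2.2 hH ⟨n, hn⟩ hb hχ hψ h0 h0' ?_
  rw [h]
  exact MemLocalIdeal.zero'

end CfsgLib.BlockOrth
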