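/-
`k(B)` as a sum of local ranks over the sections.
-/
import Cfsg.Agent.Lib.BlockOrth.Subsection

set_option autoImplicit false
set_option linter.style.haveILetI false
set_option linter.unusedSectionVars false

namespace CfsgLib.BlockOrth

open Cfsg CfsgLib.Chars CfsgLib.Blocks Finset
open scoped ComplexConjugate

universe u

variable {G : Type u} [Group G] [Fintype G] {M : Ideal AlgInt} [M.IsPrime] {p : ℕ}
  [hp : Fact p.Prime]

theorem secFun_eq_zero_of_not_induced (hM : IsPModular p M) {x : G}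
    (hx : ∃ k, orderOf x = p ^ k) [Fintype (Subgroup.centralizer ({x} : Set G))]
    {B : Set (IrrCharacter G)} (hB : IsPBlock M B) {χ : IrrCharacter G} (hχ : χ ∈ B)
    {b : Set (IrrCharacter (Subgroup.centralizer ({x} : Set G)))} (hb : IsPBlock M b)
    (hnot : ¬ IsInducedBlock M (Subgroup.centralizer ({x} : Set G)) b B)
    {η : IrrCharacter (Subgroup.centralizer ({x} : Set G))} (hη : η ∈ b) :
    classInner (pRegularPart p (secFun (Subgroup.centralizer ({x} : Set G)) x (χ : G → ℂ)))
      (η : _ → ℂ) = 0 :=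
  (pRegularPart_blockPart_eq_zero_iff hM.2.2 hb
    (isClassFunction_secFun (fun _ => Subgroup.mem_centralizer_singleton_iff)
      (isClassFunction_irr χ))).1
    (fun y hy => Cfsg.Agent.S0923.result p M hM x hx B hB χ hχ b hb hnot y hy) η hη

/-- The `p`-part of an element. -/
noncomputable def pPartElt (p : ℕ) [Fact p.Prime] (g : G) : G := g * (pPrimePart p g)⁻¹

theorem pPartElt_conj (c g : G) : pPartElt p (c * g * c⁻¹) = c * pPartElt p g * c⁻¹ := by
  rw [pPartElt, pPartElt, pPrimePart_conj]; group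

theorem exists_orderOf_pPartElt (g : G) : ∃ k, orderOf (pPartElt p g) = p ^ k := by
  obtain ⟨y, -, -, h, -⟩ := (isPPrimePart_pPrimePart (p := p) g).isPPart
  exact h

theorem pPartElt_eq_iff {x : G} (hx : ∃ k, orderOf x = p ^ k) (g : G) :
    pPartElt p g = x ↔ ∃ y : Subgroup.centralizer ({x} : Set G), ¬ p ∣ orderOf y ∧ g = x * y := by
  constructor
  · intro h
    obtain ⟨u, h1, h2, -, h4⟩ := isPPrimePart_pPrimePart (p := p) g
    have hu : x = u := by rw [← h, pPartElt]; exact mul_inv_eq_iff_eq_mul.2 h1.symm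
    subst hu
    exact ⟨⟨pPrimePart p g, Subgroup.mem_centralizer_singleton_iff.2 h2.eq.symm⟩,
      by rwa [Subgroup.orderOf_mk], h1.symm⟩
  · rintro ⟨y, hy, rfl⟩
    have hc : Commute x (y : G) := (Subgroup.mem_centralizer_singleton_iff.1 y.2).symm
    rw [pPartElt, pPrimePart_mul hc hx (by rwa [Subgroup.orderOf_coe]), mul_inv_cancel_right]

theorem sum_pPartElt_eq [DecidableEq G] {x : G} (hx : ∃ k, orderOf x = p ^ k)
    [Fintype (Subgroup.centralizer ({x} : Set G))] (F : G → ℂ) :
    (∑ g : G, if pPartElt p g = x then F g else 0) =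
      ∑ y : Subgroup.centralizer ({x} : Set G),
        pRegularPart p (fun y : Subgroup.centralizer ({x} : Set G) => F (x * (y : G))) y := by
  classical
  simp only [pRegularPart_apply]
  rw [← Finset.sum_filter, ← Finset.sum_filter]
  symm
  refine Finset.sum_bij (fun y _ => x * (y : G)) (fun y hy => ?_) (fun y _ z _ h => ?_)
    (fun g hg => ?_) (fun y _ => rfl)
  · exact mem_filter.2 ⟨mem_univ _, (pPartElt_eq_iff hx _).2 ⟨y, (mem_filter.1 hy).2, rfl⟩⟩
  · exact Subtype.ext (mul_left_cancel h)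
  · obtain ⟨y, hy, rfl⟩ := (pPartElt_eq_iff hx g).1 (mem_filter.1 hg).2
    exact ⟨y, mem_filter.2 ⟨mem_univ _, hy⟩, rfl⟩

/-- A sum over the group, taken section by section. -/
theorem sum_eq_sum_sections {F : G → ℂ} (hF : IsClassFunction G F) {X : Finset G}
    (hX : ∀ x ∈ X, ∃ k, orderOf x = p ^ k)
    (hrep : ∀ g : G, (∃ k, orderOf g = p ^ k) → ∃! x, x ∈ X ∧ IsConj g x) :
    (Nat.card G : ℂ)⁻¹ * ∑ g : G, F g =
      ∑ x ∈ X, (Nat.card (Subgroup.centralizer ({x} : Set G)) : ℂ)⁻¹ *
        ∑ᶠ y : Subgroup.centralizer ({x} : Set G),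
          pRegularPart p (fun y : Subgroup.centralizer ({x} : Set G) => F (x * y)) y := by
  classical
  have hpt : ∀ g : G, F g = ∑ x ∈ X, (Nat.card (Subgroup.centralizer ({x} : Set G)) : ℂ)⁻¹ *
      ∑ h : G, if pPartElt p g = h * x * h⁻¹ then F g else 0 := by
    intro g
    obtain ⟨x₀, ⟨hx₀, hc⟩, huniq⟩ := hrep _ (exists_orderOf_pPartElt (p := p) g)
    rw [Finset.sum_eq_single x₀]
    · obtain ⟨c, hc'⟩ := isConj_iff.1 hc.symm
      have hset : (univ.filter fun h : G => pPartElt p g = h * x₀ * h⁻¹).card =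
          Nat.card (Subgroup.centralizer ({x₀} : Set G)) := by
        rw [← Fintype.card_subtype, ← Nat.card_eq_fintype_card]
        refine Nat.card_congr (Equiv.subtypeEquiv (Equiv.mulLeft c⁻¹) fun h => ?_)
        show _ ↔ c⁻¹ * h ∈ _
        rw [Subgroup.mem_centralizer_singleton_iff, ← hc']
        constructor
        · intro e
          calc c⁻¹ * h * x₀ = c⁻¹ * (h * x₀ * h⁻¹) * h := by group
            _ = x₀ * (c⁻¹ * h) := by rw [← e]; group
        · intro e
          calc c * x₀ * c⁻¹ = c * (x₀ * (c⁻¹ * h)) * h⁻¹ := by group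
            _ = h * x₀ * h⁻¹ := by rw [← e]; group
      rw [← Finset.sum_filter, Finset.sum_const, hset, nsmul_eq_mul, ← mul_assoc,
        inv_mul_cancel₀ (Nat.cast_ne_zero.2 Nat.card_pos.ne'), one_mul]
    · intro x hx hne
      rw [Finset.sum_eq_zero fun h _ => if_neg fun e => hne (huniq x ⟨hx, ?_⟩), mul_zero]
      exact IsConj.symm (isConj_iff.2 ⟨h, e.symm⟩)
    · exact fun h => absurd hx₀ h
  rw [Finset.sum_congr rfl fun g _ => hpt g, Finset.sum_comm, Finset.mul_sum]
  refine Finset.sum_congr rfl fun x hx => ?_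
  rw [← Finset.mul_sum, Finset.sum_comm, finsum_eq_sum_of_fintype, ← sum_pPartElt_eq (hX x hx) F]
  have hh : ∀ h : G, (∑ g : G, if pPartElt p g = h * x * h⁻¹ then F g else 0) =
      ∑ g : G, if pPartElt p g = x then F g else 0 := by
    intro h
    rw [← Equiv.sum_comp (MulAut.conj h).toEquiv]
    refine Finset.sum_congr rfl fun g _ => ?_
    show (if pPartElt p (h * g * h⁻¹) = h * x * h⁻¹ then F (h * g * h⁻¹) else 0) = _
    rw [pPartElt_conj, hF]
    simp only [mul_left_inj, mul_right_inj]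
  rw [Finset.sum_congr rfl fun h _ => hh h, Finset.sum_const, Finset.card_univ, nsmul_eq_mul,
    ← Nat.card_eq_fintype_card]
  have hG : (Nat.card G : ℂ) ≠ 0 := Nat.cast_ne_zero.2 Nat.card_pos.ne'
  field_simp

/-- `k(B)` is the sum of the local ranks. -/
theorem card_block_eq_sum_ranks (hM : IsPModular p M) {B : Set (IrrCharacter G)}
    (hB : IsPBlock M B) {X : Finset G} (hX : ∀ x ∈ X, ∃ k, orderOf x = p ^ k)
    (hrep : ∀ g : G, (∃ k, orderOf g = p ^ k) → ∃! x, x ∈ X ∧ IsConj g x) :
    Nat.card B = ∑ x ∈ X, ∑ᶠ b ∈ {b : Set (IrrCharacter (Subgroup.centralizer ({x} : Set G))) |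
      IsInducedBlock M (Subgroup.centralizer ({x} : Set G)) b B}, blockRank p b := by
  classical
  haveI := irrFintype G
  apply Nat.cast_injective (R := ℂ)
  have hF : IsClassFunction G
      (fun g => ∑ χ ∈ univ.filter (· ∈ B), (χ : G → ℂ) g * conj ((χ : G → ℂ) g)) := fun g h => by
    simp only [fun χ : IrrCharacter G => isClassFunction_irr χ g h]
  have hk : ((Nat.card B : ℕ) : ℂ) = (Nat.card G : ℂ)⁻¹ *
      ∑ g : G, ∑ χ ∈ univ.filter (· ∈ B), (χ : G → ℂ) g * conj ((χ : G → ℂ) g) := by
    rw [Finset.sum_comm, Finset.mul_sum]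
    rw [show Nat.card B = (univ.filter (· ∈ B)).card by
      rw [← Fintype.card_subtype, ← Nat.card_eq_fintype_card], Finset.card_eq_sum_ones,
      Nat.cast_sum]
    refine Finset.sum_congr rfl fun χ _ => ?_
    rw [Nat.cast_one, ← inner_irr_self χ, inner_def]
  rw [hk, sum_eq_sum_sections hF hX hrep, Nat.cast_sum]
  refine Finset.sum_congr rfl fun x hx => ?_
  set C := Subgroup.centralizer ({x} : Set G) with hC
  haveI := irrFintype C
  have hH : ∀ c : G, c ∈ C ↔ c * x = x * c := fun _ => Subgroup.mem_centralizer_singleton_iff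
  set S : Finset (Set (IrrCharacter C)) := univ.filter fun b => IsInducedBlock M C b B with hS
  have hfin : (∑ᶠ b ∈ {b : Set (IrrCharacter C) | IsInducedBlock M C b B}, blockRank p b) =
      ∑ b ∈ S, blockRank p b :=
    finsum_mem_eq_sum_of_inter_support_eq _ (by ext; simp [hS])
  rw [hfin, Nat.cast_sum, finsum_eq_sum_of_fintype, Finset.mul_sum]
  have hterm : ∀ b ∈ S, (blockRank p b : ℂ) =
      ∑ η ∈ univ.filter (fun η : IrrCharacter C => blockOf M (η : C → ℂ) = b),
        ∑ χ ∈ univ.filter (· ∈ B),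
          classInner (pRegularPart p (secFun C x (χ : G → ℂ))) (η : C → ℂ) *
            conj (classInner (pRegularPart p (secFun C x (χ : G → ℂ))) (η : C → ℂ)) := by
    intro b hb
    have hb' : IsInducedBlock M C b B := (mem_filter.1 hb).2
    have hset : univ.filter (fun η : IrrCharacter C => blockOf M (η : C → ℂ) = b) =
        univ.filter (· ∈ b) := by
      ext η
      simp only [mem_filter, mem_univ, true_and]
      exact ⟨fun h => h ▸ mem_blockOf_self η, fun h => (Blocks.IsPBlock.eq_blockOf hb'.1 h).symm⟩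
    rw [hset, Finset.sum_comm, sum_secFun_sq hM hH (hX x hx) hb']
  rw [Finset.sum_congr rfl hterm, Finset.sum_fiberwise_eq_sum_filter, Finset.sum_filter]
  have hall : ∀ η : IrrCharacter C, (if blockOf M (η : C → ℂ) ∈ S then
      ∑ χ ∈ univ.filter (· ∈ B),
        classInner (pRegularPart p (secFun C x (χ : G → ℂ))) (η : C → ℂ) *
          conj (classInner (pRegularPart p (secFun C x (χ : G → ℂ))) (η : C → ℂ)) else 0) =
      ∑ χ ∈ univ.filter (· ∈ B),
        classInner (pRegularPart p (secFun C x (χ : G → ℂ))) (η : C → ℂ) *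
          conj (classInner (pRegularPart p (secFun C x (χ : G → ℂ))) (η : C → ℂ)) := by
    intro η
    split_ifs with h
    · rfl
    · refine (Finset.sum_eq_zero fun χ hχ => ?_).symm
      rw [secFun_eq_zero_of_not_induced hM (hX x hx) hB (mem_filter.1 hχ).2 (isPBlock_blockOf η)
        (fun hi => h (mem_filter.2 ⟨mem_univ _, hi⟩)) (mem_blockOf_self η), zero_mul]
  rw [Finset.sum_congr rfl fun η _ => hall η, Finset.sum_comm, ← Finset.mul_sum]
  rw [Finset.sum_congr rfl fun y _ => (show pRegularPart p (fun y : C =>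
      ∑ χ ∈ univ.filter (· ∈ B), (χ : G → ℂ) (x * y) * conj ((χ : G → ℂ) (x * y))) y =
      ∑ χ ∈ univ.filter (· ∈ B), pRegularPart p (secFun C x (χ : G → ℂ)) y *
        conj (pRegularPart p (secFun C x (χ : G → ℂ)) y) by
    simp only [pRegularPart_apply, secFun]
    split_ifs <;> simp)]
  rw [Finset.sum_comm, Finset.mul_sum]
  refine Finset.sum_congr rfl fun χ _ => ?_
  rw [← inner_def, inner_eq_sum (isClassFunction_pRegularPart
    (isClassFunction_secFun hH (isClassFunction_irr χ)))]

end CfsgLib.BlockOrth
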