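import Cfsg.Agent.S0924
import Cfsg.Agent.Lib.BlockOrth.DefectOrder
import Cfsg.Agent.Lib.BlockOrth.SubsectionCount
import Cfsg.Agent.Lib.BlockOrth.Dimension
import Cfsg.Agent.Lib.Chars.Degree

/-!
# Blocks with a central defect group
-/

set_option autoImplicit false
set_option linter.style.haveILetI false
set_option linter.unusedSectionVars false

namespace CfsgLib.BlockOrth

open Cfsg CfsgLib.Chars CfsgLib.Blocks Finset
open scoped ComplexConjugate

universe u

variable {G : Type u} [Group G] [Fintype G] {p : ℕ} [hp : Fact p.Prime]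
  {M : Ideal AlgInt} {B : Set (IrrCharacter G)} {D : Subgroup G}

theorem norm_irr_central_mul (χ : IrrCharacter G) {z : G} (hz : z ∈ Subgroup.center G) (y : G) :
    ‖(χ : G → ℂ) (z * y)‖ = ‖(χ : G → ℂ) y‖ := by
  obtain ⟨χ, n, ρ, hρ, rfl⟩ := χ
  obtain ⟨c, hc⟩ := exists_scalar_of_mem_center ρ z hz
  have hn : n ≠ 0 := by
    rintro rfl
    have := (isIrreducible_iff ρ).1 hρ
    exact not_nontrivial_iff_subsingleton.mpr inferInstance this.1
  haveI : Nontrivial (Fin n → ℂ) := ((isIrreducible_iff ρ).1 hρ).1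
  have hpow : ∀ k : ℕ, ρ (z ^ k) = c ^ k • (LinearMap.id : (Fin n → ℂ) →ₗ[ℂ] _) := by
    intro k
    induction k with
    | zero => simp [Module.End.one_eq_id]
    | succ k ih =>
      rw [pow_succ, map_mul, ih, hc, pow_succ, smul_mul_smul_comm]
      rfl
  have h1 := hpow (orderOf z)
  rw [pow_orderOf_eq_one, map_one, Module.End.one_eq_id] at h1
  have hcn : c ^ orderOf z = 1 := by
    obtain ⟨v, hv⟩ := exists_ne (0 : Fin n → ℂ)
    have h2 := congrArg (fun f : (Fin n → ℂ) →ₗ[ℂ] _ => f v) h1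
    simp only [LinearMap.id_apply, LinearMap.smul_apply] at h2
    exact smul_left_injective ℂ hv (by simpa using h2.symm)
  show ‖ρ.character (z * y)‖ = ‖ρ.character y‖
  have : ρ.character (z * y) = c * ρ.character y := by
    rw [Representation.character, map_mul, hc, Representation.character, smul_mul_assoc, map_smul,
      smul_eq_mul]
    rfl
  rw [this, norm_mul, Complex.norm_eq_one_of_pow_eq_one hcn (orderOf_pos z).ne', one_mul]

variable [M.IsPrime]

/-- A diagonal entry of a block with central defect group is one. -/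
theorem dInt_self_of_central (hM : IsPModular p M) (hB : IsPBlock M B)
    (hD : IsDefectGroup p M B D) (hDZ : D ≤ Subgroup.center G) {χ : IrrCharacter G} (hχ : χ ∈ B) :
    dInt p B χ χ = 1 := by
  classical
  have hvan : ∀ g : G, pPartElt p g ∉ D → (χ : G → ℂ) g = 0 := by
    intro g hg
    refine Cfsg.Agent.S0924.result p M hM χ g (pPartElt p g)
      (isPPrimePart_pPrimePart (p := p) g).isPPart fun D' hD' hmem => hg ?_
    rw [← IsPBlock.eq_blockOf hB hχ] at hD'
    obtain ⟨x, hx⟩ := IsDefectGroup.exists_conj_eq hM.2.2 hB hD hD'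
    rw [← hx] at hmem
    obtain ⟨d, hd, he⟩ := hmem
    rw [← he]
    have hdz : x * d = d * x := Subgroup.mem_center_iff.mp (hDZ hd) x
    show x * d * x⁻¹ ∈ D
    rw [hdz, mul_inv_cancel_right]; exact hd
  have hone : ∑ g : G, (χ : G → ℂ) g * conj ((χ : G → ℂ) g) = (Nat.card G : ℂ) := by
    have h := inner_irr_self χ
    rw [inner_def, inv_mul_eq_one₀ (card_ne_zero G)] at h
    exact h.symm
  have hpart : ∀ z : D, ∀ y : G, ¬ p ∣ orderOf y → pPartElt p ((z : G) * y) = z := by
    intro z y hy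
    obtain ⟨k, hk⟩ := (IsPGroup.iff_orderOf.mp (IsDefectGroup.isPGroup hD)) z
    have hc : Commute (z : G) y := (Subgroup.mem_center_iff.mp (hDZ z.2) y).symm
    rw [pPartElt, pPrimePart_mul hc ⟨k, by rw [Subgroup.orderOf_coe]; exact hk⟩ hy,
      mul_inv_cancel_right]
  haveI : Fintype D := Fintype.ofFinite _
  have hsplit : ∑ g : G, (χ : G → ℂ) g * conj ((χ : G → ℂ) g) =
      ∑ q ∈ (univ : Finset D) ×ˢ (univ.filter fun y : G => ¬ p ∣ orderOf y),
        (χ : G → ℂ) ((q.1 : G) * q.2) * conj ((χ : G → ℂ) ((q.1 : G) * q.2)) := by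
    rw [← Finset.sum_filter_of_ne (p := fun g : G => pPartElt p g ∈ D)
      (fun g _ hne => by
        by_contra hg
        exact hne (by rw [hvan g hg, zero_mul]))]
    refine Finset.sum_bij' (fun g hg => (⟨pPartElt p g, (Finset.mem_filter.mp hg).2⟩,
        pPrimePart p g)) (fun q _ => (q.1 : G) * q.2) ?_ ?_ ?_ ?_ ?_
    · intro g _
      simp [not_dvd_orderOf_pPrimePart]
    · intro q hq
      simp only [Finset.mem_product, Finset.mem_filter, Finset.mem_univ, true_and] at hq ⊢
      rw [hpart q.1 q.2 hq]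
      exact q.1.2
    · intro g _
      exact inv_mul_cancel_right g (pPrimePart p g)
    · intro q hq
      simp only [Finset.mem_product, Finset.mem_filter, Finset.mem_univ, true_and] at hq
      obtain ⟨k, hk⟩ := (IsPGroup.iff_orderOf.mp (IsDefectGroup.isPGroup hD)) q.1
      refine Prod.ext (Subtype.ext (hpart q.1 q.2 hq)) ?_
      exact pPrimePart_mul ((Subgroup.mem_center_iff.mp (hDZ q.1.2) q.2).symm)
        ⟨k, by rw [Subgroup.orderOf_coe]; exact hk⟩ hq
    · intro g _
      simp [pPartElt]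
  have hsq : ∀ g : G, (χ : G → ℂ) g * conj ((χ : G → ℂ) g) = ((‖(χ : G → ℂ) g‖ ^ 2 : ℝ) : ℂ) :=
    fun g => by rw [Complex.mul_conj']; push_cast; rfl
  have hR : classInner (pRegularPart p (χ : G → ℂ)) (χ : G → ℂ) = (Nat.card G : ℂ)⁻¹ *
      ∑ y ∈ univ.filter (fun y : G => ¬ p ∣ orderOf y), (χ : G → ℂ) y * conj ((χ : G → ℂ) y) := by
    rw [inner_def, Finset.sum_filter]
    congr 1
    refine Finset.sum_congr rfl fun g _ => ?_
    rw [pRegularPart_apply]
    split_ifs <;> simp
  rw [Finset.sum_product] at hsplit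
  simp only [hsq, norm_irr_central_mul χ (hDZ (Subtype.prop _))] at hsplit
  simp only [← hsq] at hsplit
  rw [Finset.sum_const, Finset.card_univ, nsmul_eq_mul, ← Nat.card_eq_fintype_card,
    card_defectGroup hM.2.2 hB hD, hone] at hsplit
  have h := dInt_spec (p := p) hM.2.2 hχ χ
  rw [hR, mul_left_comm, ← hsplit, inv_mul_cancel₀ (card_ne_zero G)] at h
  exact_mod_cast h

/-- A block with central defect group has `l = 1`. -/
theorem blockRank_eq_one_of_central (hM : IsPModular p M) (hB : IsPBlock M B)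
    (hD : IsDefectGroup p M B D) (hDZ : D ≤ Subgroup.center G) : blockRank p B = 1 := by
  classical
  haveI := irrFintype G
  set d := blockDefect p B
  obtain ⟨χ₀, hχ₀, h0⟩ := exists_blockHeight_eq_zero (p := p) hB
  set s := univ.filter (· ∈ B) with hs
  have hle : s.card ≤ p ^ d := by
    have h := sum_dInt_mul_dInt (ψ := χ₀) hM.2.2 hB hχ₀
    rw [dInt_self_of_central hM hB hD hDZ hχ₀, mul_one] at h
    have h2 : (s.card : ℤ) ≤ (p : ℤ) ^ d := by
      rw [← h, Finset.card_eq_sum_ones, Nat.cast_sum]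
      refine Finset.sum_le_sum fun ξ hξ => ?_
      rw [dInt_symm ξ χ₀, ← sq, Nat.cast_one]
      have := dInt_ne_zero hM.2.2 hB hχ₀ (Finset.mem_filter.mp hξ).2 h0
      rcases lt_or_gt_of_ne this with h' | h' <;> nlinarith
    exact_mod_cast h2
  have hsum := blockRank_eq_sum hM.2.2 hB
  have e : (((p ^ d * blockRank p B : ℕ)) : ℂ) = ((s.card : ℕ) : ℂ) := by
    rw [Nat.cast_mul, hsum, Finset.mul_sum, Finset.card_eq_sum_ones, Nat.cast_sum]
    refine Finset.sum_congr rfl fun χ hχ => ?_
    rw [← dInt_spec (p := p) hM.2.2 (Finset.mem_filter.mp hχ).2,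
      dInt_self_of_central hM hB hD hDZ (Finset.mem_filter.mp hχ).2]
    simp
  have e' : p ^ d * blockRank p B = s.card := by exact_mod_cast e
  have hpos : 0 < s.card := Finset.card_pos.mpr ⟨χ₀, Finset.mem_filter.mpr ⟨Finset.mem_univ _, hχ₀⟩⟩
  have h1 : blockRank p B ≤ 1 := by
    rw [← e'] at hle
    exact Nat.le_of_mul_le_mul_left (by rw [mul_one]; exact hle) (pow_pos hp.out.pos d)
  have h2 : blockRank p B ≠ 0 := fun h => by rw [h, mul_zero] at e'; omega
  omega

end CfsgLib.BlockOrth
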