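import Cfsg.Agent.Lib.BlockOrth.DefectOrder

/-!
# Blocks and classes of the same defect
-/

set_option autoImplicit false
set_option linter.style.haveILetI false
set_option linter.unusedSectionVars false

namespace CfsgLib.BlockOrth

open Cfsg CfsgLib.Chars CfsgLib.Blocks Finset
open scoped ComplexConjugate

universe u

variable {G : Type u} [Group G] [Fintype G] {p : ℕ} [hp : Fact p.Prime]
  {M : Ideal AlgInt} [M.IsPrime] {B : Set (IrrCharacter G)}

/-- A class of defect below that of the block has central characters in the ideal. -/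
theorem centralChar_mem_of_lt (hpM : (p : AlgInt) ∈ M) (hB : IsPBlock M B) {χ : IrrCharacter G}
    (hχ : χ ∈ B) {g : G}
    (h : blockMin p B < (Subgroup.centralizer ({g} : Set G)).index.factorization p) :
    MemLocalIdeal M (centralChar (χ : G → ℂ) g) := by
  obtain ⟨χ₀, hχ₀, hmin⟩ := exists_degVal_eq_blockMin (p := p) (IsPBlock.nonempty hB)
  rw [IsPBlock.memLocalIdeal_centralChar_iff hB hχ hχ₀]
  rw [centralChar, irr_apply_one, mul_div_right_comm]
  exact MemLocalIdeal.mul_right'
    (memLocalIdeal_natDiv hpM (irr_charDegree_ne_zero χ₀) (by rw [← degVal, hmin]; exact h))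
    (irr_mem_loc χ₀ g)

/-- A class of defect above that of the block has idempotent coefficient in the ideal. -/
theorem blockCoeff_mem_of_lt (hpM : (p : AlgInt) ∈ M) (hB : IsPBlock M B) {g : G}
    (h : (Subgroup.centralizer ({g} : Set G)).index.factorization p < blockMin p B) :
    MemLocalIdeal M (blockCoeff B g) := by
  classical
  haveI := irrFintype G
  by_cases hreg : p ∣ orderOf g
  · rw [blockCoeff_eq_zero_of_dvd hp.out hpM hB hreg]
    exact MemLocalIdeal.zero'
  set i := (Subgroup.centralizer ({g} : Set G)).index with hi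
  have hi0 : i ≠ 0 := Subgroup.index_ne_zero_of_finite
  obtain ⟨c, hc, hform⟩ := exists_blockCoeff_eq (M := M) hpM hB
  rw [hform g hreg, sum_mem_block]
  refine MemLocalIdeal.sum' fun ψ hψ => MemLocalIdeal.mul_left' (hc ψ) ?_
  have hψB := (Finset.mem_filter.1 hψ).2
  have e : (ψ : G → ℂ) g =
      ((charDegree (ψ : G → ℂ) : ℕ) : ℂ) / (i : ℂ) * centralChar (ψ : G → ℂ) g := by
    rw [centralChar, irr_apply_one, ← hi]
    have h1 : (i : ℂ) ≠ 0 := Nat.cast_ne_zero.2 hi0
    have h2 : ((charDegree (ψ : G → ℂ) : ℕ) : ℂ) ≠ 0 :=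
      Nat.cast_ne_zero.2 (irr_charDegree_ne_zero ψ)
    field_simp
  rw [e, map_mul, map_div₀, map_natCast, map_natCast]
  refine MemLocalIdeal.mul_right' (memLocalIdeal_natDiv hpM hi0 ?_)
    (isIntegral_mem_loc (map_isIntegral_int (starRingEnd ℂ) (isIntegral_centralChar ψ g)))
  have hle : blockMin p B ≤ degVal p ψ := blockMin_le hψB
  rw [degVal] at hle
  omega

theorem factorization_centralizer_add (g : G) :
    (Nat.card (Subgroup.centralizer ({g} : Set G))).factorization p +
      (Subgroup.centralizer ({g} : Set G)).index.factorization p =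
      (Nat.card G).factorization p := by
  rw [← (Subgroup.centralizer ({g} : Set G)).card_mul_index,
    Nat.factorization_mul Nat.card_pos.ne' Subgroup.index_ne_zero_of_finite, Finsupp.coe_add,
    Pi.add_apply]

/-- The `p`-regular classes of defect `σ`. -/
def IsRegClass (p σ : ℕ) (C : ConjClasses G) : Prop :=
  ∃ g : G, ConjClasses.mk g = C ∧ ¬ p ∣ orderOf g ∧
    (Nat.card (Subgroup.centralizer ({g} : Set G))).factorization p = σ

theorem isRegClass_rep {σ : ℕ} {C : ConjClasses G} (h : IsRegClass p σ C) :
    ¬ p ∣ orderOf (classRep C) ∧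
      (Nat.card (Subgroup.centralizer ({classRep C} : Set G))).factorization p = σ := by
  obtain ⟨g, hg, h1, h2⟩ := h
  have hc : IsConj g (classRep C) := by
    rw [← ConjClasses.mk_eq_mk_iff_isConj, hg, mk_classRep]
  obtain ⟨c, hcg⟩ := isConj_iff.mp hc
  refine ⟨by rwa [← hcg, ← MulAut.conj_apply, MulEquiv.orderOf_eq], ?_⟩
  have hn : (Subgroup.centralizer ({g} : Set G)).index =
      (Subgroup.centralizer ({classRep C} : Set G)).index := by
    rw [index_centralizer_eq, index_centralizer_eq]
    exact Nat.card_congr (Equiv.subtypeEquivRight fun x =>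
      ⟨fun h' => hc.symm.trans h', fun h' => hc.trans h'⟩)
  have e1 := factorization_centralizer_add (p := p) g
  have e2 := factorization_centralizer_add (p := p) (classRep C)
  rw [hn] at e1
  omega

/-- For blocks `B`, `B'` of defect `σ`, the value of a character of `B'` on the idempotent of `B`
only depends, modulo `M`, on the `p`-regular classes of defect `σ`. -/
theorem omega_blockCoeff_sub_sum_mem [Fintype (ConjClasses G)] (hpM : (p : AlgInt) ∈ M)
    (hB : IsPBlock M B) {B' : Set (IrrCharacter G)} (hB' : IsPBlock M B') {σ : ℕ}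
    (hσ : blockDefect p B = σ) (hσ' : blockDefect p B' = σ) {χ : IrrCharacter G} (hχ : χ ∈ B')
    [DecidablePred fun C : ConjClasses G => IsRegClass p σ C] :
    MemLocalIdeal M (omega (χ : G → ℂ) (blockCoeff B) -
      ∑ C ∈ univ.filter (fun C : ConjClasses G => IsRegClass p σ C),
        blockCoeff B (classRep C) * centralChar (χ : G → ℂ) (classRep C)) := by
  rw [omega_eq_sum_centralChar χ (isClassFunction_blockCoeff B),
    ← Finset.sum_filter_add_sum_filter_not univ (fun C : ConjClasses G => IsRegClass p σ C),
    add_sub_cancel_left]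
  refine MemLocalIdeal.sum' fun C hC => ?_
  have hn := (Finset.mem_filter.mp hC).2
  have hl := centralChar_mem_loc (M := M) χ (classRep C)
  by_cases hreg : p ∣ orderOf (classRep C)
  · rw [blockCoeff_eq_zero_of_dvd hp.out hpM hB hreg, zero_mul]
    exact MemLocalIdeal.zero'
  have h1 := blockMin_add_blockDefect (p := p) (IsPBlock.nonempty hB)
  have h2 := blockMin_add_blockDefect (p := p) (IsPBlock.nonempty hB')
  have h3 := factorization_centralizer_add (p := p) (classRep C)
  rw [hσ] at h1
  rw [hσ'] at h2
  rcases lt_trichotomy ((Subgroup.centralizer ({classRep C} : Set G)).index.factorization p)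
      (blockMin p B) with h | h | h
  · exact MemLocalIdeal.mul_right' (blockCoeff_mem_of_lt hpM hB h) hl
  · exact absurd ⟨classRep C, mk_classRep C, hreg, by omega⟩ hn
  · exact MemLocalIdeal.mul_left' (blockCoeff_mem_loc hB _)
      (centralChar_mem_of_lt hpM hB' hχ (by omega))

/-- Two characters in blocks of defect `d` are in one block if their central characters agree
modulo `M` on the `p`-regular classes of defect `d`. -/
theorem sameBlock_of_agree (hpM : (p : AlgInt) ∈ M) {d : ℕ} {χ ψ : IrrCharacter G}
    (hχ : blockDefect p (blockOf M (χ : G → ℂ)) = d)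
    (hψ : blockDefect p (blockOf M (ψ : G → ℂ)) = d)
    (h : ∀ x : G, ¬ p ∣ orderOf x →
      (Nat.card (Subgroup.centralizer ({x} : Set G))).factorization p = d →
      MemLocalIdeal M (centralChar (χ : G → ℂ) x - centralChar (ψ : G → ℂ) x)) :
    SameBlock M (χ : G → ℂ) (ψ : G → ℂ) := by
  classical
  haveI := Fintype.ofFinite (ConjClasses G)
  have hB := isPBlock_blockOf (M := M) χ
  have hB' := isPBlock_blockOf (M := M) ψ
  have h1 := omega_blockCoeff_sub_sum_mem hpM hB hB hχ hχ (mem_blockOf_self χ)
  have h2 := omega_blockCoeff_sub_sum_mem hpM hB hB' hχ hψ (mem_blockOf_self ψ)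
  rw [omega_blockCoeff, if_pos (mem_blockOf_self χ)] at h1
  rw [omega_blockCoeff] at h2
  have h3 : MemLocalIdeal M
      ((∑ C ∈ univ.filter (fun C : ConjClasses G => IsRegClass p d C),
          blockCoeff (blockOf M (χ : G → ℂ)) (classRep C) *
            centralChar (χ : G → ℂ) (classRep C)) -
        ∑ C ∈ univ.filter (fun C : ConjClasses G => IsRegClass p d C),
          blockCoeff (blockOf M (χ : G → ℂ)) (classRep C) *
            centralChar (ψ : G → ℂ) (classRep C)) := by
    rw [← Finset.sum_sub_distrib]
    refine MemLocalIdeal.sum' fun C hC => ?_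
    rw [← mul_sub]
    obtain ⟨ha, hb⟩ := isRegClass_rep (Finset.mem_filter.mp hC).2
    exact MemLocalIdeal.mul_left' (blockCoeff_mem_loc hB _) (h _ ha hb)
  by_contra hne
  rw [if_neg fun h' => hne (mem_blockOf.1 h')] at h2
  refine not_memLocalIdeal_one (M := M) ?_
  have h4 := MemLocalIdeal.sub' (MemLocalIdeal.add' h1 h3) h2
  ring_nf at h4
  exact h4

/-- There are at most as many blocks of defect `σ` as `p`-regular classes of defect `σ`. -/
theorem card_blocks_le (hpM : (p : AlgInt) ∈ M) (σ : ℕ) :
    Nat.card {B : Set (IrrCharacter G) // IsPBlock M B ∧ blockDefect p B = σ} ≤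
      Nat.card {C : ConjClasses G // IsRegClass p σ C} := by
  classical
  haveI := Fintype.ofFinite (ConjClasses G)
  haveI := irrFintype G
  set ι := {B : Set (IrrCharacter G) // IsPBlock M B ∧ blockDefect p B = σ}
  set κ := {C : ConjClasses G // IsRegClass p σ C}
  haveI : Fintype ι := Fintype.ofFinite _
  haveI : Fintype κ := Fintype.ofFinite _
  choose rep hrep using fun B : ι => IsPBlock.nonempty B.2.1
  let F := IsLocalRing.ResidueField (loc M)
  let v : ι → (κ → F) := fun B C =>
    red (M := M) ⟨centralChar (rep B : G → ℂ) (classRep C.1), centralChar_mem_loc _ _⟩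
  let e : ι → κ → F := fun B C =>
    red (M := M) ⟨blockCoeff B.1 (classRep C.1), blockCoeff_mem_loc B.2.1 _⟩
  have key : ∀ B B' : ι, ∑ C : κ, e B C * v B' C = if B = B' then 1 else 0 := by
    intro B B'
    have h := omega_blockCoeff_sub_sum_mem (σ := σ) hpM B.2.1 B'.2.1 B.2.2 B'.2.2 (hrep B')
    have hiff : rep B' ∈ B.1 ↔ B = B' := by
      refine ⟨fun hm => Subtype.ext (IsPBlock.eq_of_mem B.2.1 B'.2.1 hm (hrep B')), ?_⟩
      rintro rfl
      exact hrep B
    rw [omega_blockCoeff, Finset.sum_subtype (p := fun C => IsRegClass p σ C) _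
      (fun C => by simp) fun C => blockCoeff B.1 (classRep C) *
        centralChar (rep B' : G → ℂ) (classRep C)] at h
    let t : loc M := ∑ C : κ, (⟨blockCoeff B.1 (classRep C.1), blockCoeff_mem_loc B.2.1 _⟩ : loc M) *
      ⟨centralChar (rep B' : G → ℂ) (classRep C.1), centralChar_mem_loc _ _⟩
    have ht : red (M := M) t = ∑ C : κ, e B C * v B' C := by
      simp only [t, map_sum, map_mul, e, v]
    have htv : (t : ℂ) = ∑ C : κ, blockCoeff B.1 (classRep C.1) *
        centralChar (rep B' : G → ℂ) (classRep C.1) := by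
      simp [t]
    rw [← ht]
    by_cases hBB : B = B'
    · rw [if_pos hBB]
      rw [if_pos (hiff.mpr hBB), ← htv] at h
      have h0 : red (M := M) (1 - t) = 0 := red_eq_zero_iff.mpr (by push_cast; exact h)
      rw [map_sub, map_one, sub_eq_zero] at h0
      exact h0.symm
    · rw [if_neg hBB]
      rw [if_neg (fun hm => hBB (hiff.mp hm)), ← htv, zero_sub] at h
      have h0 : red (M := M) (-t) = 0 := red_eq_zero_iff.mpr (by push_cast; exact h)
      rwa [map_neg, neg_eq_zero] at h0
  have hind : LinearIndependent F v := by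
    rw [Fintype.linearIndependent_iff]
    intro c hc B
    have h : ∑ C : κ, ∑ B' : ι, e B C * (c B' * v B' C) = 0 :=
      Finset.sum_eq_zero fun C _ => by
        have h0 := congrFun hc C
        simp only [Finset.sum_apply, Pi.smul_apply, smul_eq_mul, Pi.zero_apply] at h0
        rw [← Finset.mul_sum, h0, mul_zero]
    rw [Finset.sum_comm, Finset.sum_congr rfl (fun B' _ => (by
      rw [Finset.sum_congr rfl fun C _ => mul_left_comm (e B C) (c B') (v B' C), ← Finset.mul_sum,
        key] :
      ∑ C : κ, e B C * (c B' * v B' C) = c B' * if B = B' then 1 else 0))] at h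
    rw [Finset.sum_eq_single B (fun B' _ hne => by rw [if_neg (Ne.symm hne), mul_zero])
      (fun hn => absurd (Finset.mem_univ B) hn), if_pos rfl, mul_one] at h
    exact h
  have hle := hind.fintype_card_le_finrank
  rw [Module.finrank_pi] at hle
  rwa [Nat.card_eq_fintype_card, Nat.card_eq_fintype_card]

end CfsgLib.BlockOrth
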