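/-
Two-blocks with a defect group of order two.
-/
import Cfsg.Agent.Lib.BlockOrth.Contribution
import Cfsg.Agent.Lib.BlockOrth.DefectOrder
import Cfsg.Agent.Lib.BlockOrth.BrauerFeit
import Cfsg.Agent.Lib.Blocks.Correspondence

set_option autoImplicit false
set_option linter.style.haveILetI false
set_option linter.unusedSectionVars false

namespace CfsgLib.BlockOrth

open Cfsg CfsgLib.Chars CfsgLib.Blocks Finset
open scoped ComplexConjugate

universe u

variable {G : Type u} [Group G] [Fintype G] {M : Ideal AlgInt} [M.IsPrime]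
  {B : Set (IrrCharacter G)}

/-- The structure of a `2`-block of defect one. -/
theorem two_block_defect_one (hpM : ((2 : ℕ) : AlgInt) ∈ M) (hB : IsPBlock M B)
    (hd : blockDefect 2 B = 1) :
    Nat.card B = 2 ∧ (∀ χ ∈ B, ∀ ψ ∈ B, dInt 2 B χ ψ = 1) ∧
      ∀ χ ∈ B, ∀ ψ ∈ B, pRegularPart 2 (χ : G → ℂ) = pRegularPart 2 (ψ : G → ℂ) := by
  classical
  haveI := irrFintype G
  set s := univ.filter (· ∈ B) with hs
  have hk : Nat.card B = s.card := by rw [Nat.card_eq_fintype_card, Fintype.card_subtype]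
  have hk2 : s.card ≤ 2 := by
    have h := four_mul_card_le (p := 2) hpM hB
    rw [hd, hk] at h
    omega
  have hrow : ∀ χ ∈ B, dInt 2 B χ χ = 1 ∧ ∃ ψ ∈ B, ψ ≠ χ := by
    intro χ hχ
    have h0 := height_eq_zero_of_defect_le_one (p := 2) hpM hB hχ (le_of_eq hd)
    have hodd : ¬ (2 : ℤ) ∣ dInt 2 B χ χ := by
      intro h
      have := not_pow_succ_height_dvd_dInt (p := 2) hpM hB hχ hχ h0
      rw [h0] at this
      exact this (by simpa using h)
    have hsq := sum_dInt_sq_erase (p := 2) hpM hB hχ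
    rw [hd] at hsq
    norm_num at hsq
    have hnn : 0 ≤ ∑ ξ ∈ (univ.filter (· ∈ B)).erase χ, dInt 2 B χ ξ ^ 2 :=
      Finset.sum_nonneg fun _ _ => sq_nonneg _
    have h1 : dInt 2 B χ χ = 1 := by
      have : 0 ≤ dInt 2 B χ χ ∧ dInt 2 B χ χ ≤ 2 := by constructor <;> nlinarith
      omega
    refine ⟨h1, ?_⟩
    by_contra hex
    push Not at hex
    rw [Finset.sum_eq_zero fun ξ hξ => absurd (hex ξ (mem_filter.1 (mem_of_mem_erase hξ)).2)
      (ne_of_mem_erase hξ), h1] at hsq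
    norm_num at hsq
  have hpair : ∀ χ ∈ B, ∀ ψ ∈ B, ψ ≠ χ → s = {χ, ψ} ∧ dInt 2 B χ ψ ^ 2 = 1 := by
    intro χ hχ ψ hψ hne
    have he : s = {χ, ψ} := by
      refine (Finset.eq_of_subset_of_card_le ?_ ?_).symm
      · intro ξ hξ
        rcases Finset.mem_insert.1 hξ with rfl | h
        · exact mem_filter.2 ⟨mem_univ _, hχ⟩
        · rw [Finset.mem_singleton.1 h]; exact mem_filter.2 ⟨mem_univ _, hψ⟩
      · rw [Finset.card_pair hne.symm]; exact hk2
    refine ⟨he, ?_⟩
    have hsq := sum_dInt_sq_erase (p := 2) hpM hB hχ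
    rw [hd, ← hs, he, Finset.erase_insert (by simpa using hne.symm), Finset.sum_singleton,
      (hrow χ hχ).1] at hsq
    norm_num at hsq
    rcases hsq with h | h <;> rw [h] <;> norm_num
  obtain ⟨χ₀, hχ₀⟩ := Blocks.IsPBlock.nonempty hB
  obtain ⟨ψ₀, hψ₀, hne⟩ := (hrow χ₀ hχ₀).2
  have hcard : Nat.card B = 2 := by
    rw [hk, (hpair χ₀ hχ₀ ψ₀ hψ₀ hne).1, Finset.card_pair hne.symm]
  have hone : ∀ χ ∈ B, ∀ ψ ∈ B, ψ ≠ χ → dInt 2 B χ ψ = 1 ∧
      pRegularPart 2 (χ : G → ℂ) = pRegularPart 2 (ψ : G → ℂ) := by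
    intro χ hχ ψ hψ hne
    obtain ⟨he, hc⟩ := hpair χ hχ ψ hψ hne
    have hval : ∀ g : G, ¬ 2 ∣ orderOf g →
        (χ : G → ℂ) g = (dInt 2 B χ ψ : ℂ) * (ψ : G → ℂ) g := by
      intro g hg
      have h := pow_smul_pRegularPart_eq_sum (p := 2) hpM hB hχ g
      rw [hd, ← hs, he, Finset.sum_pair hne.symm, (hrow χ hχ).1,
        pRegularPart_apply, if_pos hg] at h
      push_cast at h
      linear_combination h
    have hpos : 0 < dInt 2 B χ ψ := by
      have h := hval 1 (by simp)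
      rw [irr_apply_one, irr_apply_one] at h
      have h' : (charDegree (χ : G → ℂ) : ℤ) = dInt 2 B χ ψ * charDegree (ψ : G → ℂ) := by
        exact_mod_cast h
      by_contra hle
      have := irr_charDegree_ne_zero χ
      have := mul_nonpos_of_nonpos_of_nonneg (not_lt.1 hle)
        (Int.natCast_nonneg (charDegree (ψ : G → ℂ)))
      omega
    have h1 : dInt 2 B χ ψ = 1 := by
      rcases sq_eq_one_iff.1 hc with h | h <;> omega
    refine ⟨h1, funext fun g => ?_⟩
    rw [pRegularPart_apply, pRegularPart_apply]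
    split_ifs with hg
    · rfl
    · rw [hval g hg, h1, Int.cast_one, one_mul]
  refine ⟨hcard, fun χ hχ ψ hψ => ?_, fun χ hχ ψ hψ => ?_⟩ <;>
    rcases eq_or_ne ψ χ with rfl | h
  · exact (hrow ψ hψ).1
  · exact (hone χ hχ ψ hψ h).1
  · rfl
  · exact (hone χ hχ ψ hψ h).2

/-- A central `p`-element lies in every defect group. -/
theorem mem_defectGroup_of_mem_center {p : ℕ} [Fact p.Prime] {z : G}
    (hz : z ∈ Subgroup.center G) (hzp : ∃ k, orderOf z = p ^ k) {D : Subgroup G}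
    (hD : IsDefectGroup p M B D) : z ∈ D := by
  obtain ⟨g, -, P, rfl⟩ := hD
  have hzC : z ∈ Subgroup.centralizer ({g} : Set G) :=
    Subgroup.mem_centralizer_singleton_iff.2 (Subgroup.mem_center_iff.1 hz g).symm
  obtain ⟨k, hk⟩ := hzp
  haveI : (Subgroup.zpowers (⟨z, hzC⟩ : Subgroup.centralizer ({g} : Set G))).Normal := ⟨fun y hy c => by
    obtain ⟨i, rfl⟩ := hy
    refine ⟨i, ?_⟩
    have hc : Commute c (⟨z, hzC⟩ : Subgroup.centralizer ({g} : Set G)) := Subtype.ext (Subgroup.mem_center_iff.1 hz c)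
    rw [(hc.zpow_right i).eq, mul_inv_cancel_right]⟩
  have hp : IsPGroup p (Subgroup.zpowers (⟨z, hzC⟩ : Subgroup.centralizer ({g} : Set G))) := IsPGroup.of_card (n := k) (by
    rw [Nat.card_zpowers, Subgroup.orderOf_mk, hk])
  have hle : Subgroup.zpowers (⟨z, hzC⟩ : Subgroup.centralizer ({g} : Set G)) ≤ (P : Subgroup (Subgroup.centralizer ({g} : Set G))) := by
    have := P.3 (IsPGroup.to_sup_of_normal_right P.2 hp) le_sup_left
    exact le_sup_right.trans this.le
  exact ⟨⟨z, hzC⟩, hle (Subgroup.mem_zpowers _), rfl⟩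

end CfsgLib.BlockOrth
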