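/-
Minors of an integral matrix and the quadratic form of the adjugate of its Gram matrix.
-/
import Mathlib

set_option autoImplicit false
set_option linter.style.haveILetI false
set_option linter.unusedSectionVars false

namespace CfsgLib.BlockOrth

open Matrix Finset
open scoped ComplexConjugate

/-- The Cauchy–Binet formula, summed over all ordered choices. -/
theorem sum_det_mul_det {R : Type*} [CommRing R] {ι : Type*} [Fintype ι] [DecidableEq ι] {l : ℕ}
    (A : Matrix (Fin l) ι R) (B : Matrix ι (Fin l) R) :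
    (l.factorial : R) * (A * B).det =
      ∑ f : Fin l → ι, (A.submatrix id f).det * (B.submatrix f id).det := by
  have h1 : (A * B).det = ∑ f : Fin l → ι, (∏ i, A i (f i)) * (B.submatrix f id).det := by
    have e : (A * B : Matrix (Fin l) (Fin l) R) = fun i => ∑ j, A i j • B j := by
      funext i k
      simp [Matrix.mul_apply]
    show Matrix.detRowAlternating (A * B) = _
    rw [e, ← AlternatingMap.coe_multilinearMap, MultilinearMap.map_sum]
    refine Finset.sum_congr rfl fun f _ => ?_
    rw [MultilinearMap.map_smul_univ, smul_eq_mul]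
    rfl
  have h2 : ∀ σ : Equiv.Perm (Fin l),
      ∑ f : Fin l → ι, (Equiv.Perm.sign σ : R) * (∏ i, A (σ i) (f i)) * (B.submatrix f id).det =
        (A * B).det := by
    intro σ
    rw [h1, ← Equiv.sum_comp (Equiv.arrowCongr σ.symm (Equiv.refl ι))]
    refine Finset.sum_congr rfl fun g _ => ?_
    have e : (B.submatrix (Equiv.arrowCongr σ.symm (Equiv.refl ι) g) id) =
        (B.submatrix g id).submatrix σ id := rfl
    rw [e, Matrix.det_permute]
    have e2 : ∏ i, A (σ i) (Equiv.arrowCongr σ.symm (Equiv.refl ι) g i) = ∏ i, A i (g i) :=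
      Equiv.prod_comp σ (fun i => A i (g i))
    rw [e2]
    have hsign : (Equiv.Perm.sign σ : R) * (Equiv.Perm.sign σ : R) = 1 := by
      rcases Int.units_eq_one_or (Equiv.Perm.sign σ) with h | h <;> simp [h]
    linear_combination (∏ i, A i (g i)) * (B.submatrix g id).det * hsign
  have e3 : ∀ f : Fin l → ι, (A.submatrix id f).det * (B.submatrix f id).det =
      ∑ σ : Equiv.Perm (Fin l),
        (Equiv.Perm.sign σ : R) * (∏ i, A (σ i) (f i)) * (B.submatrix f id).det := fun f => by
    rw [Matrix.det_apply' (A.submatrix id f), Finset.sum_mul]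
    rfl
  rw [Finset.sum_congr rfl fun f _ => e3 f, Finset.sum_comm, Finset.sum_congr rfl fun σ _ => h2 σ,
    Finset.sum_const, Finset.card_univ, Fintype.card_perm, Fintype.card_fin, nsmul_eq_mul]

/-- A rank one change of the determinant. -/
theorem det_add_vecMulVec {l : ℕ} {A : Matrix (Fin l) (Fin l) ℂ} (hA : A.det ≠ 0)
    (u v : Fin l → ℂ) :
    (A + Matrix.vecMulVec u v).det = A.det + ∑ i, ∑ j, v i * A.adjugate i j * u j := by
  have hu : IsUnit A.det := isUnit_iff_ne_zero.2 hA
  have e : A + Matrix.vecMulVec u v = A * (1 + replicateCol Unit (A⁻¹ *ᵥ u) * replicateRow Unit v) := by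
    rw [← Matrix.vecMulVec_eq, Matrix.mul_add, Matrix.mul_one, Matrix.mul_vecMulVec,
      Matrix.mulVec_mulVec, Matrix.mul_nonsing_inv A hu, Matrix.one_mulVec]
  rw [e, Matrix.det_mul, det_one_add_replicateCol_mul_replicateRow, mul_add, mul_one]
  congr 1
  simp only [dotProduct, Matrix.mulVec, Matrix.inv_def, Ring.inverse_eq_inv', Matrix.smul_apply,
    smul_eq_mul, Finset.mul_sum]
  refine Finset.sum_congr rfl fun i _ => Finset.sum_congr rfl fun j _ => ?_
  field_simp

section Minors

variable {ι : Type*} [Fintype ι] [DecidableEq ι] {l : ℕ} (Z : Matrix ι (Fin l) ℤ)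

/-- The rows of `Z` with one further row. -/
def extRows (x : Fin l → ℂ) : Matrix (Option ι) (Fin l) ℂ :=
  Matrix.of fun o j => o.elim (x j) fun i => (Z i j : ℂ)

theorem extRows_none (x : Fin l → ℂ) (j : Fin l) : extRows Z x none j = x j := rfl

theorem extRows_some (x : Fin l → ℂ) (i : ι) (j : Fin l) :
    extRows Z x (some i) j = (Z i j : ℂ) := rfl

theorem det_gram_pos (h : (Zᵀ * Z).det ≠ 0) : 0 < (Zᵀ * Z).det := by
  have h1 := sum_det_mul_det Zᵀ Z
  have h2 : (0 : ℤ) ≤ ∑ f : Fin l → ι, (Zᵀ.submatrix id f).det * (Z.submatrix f id).det :=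
    Finset.sum_nonneg fun f _ => by
      rw [show Zᵀ.submatrix id f = (Z.submatrix f id)ᵀ from rfl, Matrix.det_transpose]
      exact mul_self_nonneg _
  rw [← h1] at h2
  exact lt_of_le_of_ne (nonneg_of_mul_nonneg_right h2 (by exact_mod_cast l.factorial_pos)) (Ne.symm h)

theorem exists_det_submatrix_ne_zero (h : (Zᵀ * Z).det ≠ 0) :
    ∃ f : Fin l → ι, (Z.submatrix f id).det ≠ 0 := by
  by_contra hc
  push Not at hc
  have h1 := sum_det_mul_det Zᵀ Z
  rw [Finset.sum_eq_zero fun f _ => by rw [hc f, mul_zero]] at h1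
  exact h ((mul_eq_zero.1 h1).resolve_left (by exact_mod_cast l.factorial_ne_zero))

theorem le_card_of_det_gram_ne_zero (h : (Zᵀ * Z).det ≠ 0) : l ≤ Fintype.card ι := by
  obtain ⟨f, hf⟩ := exists_det_submatrix_ne_zero Z h
  have hinj : Function.Injective f := fun i j hij => by
    by_contra hne
    exact hf (Matrix.det_zero_of_row_eq hne (by funext k; simp [hij]))
  simpa using Fintype.card_le_of_injective f hinj

/-- The adjugate form as a sum of squares of minors. -/
theorem sum_normSq_det_eq (h : (Zᵀ * Z).det ≠ 0) (x : Fin l → ℂ) :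
    ∑ f ∈ univ.filter (fun f : Fin l → Option ι => ∃ i, f i = none),
      (Complex.normSq ((extRows Z x).submatrix f id).det : ℂ) =
    (l.factorial : ℂ) * ∑ i, ∑ j, x i * ((Zᵀ * Z).adjugate i j : ℂ) * conj (x j) := by
  set N := extRows Z x with hN
  set C : Matrix (Fin l) (Fin l) ℂ := (Zᵀ * Z).map (Int.castRingHom ℂ) with hC
  have hCdet : C.det = ((Zᵀ * Z).det : ℂ) := ((Int.castRingHom ℂ).map_det _).symm
  have hNN : (N.map conj)ᵀ * N = C + Matrix.vecMulVec (fun i => conj (x i)) x := by
    ext i j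
    simp [Matrix.mul_apply, Fintype.sum_option, hN, hC, extRows_none, extRows_some,
      Matrix.vecMulVec_apply, add_comm]
  have hterm : ∀ f : Fin l → Option ι, (((N.map conj)ᵀ).submatrix id f).det * (N.submatrix f id).det =
      (Complex.normSq (N.submatrix f id).det : ℂ) := by
    intro f
    rw [show ((N.map conj)ᵀ).submatrix id f = ((N.submatrix f id).map conj)ᵀ from rfl,
      Matrix.det_transpose, Complex.normSq_eq_conj_mul_self]
    congr 1
    exact ((starRingEnd ℂ).map_det _).symm
  have h1 := sum_det_mul_det (N.map conj)ᵀ N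
  simp only [hterm] at h1
  have h2 := sum_det_mul_det Zᵀ Z
  have h2' : (l.factorial : ℂ) * C.det =
      ∑ f : Fin l → ι, (Complex.normSq (N.submatrix (fun i => some (f i)) id).det : ℂ) := by
    rw [hCdet, ← Int.cast_natCast, ← Int.cast_mul, h2, Int.cast_sum]
    refine Finset.sum_congr rfl fun f _ => ?_
    have e : N.submatrix (fun i => some (f i)) id = (Z.submatrix f id).map (Int.castRingHom ℂ) := by
      ext i j; simp [hN, extRows_some]
    rw [e, ← RingHom.mapMatrix_apply, ← RingHom.map_det, Int.cast_mul,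
      show Zᵀ.submatrix id f = (Z.submatrix f id)ᵀ from rfl, Matrix.det_transpose,
      eq_intCast, show ((Z.submatrix f id).det : ℂ) = (((Z.submatrix f id).det : ℝ) : ℂ) by simp,
      ← Complex.ofReal_mul, Complex.normSq_ofReal]
  have hsplit : ∑ f ∈ univ.filter (fun f : Fin l → Option ι => ¬ ∃ i, f i = none),
      (Complex.normSq (N.submatrix f id).det : ℂ) =
      ∑ f : Fin l → ι, (Complex.normSq (N.submatrix (fun i => some (f i)) id).det : ℂ) := by
    symm
    refine Finset.sum_bij (fun f _ => fun i => some (f i)) (fun f _ => by simp)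
      (fun f _ g _ hfg => funext fun i => Option.some_injective _ (congrFun hfg i))
      (fun g hg => ?_) fun _ _ => rfl
    have hg' : ∀ i, ∃ y, g i = some y := fun i =>
      Option.ne_none_iff_exists'.1 fun hi => (mem_filter.1 hg).2 ⟨i, hi⟩
    choose y hy using hg'
    exact ⟨y, mem_univ _, funext fun i => (hy i).symm⟩
  rw [hNN, det_add_vecMulVec (by rw [hCdet]; exact_mod_cast h), mul_add, h2',
    ← Finset.sum_filter_add_sum_filter_not univ (fun f : Fin l → Option ι => ∃ i, f i = none),
    hsplit, add_comm (∑ f ∈ _, _)] at h1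
  refine (add_right_cancel h1).symm.trans ?_
  congr 1
  refine Finset.sum_congr rfl fun i _ => Finset.sum_congr rfl fun j _ => ?_
  congr 2
  rw [hC, ← RingHom.mapMatrix_apply, ← RingHom.map_adjugate]
  rfl

/-- A replacement of one row with nonzero determinant. -/
theorem det_updateRow_eq_sum {R : Type*} [CommRing R] (M : Matrix (Fin l) (Fin l) R) (i : Fin l)
    (v : Fin l → R) : (M.updateRow i v).det = ∑ j, M.adjugate j i * v j := by
  rw [← Matrix.cramer_transpose_apply, Matrix.cramer_eq_adjugate_mulVec, ← Matrix.adjugate_transpose]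
  rfl

/-- At least `l` choices of rows through the new row are independent. -/
theorem card_minors_ge (h : (Zᵀ * Z).det ≠ 0)
    (hdel : 2 ≤ l → ∀ (θ : ι) (y : Fin l → ℂ), (∀ η, η ≠ θ → ∑ j, (Z η j : ℂ) * y j = 0) →
      ∑ j, (Z θ j : ℂ) * y j = 0)
    {x : Fin l → ℂ} (hx : x ≠ 0) :
    l * l.factorial ≤ (univ.filter (fun f : Fin l → Option ι => (∃ i, f i = none) ∧
      ((extRows Z x).submatrix f id).det ≠ 0)).card := by
  classical
  obtain ⟨g₀, hg₀⟩ := exists_det_submatrix_ne_zero Z h
  set N := extRows Z x with hN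
  set M₀ : Matrix (Fin l) (Fin l) ℂ := N.submatrix (fun i => some (g₀ i)) id with hM₀
  have hM₀d : M₀.det ≠ 0 := by
    have e : M₀ = (Z.submatrix g₀ id).map (Int.castRingHom ℂ) := by
      ext i j; simp [hM₀, hN, extRows_some]
    rw [e, ← RingHom.mapMatrix_apply, ← RingHom.map_det]
    simpa using hg₀
  obtain ⟨i₀, hi₀⟩ : ∃ i₀, (M₀.updateRow i₀ x).det ≠ 0 := by
    by_contra hc
    push Not at hc
    apply hx
    have hz : x ᵥ* M₀.adjugate = 0 := funext fun i => by
      rw [Matrix.vecMul, dotProduct]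
      exact (Finset.sum_congr rfl fun j _ => mul_comm _ _).trans
        ((det_updateRow_eq_sum M₀ i x).symm.trans (hc i))
    have h3 := congrArg (· ᵥ* M₀) hz
    simp only [Matrix.vecMul_vecMul, Matrix.adjugate_mul, Matrix.vecMul_smul, Matrix.vecMul_one,
      Matrix.zero_vecMul] at h3
    exact (smul_eq_zero.1 h3).resolve_left hM₀d
  set g : Fin l → Option ι := Function.update (fun i => some (g₀ i)) i₀ none with hg
  have hgM : N.submatrix g id = M₀.updateRow i₀ x := by
    ext i j
    rcases eq_or_ne i i₀ with rfl | hne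
    · simp [hg, hN, extRows_none]
    · simp [hg, hne, hM₀]
  have hinj : ∀ f : Fin l → Option ι, (N.submatrix f id).det ≠ 0 → Function.Injective f := by
    intro f hf i j hij
    by_contra hne
    exact hf (Matrix.det_zero_of_row_eq hne (by funext k; simp [hij]))
  have hginj : Function.Injective g := hinj g (hgM ▸ hi₀)
  have hexch : ∀ s, s ≠ i₀ → ∃ i : ι, some i ≠ g s ∧
      (N.submatrix (Function.update g s (some i)) id).det ≠ 0 := by
    intro s hs
    by_contra hc
    push Not at hc
    have hgs : g s = some (g₀ s) := Function.update_of_ne hs _ _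
    have hl : 2 ≤ l := by
      have h2 : (s : ℕ) ≠ (i₀ : ℕ) := Fin.val_ne_of_ne hs
      have := s.2
      have := i₀.2
      omega
    have hrow : ∀ i, N.submatrix (Function.update g s (some i)) id =
        (N.submatrix g id).updateRow s (fun j => (Z i j : ℂ)) := fun i => by
      ext k j
      rcases eq_or_ne k s with rfl | hne
      · simp [hN, extRows_some]
      · simp [hne]
    have h0 := hdel hl (g₀ s) (fun j => (N.submatrix g id).adjugate j s) fun η hη => by
      have h4 := hc η (by rw [hgs]; exact fun h5 => hη (Option.some_injective _ h5))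
      rw [hrow, det_updateRow_eq_sum] at h4
      rw [← h4]
      exact Finset.sum_congr rfl fun j _ => mul_comm _ _
    refine (hgM ▸ hi₀ : (N.submatrix g id).det ≠ 0) ?_
    rw [← Matrix.updateRow_eq_self (N.submatrix g id) s, det_updateRow_eq_sum, ← h0]
    refine Finset.sum_congr rfl fun j _ => ?_
    rw [mul_comm, Matrix.submatrix_apply, hgs]
    rfl
  choose rep hrep1 hrep2 using hexch
  let F : Fin l → Fin l → Option ι := fun s =>
    if hs : s = i₀ then g else Function.update g s (some (rep s hs))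
  have hFdet : ∀ s, (N.submatrix (F s) id).det ≠ 0 := fun s => by
    simp only [F]
    split_ifs with hs
    · exact hgM ▸ hi₀
    · exact hrep2 s hs
  have hF0 : ∀ s, F s i₀ = none := fun s => by
    simp only [F]
    split_ifs with hs
    · simp [hg]
    · rw [Function.update_of_ne (Ne.symm hs)]; simp [hg]
  -- the ranges are distinct
  have hmiss : ∀ s t, s ≠ i₀ → s ≠ t → ∃ i, F t i = g s := fun s t _ hst => by
    refine ⟨s, ?_⟩
    simp only [F]
    split_ifs with ht
    · rfl
    · exact Function.update_of_ne hst _ _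
  have hout : ∀ s, s ≠ i₀ → ∀ i, F s i ≠ g s := fun s hs i => by
    simp only [F, dif_neg hs]
    rcases eq_or_ne i s with rfl | hne
    · rw [Function.update_self]; exact hrep1 i hs
    · rw [Function.update_of_ne hne]; exact fun h5 => hne (hginj h5)
  calc l * l.factorial = (univ : Finset (Fin l × Equiv.Perm (Fin l))).card := by
        simp [Fintype.card_perm]
    _ ≤ _ := by
      refine Finset.card_le_card_of_injOn (fun w => F w.1 ∘ w.2) (fun w _ => ?_) ?_
      · refine mem_filter.2 ⟨mem_univ _, ⟨w.2.symm i₀, by simp [hF0]⟩, ?_⟩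
        show ((N.submatrix (F w.1) id).submatrix w.2 id).det ≠ 0
        rw [Matrix.det_permute]
        exact mul_ne_zero (by rcases Int.units_eq_one_or (Equiv.Perm.sign w.2) with h | h <;>
          simp [h]) (hFdet _)
      · rintro ⟨s, σ⟩ - ⟨t, τ⟩ - he
        have hst : s = t := by
          by_contra hne
          rcases eq_or_ne s i₀ with hs | hs
          · have ht : t ≠ i₀ := fun ht => hne (hs.trans ht.symm)
            obtain ⟨i, hi⟩ := hmiss t s ht (Ne.symm hne)
            have h6 := congrFun he (σ.symm i)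
            simp only [Function.comp_apply, Equiv.apply_symm_apply, hi] at h6
            exact hout t ht _ h6.symm
          · obtain ⟨i, hi⟩ := hmiss s t hs hne
            have h6 := congrFun he (τ.symm i)
            simp only [Function.comp_apply, Equiv.apply_symm_apply, hi] at h6
            exact hout s hs _ h6
        subst hst
        simp only [Prod.mk.injEq, true_and]
        exact Equiv.ext fun i => hinj _ (hFdet s) (congrFun he i)

/-- The minor as an integral form in the new row. -/
theorem exists_det_eq_form {f : Fin l → Option ι}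
    (hf : ∃ i, f i = none) (hinj : Function.Injective f) :
    ∃ a : Fin l → ℤ, ∀ x : Fin l → ℂ,
      ((extRows Z x).submatrix f id).det = ∑ j, (a j : ℂ) * x j := by
  obtain ⟨i₀, hi₀⟩ := hf
  let M₁ : Matrix (Fin l) (Fin l) ℤ := Matrix.of fun i j => (f i).elim 0 fun k => Z k j
  refine ⟨fun j => M₁.adjugate j i₀, fun x => ?_⟩
  have e : (extRows Z x).submatrix f id = (M₁.map (Int.castRingHom ℂ)).updateRow i₀ x := by
    ext i j
    rcases eq_or_ne i i₀ with rfl | hne
    · simp [hi₀, extRows_none]
    · rw [Matrix.updateRow_ne hne, Matrix.submatrix_apply]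
      obtain ⟨k, hk⟩ := Option.ne_none_iff_exists'.1 fun h => hne (hinj (h.trans hi₀.symm))
      simp [M₁, hk, extRows_some]
  rw [e, det_updateRow_eq_sum, ← RingHom.mapMatrix_apply, ← RingHom.map_adjugate]
  rfl

/-- The average of the adjugate form over conjugate rows is at least the rank. -/
theorem card_mul_le_adjugate_form (h : (Zᵀ * Z).det ≠ 0)
    (hdel : 2 ≤ l → ∀ (θ : ι) (y : Fin l → ℂ), (∀ η, η ≠ θ → ∑ j, (Z η j : ℂ) * y j = 0) →
      ∑ j, (Z θ j : ℂ) * y j = 0)
    {κ : Type*} (K : Finset κ) (x : κ → Fin l → ℂ) {k₀ : κ} (hx₀ : x k₀ ≠ 0)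
    (hint : ∀ a : Fin l → ℤ, ∑ j, (a j : ℂ) * x k₀ j ≠ 0 →
      (K.card : ℝ) ≤ ∑ k ∈ K, Complex.normSq (∑ j, (a j : ℂ) * x k j)) :
    ((K.card * l : ℕ) : ℝ) ≤
      ∑ k ∈ K, (∑ i, ∑ j, x k i * ((Zᵀ * Z).adjugate i j : ℂ) * conj (x k j)).re := by
  classical
  set S := univ.filter (fun f : Fin l → Option ι => (∃ i, f i = none) ∧
    ((extRows Z (x k₀)).submatrix f id).det ≠ 0) with hS
  have hstep : ∀ f ∈ S, (K.card : ℝ) ≤
      ∑ k ∈ K, Complex.normSq ((extRows Z (x k)).submatrix f id).det := by
    intro f hf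
    obtain ⟨hf1, hf2⟩ := (mem_filter.1 hf).2
    obtain ⟨a, ha⟩ := exists_det_eq_form Z hf1 fun i j hij => by
      by_contra hne
      exact hf2 (Matrix.det_zero_of_row_eq hne (by funext k; simp [hij]))
    simp only [ha] at hf2 ⊢
    exact hint a hf2
  have h1 : (S.card : ℝ) * K.card ≤
      ∑ k ∈ K, (l.factorial : ℝ) *
        (∑ i, ∑ j, x k i * ((Zᵀ * Z).adjugate i j : ℂ) * conj (x k j)).re := by
    calc (S.card : ℝ) * K.card = ∑ f ∈ S, (K.card : ℝ) := by rw [Finset.sum_const, nsmul_eq_mul]
      _ ≤ ∑ f ∈ S, ∑ k ∈ K, Complex.normSq ((extRows Z (x k)).submatrix f id).det :=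
          Finset.sum_le_sum hstep
      _ = ∑ k ∈ K, ∑ f ∈ S, Complex.normSq ((extRows Z (x k)).submatrix f id).det := Finset.sum_comm
      _ ≤ _ := by
        refine Finset.sum_le_sum fun k _ => ?_
        have h2 := congrArg Complex.re (sum_normSq_det_eq Z h (x k))
        rw [Complex.re_sum, Complex.mul_re, Complex.natCast_re, Complex.natCast_im, zero_mul,
          sub_zero] at h2
        simp only [Complex.ofReal_re] at h2
        rw [← h2]
        exact Finset.sum_le_sum_of_subset_of_nonneg
          (fun f hf => mem_filter.2 ⟨mem_univ _, (mem_filter.1 hf).2.1⟩)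
          fun f _ _ => Complex.normSq_nonneg _
  rw [← Finset.mul_sum] at h1
  refine le_of_mul_le_mul_left (le_trans ?_ h1) (Nat.cast_pos.2 l.factorial_pos)
  have h3 : ((l * l.factorial : ℕ) : ℝ) ≤ S.card := Nat.cast_le.2 (card_minors_ge Z h hdel hx₀)
  push_cast at h3 ⊢
  calc (l.factorial : ℝ) * (K.card * l) = (l * l.factorial) * K.card := by ring
    _ ≤ _ := mul_le_mul_of_nonneg_right h3 (Nat.cast_nonneg _)

end Minors

/-- An integral matrix of rank one modulo a prime. -/
theorem pow_dvd_det_of_minors {l : ℕ} {q : ℕ} (hq : q.Prime) (A : Matrix (Fin l) (Fin l) ℤ)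
    (hA : ∀ i j k m, (q : ℤ) ∣ A i j * A k m - A i m * A k j) : (q : ℤ) ^ (l - 1) ∣ A.det := by
  have hqi : Prime (q : ℤ) := Nat.prime_iff_prime_int.1 hq
  rcases Nat.eq_zero_or_pos l with rfl | hl
  · simp
  obtain ⟨i₀, c, hc0, hc⟩ : ∃ (i₀ : Fin l) (c : Fin l → ℤ), c i₀ = 0 ∧
      ∀ i, i ≠ i₀ → ∀ j, (q : ℤ) ∣ A i j - c i * A i₀ j := by
    by_cases hex : ∃ i₀ j₀, ¬ (q : ℤ) ∣ A i₀ j₀
    · obtain ⟨i₀, j₀, h0⟩ := hex
      obtain ⟨a, b, hab⟩ := (hqi.coprime_iff_not_dvd.2 h0 : IsCoprime (q : ℤ) (A i₀ j₀))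
      refine ⟨i₀, fun i => if i = i₀ then 0 else b * A i j₀, if_pos rfl, fun i hi j => ?_⟩
      dsimp only
      rw [if_neg hi]
      have h1 : A i j - b * A i j₀ * A i₀ j =
          (q : ℤ) * (a * A i j) + b * (A i j * A i₀ j₀ - A i j₀ * A i₀ j) := by
        linear_combination -(A i j) * hab
      rw [h1]
      exact (dvd_mul_right _ _).add ((hA i j i₀ j₀).mul_left b)
    · push Not at hex
      exact ⟨⟨0, hl⟩, fun _ => 0, rfl, fun i _ j => by simpa using hex i j⟩
  choose! R hR using hc
  let B' : Matrix (Fin l) (Fin l) ℤ :=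
    Matrix.of fun i j => if i = i₀ then A i₀ j else A i j - c i * A i₀ j
  have hdet : A.det = B'.det := by
    refine Matrix.det_eq_of_forall_row_eq_smul_add_const c i₀ hc0 fun i j => ?_
    simp only [B', Matrix.of_apply, if_pos]
    split_ifs with hi
    · subst hi; rw [hc0]; ring
    · ring
  let v : Fin l → ℤ := fun i => if i = i₀ then 1 else (q : ℤ)
  let R' : Matrix (Fin l) (Fin l) ℤ := Matrix.of fun i j => if i = i₀ then A i₀ j else R i j
  have hB : B' = Matrix.of fun i j => v i * R' i j := by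
    ext i j
    simp only [B', v, R', Matrix.of_apply]
    split_ifs with hi
    · rw [one_mul]
    · exact hR i hi j
  rw [hdet, hB, Matrix.det_mul_column]
  refine Dvd.dvd.mul_right ?_ _
  rw [← Finset.mul_prod_erase _ _ (Finset.mem_univ i₀)]
  simp only [v, if_pos]
  rw [one_mul, Finset.prod_congr rfl fun i hi => if_neg (Finset.ne_of_mem_erase hi),
    Finset.prod_const, Finset.card_erase_of_mem (Finset.mem_univ i₀), Finset.card_univ,
    Fintype.card_fin]

/-- If the rows are congruent to one row modulo `q` and `A C = q`, then `det C` is at most `q`. -/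
theorem det_le_of_mul_eq {l : ℕ} {q : ℕ} (hq : q = 1 ∨ q.Prime) {A C : Matrix (Fin l) (Fin l) ℤ}
    (hl : 0 < l) (hA : ∀ i j k m, (q : ℤ) ∣ A i j * A k m - A i m * A k j)
    (hAC : A * C = (q : ℤ) • (1 : Matrix (Fin l) (Fin l) ℤ)) : C.det ≤ q := by
  have h := congrArg Matrix.det hAC
  rw [Matrix.det_mul, Matrix.det_smul, Matrix.det_one, mul_one, Fintype.card_fin] at h
  rcases hq with rfl | hq
  · simp only [Nat.cast_one, one_pow] at h ⊢
    exact Int.le_of_dvd one_pos ⟨A.det, by rw [← h, mul_comm]⟩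
  obtain ⟨a, ha⟩ := pow_dvd_det_of_minors hq A hA
  have hq0 : (q : ℤ) ^ (l - 1) ≠ 0 := pow_ne_zero _ (Int.natCast_ne_zero.2 hq.ne_zero)
  have h1 : a * C.det = (q : ℤ) := by
    refine mul_left_cancel₀ hq0 ?_
    rw [← mul_assoc, ← ha, h, ← pow_succ, Nat.sub_add_cancel hl]
  exact Int.le_of_dvd (by exact_mod_cast hq.pos) ⟨a, by rw [← h1, mul_comm]⟩

end CfsgLib.BlockOrth
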