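/-
Block parts of induced characters, and restrictions of characters off the induced block.
-/
import Cfsg.Agent.Lib.BlockOrth.Induced
import Cfsg.Agent.Lib.Chars.Induction
import Cfsg.Agent.Lib.BlockOrth.BrauerFeit

set_option autoImplicit false
set_option linter.style.haveILetI false
set_option linter.unusedSectionVars false

namespace CfsgLib.BlockOrth

open Cfsg CfsgLib.Chars CfsgLib.Blocks Finset
open scoped ComplexConjugate

universe u

variable {G : Type u} [Group G] [Fintype G] {M : Ideal AlgInt} [M.IsPrime]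
  (H : Subgroup G) [Fintype H] {p : ℕ} [hp : Fact p.Prime]

theorem memLocalIdeal_restrict_of_notMem (hpM : (p : AlgInt) ∈ M) {b : Set (IrrCharacter H)}
    {B : Set (IrrCharacter G)} (hind : IsInducedBlock M H b B) {χ : IrrCharacter G} (hχ : χ ∉ B)
    {ξ : IrrCharacter H} (hξ : ξ ∈ b) :
    MemLocalIdeal M (pInner p (fun x : H => (χ : G → ℂ) x) (ξ : H → ℂ) / (ξ : H → ℂ) 1) := by
  classical
  set a : G → ℂ := fun g => pRegularPart p (χ : G → ℂ) g⁻¹ with ha
  have hloc : IsLocClassFun M a := isLocClassFun_regular (isClassFunction_irr χ) (irr_mem_loc χ)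
  obtain ⟨ψ, hψ⟩ := Blocks.IsPBlock.nonempty hind.2.1
  have h3 := omega_restrict_sub_mem H (fun g => hind.2.2 ξ hξ ψ hψ g) hloc
  have hz : invCompl G p * omega (ψ : G → ℂ) a = 0 := by
    rw [← pInner_div_eq_omega, pInt_spec, pInt_symm,
      pInt_eq_zero hpM hind.2.1 hψ hχ]
    simp
  have hne : invCompl G p ≠ 0 := fun h => not_memLocalIdeal_invCompl (G := G) hpM
    (h ▸ MemLocalIdeal.zero')
  rw [(mul_eq_zero.mp hz).resolve_left hne, sub_zero] at h3
  rw [pInner_div_eq_omega]
  simp only [pRegularPart_restrict, InvMemClass.coe_inv]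
  exact MemLocalIdeal.mul_left' (invCompl_mem_loc hpM) h3

open scoped Classical in
/-- The degree of the block part of an induced character is the induced degree times a number
congruent to `1` on the induced block and to `0` elsewhere. -/
theorem memLocalIdeal_blockPart_indFun {b : Set (IrrCharacter H)} {B₀ B : Set (IrrCharacter G)}
    (hind : IsInducedBlock M H b B₀) (hB : IsPBlock M B) {ξ : IrrCharacter H} (hξ : ξ ∈ b) :
    MemLocalIdeal M (blockPart B (indFun H (ξ : H → ℂ)) 1 / indFun H (ξ : H → ℂ) 1 -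
      if B = B₀ then 1 else 0) := by
  obtain ⟨ψ, hψ⟩ := Blocks.IsPBlock.nonempty hind.2.1
  have h := omega_restrict_sub_mem H (fun g => hind.2.2 ξ hξ ψ hψ g) (isLocClassFun_blockCoeff hB)
  rw [omega_blockCoeff] at h
  have hiff : ψ ∈ B ↔ B = B₀ :=
    ⟨fun hm => Blocks.IsPBlock.eq_of_mem hB hind.2.1 hm hψ, fun e => e ▸ hψ⟩
  simp only [hiff] at h
  convert h using 2
  have hne : ((Nat.card G : ℂ)) ≠ 0 := Nat.cast_ne_zero.2 Nat.card_pos.ne'
  have hneH : ((Nat.card H : ℂ)) ≠ 0 := Nat.cast_ne_zero.2 Nat.card_pos.ne'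
  have hi : (H.index : ℂ) ≠ 0 := Nat.cast_ne_zero.2 Subgroup.index_ne_zero_of_finite
  have hcl : IsClassFunction G (fun g => conj (blockCoeff B g)) :=
    fun g k => congrArg conj (isClassFunction_blockCoeff B g k)
  have hf := inner_indFun H (ξ : H → ℂ) hcl
  simp only [inner_def, Complex.conj_conj] at hf
  rw [blockPart_eq_sum B (isClassFunction_indFun H _), indFun_one_apply, omega]
  simp only [mul_one]
  have hsum : ∑ g, blockCoeff B g * indFun H (ξ : H → ℂ) g =
      (H.index : ℂ) * ∑ h : H, blockCoeff B h * (ξ : H → ℂ) h := by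
    rw [← H.index_mul_card, Nat.cast_mul] at hf
    have e1 : ∑ g, blockCoeff B g * indFun H (ξ : H → ℂ) g =
        ∑ g, indFun H (ξ : H → ℂ) g * blockCoeff B g := Finset.sum_congr rfl fun g _ => mul_comm _ _
    have e2 : ∑ h : H, blockCoeff B h * (ξ : H → ℂ) h =
        ∑ h : H, (ξ : H → ℂ) h * blockCoeff B h := Finset.sum_congr rfl fun g _ => mul_comm _ _
    rw [e1, e2]
    field_simp at hf ⊢
    linear_combination hf
  rw [hsum, mul_div_mul_left _ _ hi]

/-- A block part of a character has natural degree. -/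
theorem exists_nat_blockPart (B : Set (IrrCharacter G)) {θ : G → ℂ} (hθ : IsCharacter G θ) :
    ∃ n : ℕ, blockPart B θ 1 = (n : ℂ) := by
  classical
  haveI := irrFintype G
  choose m hm using fun χ : IrrCharacter G => inner_irr_right_nat hθ χ
  refine ⟨∑ χ ∈ univ.filter (· ∈ B), m χ * charDegree (χ : G → ℂ), ?_⟩
  rw [blockPart]
  simp only [sum_mem_block, Nat.cast_sum, Nat.cast_mul, ← hm, ← irr_apply_one]
  convert rfl

/-- Valuations of the degrees of the block parts of an induced character. -/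
theorem blockPart_indFun_valuation (hpM : (p : AlgInt) ∈ M) {b : Set (IrrCharacter H)}
    {B₀ : Set (IrrCharacter G)} (hind : IsInducedBlock M H b B₀) {ξ : IrrCharacter H} (hξ : ξ ∈ b) :
    (∃ n : ℕ, blockPart B₀ (indFun H (ξ : H → ℂ)) 1 = (n : ℂ) ∧ n ≠ 0 ∧
        n.factorization p = (charDegree (indFun H (ξ : H → ℂ))).factorization p) ∧
      ∀ B : Set (IrrCharacter G), IsPBlock M B → B ≠ B₀ →
        ∃ n : ℕ, blockPart B (indFun H (ξ : H → ℂ)) 1 = (n : ℂ) ∧
          (n = 0 ∨ (charDegree (indFun H (ξ : H → ℂ))).factorization p < n.factorization p) := by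
  classical
  have hchar := isCharacter_indFun H (isCharacter_of_irr ξ.2)
  have hd1 : indFun H (ξ : H → ℂ) 1 = ((H.index * charDegree (ξ : H → ℂ) : ℕ) : ℂ) := by
    rw [indFun_one_apply, irr_apply_one]; push_cast; rfl
  have hdeg : charDegree (indFun H (ξ : H → ℂ)) = H.index * charDegree (ξ : H → ℂ) := by
    rw [charDegree, hd1, Complex.natCast_re, Nat.floor_natCast]
  set d := H.index * charDegree (ξ : H → ℂ) with hdd
  have hd0 : d ≠ 0 := mul_ne_zero Subgroup.index_ne_zero_of_finite (irr_charDegree_ne_zero ξ)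
  rw [hdeg]
  have key : ∀ B : Set (IrrCharacter G), IsPBlock M B → ∃ n : ℕ,
      blockPart B (indFun H (ξ : H → ℂ)) 1 = (n : ℂ) ∧
        MemLocalIdeal M (((n : ℤ) : ℂ) / (d : ℂ) - if B = B₀ then 1 else 0) := fun B hB => by
    obtain ⟨n, hn⟩ := exists_nat_blockPart B hchar
    refine ⟨n, hn, ?_⟩
    have := memLocalIdeal_blockPart_indFun H hind hB hξ
    rw [hn, hd1] at this
    simpa using this
  constructor
  · obtain ⟨n, hn, hc⟩ := key B₀ hind.2.1
    rw [if_pos rfl] at hc
    have hu : ¬ MemLocalIdeal M (((n : ℤ) : ℂ) / (d : ℂ)) := fun h => not_memLocalIdeal_one (M := M)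
      (by simpa using MemLocalIdeal.sub' h hc)
    have hloc : ((n : ℤ) : ℂ) / (d : ℂ) ∈ loc M := by
      have := add_mem (MemLocalIdeal.mem_loc hc) (one_mem (loc M))
      simpa using this
    have h1 : p ^ d.factorization p ∣ n := by exact_mod_cast int_div_mem_loc hpM hd0 hloc
    have h2 : ¬ p ^ (d.factorization p + 1) ∣ n := fun h =>
      hu ((int_div_memLocalIdeal_iff hpM hd0).2 (by exact_mod_cast h))
    have hn0 : n ≠ 0 := fun h => h2 (h ▸ dvd_zero _)
    refine ⟨n, hn, hn0, ?_⟩
    rw [hp.out.pow_dvd_iff_le_factorization hn0] at h1 h2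
    omega
  · intro B hB hne
    obtain ⟨n, hn, hc⟩ := key B hB
    rw [if_neg hne, sub_zero, int_div_memLocalIdeal_iff hpM hd0] at hc
    refine ⟨n, hn, ?_⟩
    rcases Nat.eq_zero_or_pos n with h | h
    · exact Or.inl h
    · refine Or.inr ?_
      have h1 : p ^ (d.factorization p + 1) ∣ n := by exact_mod_cast hc
      rw [hp.out.pow_dvd_iff_le_factorization h.ne'] at h1
      omega

end CfsgLib.BlockOrth
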