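/-
Integral factorisation of a symmetric multiple of a projection, and reduction in rank two.
-/
import Mathlib

set_option autoImplicit false
set_option linter.style.haveILetI false
set_option linter.unusedSectionVars false

namespace CfsgLib.BlockOrth

open Matrix Module

variable {ι : Type*} [Fintype ι] [DecidableEq ι]

/-- `D = N A Nᵀ` with `A = U D Uᵀ`, `U` a left inverse of `N`, and `A (Nᵀ N) = P`. -/
structure Factor (D : Matrix ι ι ℤ) (P : ℤ) (r : ℕ) where
  N : Matrix ι (Fin r) ℤ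
  U : Matrix (Fin r) ι ℤ
  unit : U * N = 1
  eq : D = N * (U * D * Uᵀ) * Nᵀ
  inv : (U * D * Uᵀ) * (Nᵀ * N) = P • (1 : Matrix (Fin r) (Fin r) ℤ)

namespace Factor

variable {D : Matrix ι ι ℤ} {P : ℤ} {r : ℕ}

/-- The middle matrix. -/
def A (F : Factor D P r) : Matrix (Fin r) (Fin r) ℤ := F.U * D * F.Uᵀ

/-- The Gram matrix. -/
def C (F : Factor D P r) : Matrix (Fin r) (Fin r) ℤ := F.Nᵀ * F.N

theorem eq' (F : Factor D P r) : D = F.N * F.A * F.Nᵀ := F.eq

theorem inv' (F : Factor D P r) : F.A * F.C = P • (1 : Matrix (Fin r) (Fin r) ℤ) := F.inv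

theorem transpose_C (F : Factor D P r) : F.Cᵀ = F.C := by
  simp [C, Matrix.transpose_mul]

theorem trace_eq (F : Factor D P r) : D.trace = P * r := by
  conv_lhs => rw [F.eq']
  rw [Matrix.trace_mul_comm, ← Matrix.mul_assoc, Matrix.trace_mul_comm,
    show F.A * (F.Nᵀ * F.N) = F.A * F.C from rfl, F.inv', Matrix.trace_smul, Matrix.trace_one,
    Fintype.card_fin, smul_eq_mul]

theorem C_apply (F : Factor D P r) (i j : Fin r) : F.C i j = ∑ θ, F.N θ i * F.N θ j := by
  simp [C, Matrix.mul_apply]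

theorem C_diag_pos (F : Factor D P r) (i : Fin r) : 0 < F.C i i := by
  rw [C_apply]
  refine lt_of_le_of_ne (Finset.sum_nonneg fun θ _ => mul_self_nonneg _) fun h => ?_
  have h0 := (Finset.sum_eq_zero_iff_of_nonneg fun θ _ => mul_self_nonneg _).1 h.symm
  have h1 := congrFun (congrFun F.unit i) i
  rw [Matrix.mul_apply, Matrix.one_apply_eq] at h1
  rw [Finset.sum_eq_zero fun θ hθ => by rw [mul_self_eq_zero.1 (h0 θ hθ), mul_zero]] at h1
  exact zero_ne_one h1

/-- Change of basis. -/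
def change (F : Factor D P r) (T T' : Matrix (Fin r) (Fin r) ℤ) (h : T' * T = 1) (h' : T * T' = 1) :
    Factor D P r where
  N := F.N * T
  U := T' * F.U
  unit := by
    rw [Matrix.mul_assoc, ← Matrix.mul_assoc F.U, F.unit, Matrix.one_mul, h]
  eq := by
    have e : (F.N * T) * (T' * F.U * D * (T' * F.U)ᵀ) * (F.N * T)ᵀ =
        F.N * (T * T') * (F.U * D * F.Uᵀ) * (T * T')ᵀ * F.Nᵀ := by
      simp only [Matrix.transpose_mul, Matrix.mul_assoc]
    rw [e, h', Matrix.transpose_one, Matrix.mul_one, Matrix.mul_one]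
    exact F.eq
  inv := by
    have e : (T' * F.U * D * (T' * F.U)ᵀ) * ((F.N * T)ᵀ * (F.N * T)) =
        T' * (F.U * D * F.Uᵀ) * (T * T')ᵀ * (F.Nᵀ * F.N) * T := by
      simp only [Matrix.transpose_mul, Matrix.mul_assoc]
    rw [e, h', Matrix.transpose_one, Matrix.mul_one, Matrix.mul_assoc T', F.inv, Matrix.mul_smul,
      Matrix.smul_mul, Matrix.mul_one, h]

theorem change_C (F : Factor D P r) (T T' : Matrix (Fin r) (Fin r) ℤ) (h : T' * T = 1)
    (h' : T * T' = 1) : (F.change T T' h h').C = Tᵀ * F.C * T := by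
  simp [C, change, Matrix.transpose_mul, Matrix.mul_assoc]

end Factor

theorem exists_factor (D : Matrix ι ι ℤ) (hs : Dᵀ = D) {P : ℤ} (hD : D * D = P • D) :
    ∃ r, Nonempty (Factor D P r) := by
  classical
  set L : Submodule ℤ (ι → ℤ) := Submodule.span ℤ (Set.range fun θ => D θ) with hL
  obtain ⟨r, bL⟩ := Submodule.basisOfPid (Pi.basisFun ℤ ι) L
  have hmem : ∀ i, ∃ u : ι → ℤ, ∑ θ, u θ • D θ = (bL i : ι → ℤ) := fun i =>
    (Submodule.mem_span_range_iff_exists_fun ℤ).1 (bL i).2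
  choose u hu using hmem
  set U : Matrix (Fin r) ι ℤ := Matrix.of u with hU
  set R : Matrix (Fin r) ι ℤ := Matrix.of fun i => (bL i : ι → ℤ) with hR
  set N : Matrix ι (Fin r) ℤ :=
    Matrix.of fun θ i => bL.repr ⟨D θ, Submodule.subset_span ⟨θ, rfl⟩⟩ i with hN
  have hRU : R = U * D := by
    ext i j
    rw [hR, Matrix.of_apply, ← hu i, Finset.sum_apply, Matrix.mul_apply]
    simp [hU]
  have hDNR : D = N * R := by
    ext θ j
    have h := congrArg (fun v : L => (v : ι → ℤ) j)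
      (bL.sum_repr ⟨D θ, Submodule.subset_span ⟨θ, rfl⟩⟩)
    simp only [Submodule.coe_sum, Submodule.coe_smul, Finset.sum_apply, Pi.smul_apply,
      smul_eq_mul] at h
    rw [Matrix.mul_apply, ← h]
    simp [hN, hR]
  have hunit : U * N = 1 := by
    ext i j
    have e : (bL i) = ∑ θ, u i θ • (⟨D θ, Submodule.subset_span ⟨θ, rfl⟩⟩ : L) := by
      apply Subtype.ext
      simp only [Submodule.coe_sum, Submodule.coe_smul]
      exact (hu i).symm
    have h := congrArg (fun v : L => bL.repr v j) e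
    simp only [Basis.repr_self, map_sum, map_smul, Finsupp.finsetSum_apply, Finsupp.smul_apply,
      smul_eq_mul] at h
    rw [Matrix.mul_apply, Matrix.one_apply]
    rw [Finsupp.single_apply] at h
    simpa [hU, hN] using h.symm
  set A := U * D * Uᵀ with hA
  have hRA : R = A * Nᵀ := by
    have h1 : D = Rᵀ * Nᵀ := by
      conv_lhs => rw [← hs, hDNR, Matrix.transpose_mul]
    conv_lhs => rw [hRU, h1]
    rw [hRU, Matrix.transpose_mul, hs, hA, ← Matrix.mul_assoc, ← Matrix.mul_assoc]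
  have heq : D = N * A * Nᵀ := by
    conv_lhs => rw [hDNR, hRA, ← Matrix.mul_assoc]
  refine ⟨r, ⟨⟨N, U, hunit, heq, ?_⟩⟩⟩
  rw [← hA]
  -- the rows of `R` are independent
  have hcancel : ∀ X : Matrix (Fin r) (Fin r) ℤ, X * A = 0 → X = 0 := by
    intro X hX
    have hXR : X * R = 0 := by rw [hRA, ← Matrix.mul_assoc, hX, Matrix.zero_mul]
    ext i k
    have hzero : ∑ j, X i j • bL j = 0 := by
      apply Subtype.ext
      funext t
      have := congrFun (congrFun hXR i) t
      rw [Matrix.mul_apply] at this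
      simpa [hR] using this
    exact Fintype.linearIndependent_iff.1 bL.linearIndependent _ hzero k
  have hACA : A * (Nᵀ * N) * A = P • A := by
    have h := congrArg (fun X => U * X * Uᵀ) hD
    simp only [Matrix.mul_smul, Matrix.smul_mul] at h
    rw [← hA] at h
    rw [← h]
    conv_rhs => rw [heq]
    have hunit' : Nᵀ * Uᵀ = 1 := by rw [← Matrix.transpose_mul, hunit, Matrix.transpose_one]
    simp only [← Matrix.mul_assoc]
    rw [hunit, Matrix.one_mul]
    simp only [Matrix.mul_assoc]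
    rw [hunit', Matrix.mul_one]
  refine sub_eq_zero.1 (hcancel _ ?_)
  rw [Matrix.sub_mul, hACA, Matrix.smul_mul, Matrix.one_mul, sub_self]

/-- A reduced factorisation in rank two. -/
theorem Factor.exists_reduced {D : Matrix ι ι ℤ} {P : ℤ} (F : Factor D P 2) :
    ∃ F' : Factor D P 2, -F'.C 0 0 ≤ 2 * F'.C 0 1 ∧ F'.C 0 1 ≤ 0 ∧ F'.C 0 0 ≤ F'.C 1 1 := by
  classical
  have hex : ∃ n : ℕ, ∃ F : Factor D P 2, (F.C 0 0 + F.C 1 1).toNat = n := ⟨_, F, rfl⟩
  obtain ⟨F₀, hF₀⟩ := Nat.find_spec hex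
  have hmin : ∀ F' : Factor D P 2, F₀.C 0 0 + F₀.C 1 1 ≤ F'.C 0 0 + F'.C 1 1 := fun F' => by
    have h := Nat.find_min' hex ⟨F', rfl⟩
    rw [← hF₀] at h
    have := F'.C_diag_pos 0
    have := F'.C_diag_pos 1
    have := F₀.C_diag_pos 0
    have := F₀.C_diag_pos 1
    omega
  -- order the diagonal, preserving the sum
  obtain ⟨F₁, hsum, hle⟩ : ∃ F₁ : Factor D P 2,
      F₁.C 0 0 + F₁.C 1 1 = F₀.C 0 0 + F₀.C 1 1 ∧ F₁.C 0 0 ≤ F₁.C 1 1 := by
    rcases le_total (F₀.C 0 0) (F₀.C 1 1) with h | h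
    · exact ⟨F₀, rfl, h⟩
    · refine ⟨F₀.change !![0, 1; 1, 0] !![0, 1; 1, 0] (by decide) (by decide), ?_, ?_⟩ <;>
        · rw [Factor.change_C]
          simp [Matrix.mul_apply, Fin.sum_univ_two]
          omega
  -- a shear cannot decrease the sum
  have hsym : F₁.C 1 0 = F₁.C 0 1 := by
    have h := congrFun (congrFun F₁.transpose_C 0) 1
    simpa using h
  have key : ∀ t : ℤ, 0 ≤ t * (2 * F₁.C 0 1 + t * F₁.C 0 0) := by
    intro t
    have h := hmin (F₁.change !![1, t; 0, 1] !![1, -t; 0, 1]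
      (by ext i j; fin_cases i <;> fin_cases j <;> simp [Matrix.mul_apply, Fin.sum_univ_two])
      (by ext i j; fin_cases i <;> fin_cases j <;> simp [Matrix.mul_apply, Fin.sum_univ_two]))
    rw [← hsum, Factor.change_C] at h
    simp [Matrix.mul_apply, Fin.sum_univ_two, hsym] at h
    linarith
  have k1 := key 1
  have k2 := key (-1)
  rcases le_total (F₁.C 0 1) 0 with hneg | hpos
  · exact ⟨F₁, by linarith, hneg, hle⟩
  · refine ⟨F₁.change !![1, 0; 0, -1] !![1, 0; 0, -1] (by decide) (by decide), ?_, ?_, ?_⟩ <;>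
      · rw [Factor.change_C]
        simp [Matrix.mul_apply, Fin.sum_univ_two]
        linarith

end CfsgLib.BlockOrth
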