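/-
Contributions of a major subsection and the heights of the characters.
-/
import Cfsg.Agent.Lib.BlockOrth.AverageDiag
import Cfsg.Agent.Lib.BlockOrth.DefectOrder
import Cfsg.Agent.Lib.BlockOrth.BrauerFeit
import Cfsg.Agent.Lib.Blocks.MinMax
import Cfsg.Agent.Lib.Blocks.InductionValues

set_option autoImplicit false
set_option linter.style.haveILetI false
set_option linter.unusedSectionVars false

namespace CfsgLib.BlockOrth

open Cfsg CfsgLib.Chars CfsgLib.Blocks Finset
open scoped ComplexConjugate IntermediateField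

universe u

variable {G : Type u} [Group G] [Fintype G] {M : Ideal AlgInt} [M.IsPrime] {p : ℕ}
  [hp : Fact p.Prime] {H : Subgroup G} [Fintype H] {x : G} [Fintype (IrrCharacter H)]
  {B : Set (IrrCharacter G)} {b : Set (IrrCharacter H)} [DecidablePred (· ∈ b)]

/-- The value of an induced class function is a sum of values of the function. -/
theorem isIntegral_indFun {F : H → ℂ} (hF : IsClassFunction H F) (hint : ∀ h, IsIntegral ℤ (F h))
    (g : G) : IsIntegral ℤ (indFun H F g) :=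
  indFun_mem_subring hF (integralClosure ℤ ℂ).toSubring hint g

theorem isIntegral_omega (χ : IrrCharacter G) {a : G → ℂ} (ha : IsClassFunction G a)
    (hint : ∀ g, IsIntegral ℤ (a g)) : IsIntegral ℤ (omega (χ : G → ℂ) a) := by
  haveI := Fintype.ofFinite (ConjClasses G)
  rw [omega_eq_sum_centralChar χ ha]
  refine IsIntegral.sum _ fun C _ => IsIntegral.mul ?_ ?_
  · exact hint _
  · exact Blocks.isIntegral_centralChar χ _

/-- The block part of `y ↦ ψ (x y)` on the `p`-section of `x`. -/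
noncomputable def secLift (p : ℕ) (b : Set (IrrCharacter H)) [DecidablePred (· ∈ b)] (x : G)
    (hx : x ∈ H) (ψ : IrrCharacter G) : H → ℂ :=
  fun h => pRegularPart p (fun y => conj (∑ θ ∈ univ.filter (· ∈ b),
    classInner (secFun H x (ψ : G → ℂ)) (θ : H → ℂ) * (θ : H → ℂ) y)) (⟨x, hx⟩⁻¹ * h)

theorem isIntegral_secLift (hH : ∀ c : G, c ∈ H ↔ c * x = x * c) (ψ : IrrCharacter G) (h : H) :
    IsIntegral ℤ (secLift p b x ((hH x).2 rfl) ψ h) := by
  classical
  rw [secLift, pRegularPart_apply]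
  split_ifs
  · exact isIntegral_zero
  refine map_isIntegral_int (starRingEnd ℂ) (IsIntegral.sum _ fun θ _ => ?_)
  obtain ⟨m, hm⟩ := inner_irr_right_nat (isCharacter_restrict H (isCharacter_of_irr ψ.2)) θ
  rw [inner_secFun_eq hH, hm]
  refine ((IsIntegral.of_pow (orderOf_pos x) (by
    rw [centralScalar_self_pow hH (pow_orderOf_eq_one x) θ]; exact isIntegral_one)).mul ?_).mul
    (char_isIntegral (isCharacter_of_irr θ.2) _)
  exact_mod_cast isIntegral_algebraMap (R := ℤ) (A := ℂ) (x := (m : ℤ))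

theorem isClassFunction_secLift (hH : ∀ c : G, c ∈ H ↔ c * x = x * c) (ψ : IrrCharacter G) :
    IsClassFunction H (secLift p b x ((hH x).2 rfl) ψ) := by
  intro g c
  have hz := Subgroup.mem_center_iff.1 (mem_center_of_self hH) c
  have e : (⟨x, (hH x).2 rfl⟩ : H)⁻¹ * (c * g * c⁻¹) =
      c * ((⟨x, (hH x).2 rfl⟩ : H)⁻¹ * g) * c⁻¹ := by
    rw [← mul_assoc, ← mul_assoc, ← mul_assoc]
    rw [show (⟨x, (hH x).2 rfl⟩ : H)⁻¹ * c = c * (⟨x, (hH x).2 rfl⟩ : H)⁻¹ from
      ((Commute.inv_right (show Commute c _ from hz)).eq).symm]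
  simp only [secLift, e]
  refine isClassFunction_pRegularPart (fun y k => ?_) _ c
  simp only [fun θ : IrrCharacter H => isClassFunction_irr θ y k]

/-- The contribution through the central character. -/
theorem contrib_eq_omega (hpM : (p : AlgInt) ∈ M) (hH : ∀ c : G, c ∈ H ↔ c * x = x * c)
    (hb : IsPBlock M b) (χ ψ : IrrCharacter G) :
    contrib p b x χ ψ = ((p ^ blockDefect p b : ℕ) : ℂ) * (Nat.card G : ℂ)⁻¹ * (χ : G → ℂ) 1 *
      omega (χ : G → ℂ) (indFun H (secLift p b x ((hH x).2 rfl) ψ)) := by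
  classical
  set F := secLift p b x ((hH x).2 rfl) ψ with hF
  set P : ℂ := ((p ^ blockDefect p b : ℕ) : ℂ) with hP
  have hfrob := inner_indFun H F (χ := fun g : G => conj ((χ : G → ℂ) g))
    fun g k => congrArg conj (isClassFunction_irr χ g k)
  simp only [inner_def, Complex.conj_conj] at hfrob
  have hsum : ∑ g, indFun H F g * (χ : G → ℂ) g =
      (Nat.card G : ℂ) * ((Nat.card H : ℂ)⁻¹ * ∑ h : H, F h * (χ : G → ℂ) h) := by
    rw [← hfrob, ← mul_assoc, mul_inv_cancel₀ (Nat.cast_ne_zero.2 Nat.card_pos.ne'), one_mul]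
  rw [omega, hsum, mul_assoc P, mul_assoc P, show ∀ a c d e : ℂ, a⁻¹ * c * (a * d / e) =
    a⁻¹ * a * (c / e) * d by intros; ring, inv_mul_cancel₀ (Nat.cast_ne_zero.2 Nat.card_pos.ne'),
    div_self (irr_degree_ne_zero χ.2), one_mul, one_mul]
  -- the right side is an inner product with the function on the section
  have hinner : (Nat.card H : ℂ)⁻¹ * ∑ h : H, F h * (χ : G → ℂ) h =
      classInner (secFun H x (χ : G → ℂ)) (pRegularPart p fun y => ∑ θ ∈ univ.filter (· ∈ b),
        classInner (secFun H x (ψ : G → ℂ)) (θ : H → ℂ) * (θ : H → ℂ) y) := by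
    rw [inner_def, ← Equiv.sum_comp (Equiv.mulLeft (⟨x, (hH x).2 rfl⟩ : H))
      (fun h => F h * (χ : G → ℂ) h)]
    congr 1
    refine Finset.sum_congr rfl fun y _ => ?_
    simp only [hF, secLift, Equiv.coe_mulLeft, inv_mul_cancel_left, secFun, Subgroup.coe_mul]
    rw [mul_comm, pRegularPart_apply, pRegularPart_apply]
    split_ifs <;> simp
  rw [hinner, classInner_pRegularPart_right]
  have hlin : (fun y => ∑ θ ∈ univ.filter (· ∈ b),
      classInner (secFun H x (ψ : G → ℂ)) (θ : H → ℂ) * (θ : H → ℂ) y) =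
      ∑ θ ∈ univ.filter (· ∈ b), classInner (secFun H x (ψ : G → ℂ)) (θ : H → ℂ) • (θ : H → ℂ) := by
    funext y
    rw [Finset.sum_apply]
    rfl
  rw [hlin, ← inner_conj (∑ θ ∈ univ.filter (· ∈ b), _ • (θ : H → ℂ)), Chars.inner_sum_left,
    map_sum, Finset.mul_sum, contrib, Finset.sum_comm]
  refine Finset.sum_congr rfl fun θ' hθ' => ?_
  rw [Chars.inner_smul_left, map_mul, inner_conj, inner_conj, mul_left_comm P, hP, ← sum_inner_mul_dInt hpM hb
    (isClassFunction_secFun hH (isClassFunction_irr χ)) (mem_filter.1 hθ').2, Finset.mul_sum]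
  refine Finset.sum_congr rfl fun θ _ => ?_
  rw [dInt_symm θ' θ]
  ring

/-- For a major subsection the scale is the `p`-part of the degree, relative to the block. -/
theorem contrib_major_eq (hpM : (p : AlgInt) ∈ M) (hH : ∀ c : G, c ∈ H ↔ c * x = x * c)
    (hb : IsPBlock M b) (hmaj : blockDefect p b = blockDefect p B) {χ : IrrCharacter G}
    (hχ : χ ∈ B) (ψ : IrrCharacter G) :
    contrib p b x χ ψ = ((p ^ blockHeight p B (χ : G → ℂ) : ℕ) : ℂ) *
      ((charDegree (χ : G → ℂ) / p ^ degVal p χ : ℕ) : ℂ) * invCompl G p *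
        omega (χ : G → ℂ) (indFun H (secLift p b x ((hH x).2 rfl) ψ)) := by
  rw [contrib_eq_omega hpM hH hb, hmaj]
  congr 1
  rw [← pow_mul_inv_card (G := G) (p := p), ← blockMin_add_blockDefect (p := p) ⟨χ, hχ⟩,
    irr_apply_one]
  conv_lhs => arg 2; rw [← Nat.ordProj_mul_ordCompl_eq_self (charDegree (χ : G → ℂ)) p]
  have hdeg : (charDegree (χ : G → ℂ)).factorization p = blockMin p B + blockHeight p B (χ : G → ℂ) := by
    have h1 := blockHeight_eq (p := p) (B := B) χ
    have h2 := blockMin_le (p := p) hχ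
    simp only [degVal] at h1 h2 ⊢
    omega
  rw [degVal, hdeg]
  push_cast
  rw [pow_add, pow_add]
  ring

theorem isLocClassFun_indLift (hH : ∀ c : G, c ∈ H ↔ c * x = x * c) (ψ : IrrCharacter G) :
    IsLocClassFun M (indFun H (secLift p b x ((hH x).2 rfl) ψ)) :=
  ⟨isClassFunction_indFun H _, fun g => isIntegral_mem_loc
    (isIntegral_indFun (isClassFunction_secLift hH ψ) (isIntegral_secLift hH ψ) g)⟩

/-- The contribution divided by `p ^ h`, `h` the height of the first character. -/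
theorem isIntegral_contrib_div (hpM : (p : AlgInt) ∈ M) (hH : ∀ c : G, c ∈ H ↔ c * x = x * c)
    (hb : IsPBlock M b) (hmaj : blockDefect p b = blockDefect p B) {χ : IrrCharacter G}
    (hχ : χ ∈ B) (ψ : IrrCharacter G) :
    IsIntegral ℤ (contrib p b x χ ψ / (p : ℂ) ^ blockHeight p B (χ : G → ℂ)) := by
  set h := blockHeight p B (χ : G → ℂ) with hh
  set m := Nat.card G / p ^ (Nat.card G).factorization p with hm
  have hp0 : ((p : ℂ) ^ h) ≠ 0 := pow_ne_zero _ (Nat.cast_ne_zero.2 hp.out.ne_zero)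
  have hm0 : (m : ℂ) ≠ 0 := Nat.cast_ne_zero.2 (Nat.ordCompl_pos p Nat.card_pos.ne').ne'
  obtain ⟨a, c, hac⟩ : ∃ a c : ℤ, a * (m : ℤ) + c * ((p ^ h : ℕ) : ℤ) = 1 := by
    have hcop : Nat.Coprime m (p ^ h) := Nat.Coprime.pow_right h
      ((Nat.Prime.coprime_iff_not_dvd hp.out).2 (Nat.not_dvd_ordCompl hp.out Nat.card_pos.ne')).symm
    exact Int.isCoprime_iff_gcd_eq_one.2 (by rw [Int.gcd_natCast_natCast]; exact hcop)
  have hy1 : IsIntegral ℤ ((m : ℂ) * (contrib p b x χ ψ / (p : ℂ) ^ h)) := by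
    rw [contrib_major_eq hpM hH hb hmaj hχ, ← hh, Nat.cast_pow, invCompl, ← hm,
      mul_assoc ((p : ℂ) ^ h), mul_assoc ((p : ℂ) ^ h), mul_div_cancel_left₀ _ hp0,
      show ∀ d w : ℂ, (m : ℂ) * (d * (m : ℂ)⁻¹ * w) = (m : ℂ) * (m : ℂ)⁻¹ * (d * w) by
        intros; ring, mul_inv_cancel₀ hm0, one_mul]
    refine IsIntegral.mul ?_ (isIntegral_omega χ (isClassFunction_indFun H _)
      (isIntegral_indFun (isClassFunction_secLift hH ψ) (isIntegral_secLift hH ψ)))
    exact_mod_cast isIntegral_algebraMap (R := ℤ) (A := ℂ)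
      (x := ((charDegree (χ : G → ℂ) / p ^ degVal p χ : ℕ) : ℤ))
  have e : contrib p b x χ ψ / (p : ℂ) ^ h =
      (a : ℂ) * ((m : ℂ) * (contrib p b x χ ψ / (p : ℂ) ^ h)) + (c : ℂ) * contrib p b x χ ψ := by
    have hac' : (a : ℂ) * (m : ℂ) + (c : ℂ) * (p : ℂ) ^ h = 1 := by exact_mod_cast hac
    field_simp
    linear_combination (-(contrib p b x χ ψ)) * hac'
  rw [e]
  have hi : ∀ n : ℤ, IsIntegral ℤ (n : ℂ) := fun n => isIntegral_algebraMap (R := ℤ) (A := ℂ) (x := n)
  exact ((hi a).mul hy1).add ((hi c).mul (isIntegral_contrib hH χ ψ))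

omit [Fintype (IrrCharacter H)] [DecidablePred (· ∈ b)] in
/-- A subsection `(z, b)` with a common defect group is major. -/
theorem blockDefect_eq_of_major (hpM : (p : AlgInt) ∈ M) (hB : IsPBlock M B) (hb : IsPBlock M b)
    {D : Subgroup G} (hD : IsDefectGroup p M B D) (hDH : D ≤ H)
    (hbD : IsDefectGroup p M b (D.subgroupOf H)) : blockDefect p b = blockDefect p B := by
  have h1 := card_defectGroup hpM hB hD
  have h2 := card_defectGroup hpM hb hbD
  rw [Nat.card_congr (Subgroup.subgroupOfEquivOfLe hDH).toEquiv, h1] at h2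
  exact (Nat.pow_right_injective hp.out.two_le h2).symm

omit [Fintype H] [Fintype (IrrCharacter H)] [DecidablePred (· ∈ b)] in
/-- The element of a subsection in a defect group is a `p`-element. -/
theorem exists_orderOf_of_mem_defectGroup {D : Subgroup G} (hD : IsDefectGroup p M B D) {z : G}
    (hz : z ∈ D) : ∃ k, orderOf z = p ^ k := by
  obtain ⟨k, hk⟩ := IsPGroup.iff_orderOf.1 (Blocks.IsDefectGroup.isPGroup hD) ⟨z, hz⟩
  exact ⟨k, by rw [← hk, Subgroup.orderOf_mk]⟩

variable (hpM : (p : AlgInt) ∈ M) (hH : ∀ c : G, c ∈ H ↔ c * x = x * c)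
  (hx : ∃ k, orderOf x = p ^ k) (hind : IsInducedBlock M H b B)
  (hmaj : blockDefect p b = blockDefect p B)

include hpM hH hx hind hmaj

theorem not_memLocalIdeal_omega_indLift {ψ χ : IrrCharacter G} (hψ : ψ ∈ B)
    (h0 : blockHeight p B (ψ : G → ℂ) = 0) (hχ : χ ∈ B) :
    ¬ MemLocalIdeal M (omega (χ : G → ℂ) (indFun H (secLift p b x ((hH x).2 rfl) ψ))) := by
  intro hmem
  have hm := MemLocalIdeal.add' hmem (omega_sub_mem
    (Blocks.IsPBlock.sameBlock hind.2.1 hψ hχ) (isLocClassFun_indLift (p := p) (b := b) hH ψ))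
  rw [add_sub_cancel] at hm
  refine not_memLocalIdeal_contrib hpM hH hx hind hψ hψ ((blockHeight_eq_zero_iff hψ).1 h0)
    ((blockHeight_eq_zero_iff hψ).1 h0) ?_
  rw [contrib_major_eq hpM hH hind.1 hmaj hψ, h0]
  exact MemLocalIdeal.mul_left' (mul_mem (mul_mem (natCast_mem_loc _) (natCast_mem_loc _))
    (invCompl_mem_loc hpM)) hm

/-- Against a character of height zero, a character of height `h` has contribution exactly
divisible by `p ^ h`. -/
theorem not_memLocalIdeal_contrib_div {χ ψ : IrrCharacter G} (hχ : χ ∈ B) (hψ : ψ ∈ B)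
    (h0 : blockHeight p B (ψ : G → ℂ) = 0) :
    ¬ MemLocalIdeal M (contrib p b x χ ψ / (p : ℂ) ^ blockHeight p B (χ : G → ℂ)) := by
  rw [contrib_major_eq hpM hH hind.1 hmaj hχ, Nat.cast_pow, mul_assoc ((p : ℂ) ^ _),
    mul_assoc ((p : ℂ) ^ _),
    mul_div_cancel_left₀ _ (pow_ne_zero _ (Nat.cast_ne_zero.2 hp.out.ne_zero))]
  intro hmem
  rcases MemLocalIdeal.mem_or_mem (mul_mem (natCast_mem_loc _) (invCompl_mem_loc hpM))
    (omega_mem_loc χ (isLocClassFun_indLift (p := p) (b := b) hH ψ)) hmem with h | h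
  · rcases MemLocalIdeal.mem_or_mem (natCast_mem_loc _) (invCompl_mem_loc hpM) h with h | h
    · exact Nat.not_dvd_ordCompl hp.out (irr_charDegree_ne_zero χ)
        ((memLocalIdeal_natCast_iff hp.out hpM _).1 h)
    · exact not_memLocalIdeal_invCompl hpM h
  · exact not_memLocalIdeal_omega_indLift hpM hH hx hind hmaj hψ h0 hχ h

theorem contrib_ne_zero_of_height_zero {χ ψ : IrrCharacter G} (hχ : χ ∈ B) (hψ : ψ ∈ B)
    (h0 : blockHeight p B (ψ : G → ℂ) = 0) : contrib p b x χ ψ ≠ 0 := fun h =>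
  not_memLocalIdeal_contrib_div hpM hH hx hind hmaj hχ hψ h0
    (by rw [h, zero_div]; exact MemLocalIdeal.zero')

/-- The diagonal of a character of positive height. -/
theorem memLocalIdeal_contrib_self_div {χ : IrrCharacter G} (hχ : χ ∈ B)
    (hpos : 0 < blockHeight p B (χ : G → ℂ)) :
    MemLocalIdeal M (contrib p b x χ χ / (p : ℂ) ^ blockHeight p B (χ : G → ℂ)) := by
  obtain ⟨ψ, hψ, h0⟩ := exists_blockHeight_eq_zero (p := p) hind.2.1
  set a := indFun H (secLift p b x ((hH x).2 rfl) χ) with ha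
  have haloc : IsLocClassFun M a := isLocClassFun_indLift (p := p) (b := b) hH χ
  set h := blockHeight p B (χ : G → ℂ) with hh
  have hp0 : ((p : ℂ) ^ h) ≠ 0 := pow_ne_zero _ (Nat.cast_ne_zero.2 hp.out.ne_zero)
  -- the conjugate entry is divisible by `p`
  have h1 : MemLocalIdeal M (contrib p b x ψ χ) := by
    have e : contrib p b x ψ χ = (p : ℂ) ^ h * conj (contrib p b x χ ψ / (p : ℂ) ^ h) := by
      rw [map_div₀, map_pow, map_natCast, conj_contrib hpM hH hind.1, mul_div_cancel₀ _ hp0]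
    rw [e]
    refine MemLocalIdeal.mul_right' ?_ (isIntegral_mem_loc (map_isIntegral_int (starRingEnd ℂ)
      (isIntegral_contrib_div hpM hH hind.1 hmaj hχ ψ)))
    obtain ⟨j, hj⟩ : ∃ j, h = j + 1 := ⟨h - 1, by omega⟩
    rw [hj, pow_succ']
    exact MemLocalIdeal.mul_right' (memLocalIdeal_prime hpM) (pow_mem (natCast_mem_loc p) j)
  rw [contrib_major_eq hpM hH hind.1 hmaj hψ, h0, pow_zero, Nat.cast_one, one_mul] at h1
  have h2 : MemLocalIdeal M (omega (ψ : G → ℂ) a) := by
    refine (MemLocalIdeal.mem_or_mem (mul_mem (natCast_mem_loc _) (invCompl_mem_loc hpM))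
      (omega_mem_loc ψ haloc) h1).resolve_left fun h3 => ?_
    rcases MemLocalIdeal.mem_or_mem (natCast_mem_loc _) (invCompl_mem_loc hpM) h3 with h3 | h3
    · exact Nat.not_dvd_ordCompl hp.out (irr_charDegree_ne_zero ψ)
        ((memLocalIdeal_natCast_iff hp.out hpM _).1 h3)
    · exact not_memLocalIdeal_invCompl hpM h3
  have h4 := MemLocalIdeal.add' h2
    (omega_sub_mem (Blocks.IsPBlock.sameBlock hind.2.1 hχ hψ) haloc)
  rw [add_sub_cancel] at h4
  rw [contrib_major_eq hpM hH hind.1 hmaj hχ, ← hh, ← ha, Nat.cast_pow, mul_assoc ((p : ℂ) ^ h),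
    mul_assoc ((p : ℂ) ^ h), mul_div_cancel_left₀ _ hp0]
  exact MemLocalIdeal.mul_left' (mul_mem (natCast_mem_loc _) (invCompl_mem_loc hpM)) h4

end CfsgLib.BlockOrth
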