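/-
Averaged contributions of a major subsection at the prime two.
-/
import Cfsg.Agent.Lib.BlockOrth.MajorSubsection

set_option autoImplicit false
set_option linter.style.haveILetI false
set_option linter.unusedSectionVars false

namespace CfsgLib.BlockOrth

open Cfsg CfsgLib.Chars CfsgLib.Blocks Finset
open scoped ComplexConjugate IntermediateField

universe u

variable {G : Type u} [Group G] [Fintype G] {M : Ideal AlgInt} [M.IsPrime]
  {H : Subgroup G} [Fintype H] {x : G} [Fintype (IrrCharacter H)]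
  {B : Set (IrrCharacter G)} {b : Set (IrrCharacter H)} [DecidablePred (· ∈ b)]

variable (hM : IsPModular 2 M) (hH : ∀ c : G, c ∈ H ↔ c * x = x * c) {n : ℕ}
  (hn : orderOf x = 2 ^ n) (hind : IsInducedBlock M H b B)
  (hmaj : blockDefect 2 b = blockDefect 2 B)

include hM hH hn hind hmaj

/-- An entry against a character of height zero. -/
theorem four_pow_height_le_avg_normSq {χ ψ : IrrCharacter G} (hχ : χ ∈ B) (hψ : ψ ∈ B)
    (h0 : blockHeight 2 B (ψ : G → ℂ) = 0) :
    ((4 ^ blockHeight 2 B (χ : G → ℂ) * (unitsBelow (2 ^ n)).card : ℕ) : ℝ) ≤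
      ∑ k ∈ unitsBelow (2 ^ n), ‖contrib 2 b (x ^ k) χ ψ‖ ^ 2 := by
  set h := blockHeight 2 B (χ : G → ℂ) with hh
  have hN : x ^ (2 ^ n) = 1 := by rw [← hn]; exact pow_orderOf_eq_one x
  have key := card_le_sum_conjugates_normSq (N := 2 ^ n)
    (y := contrib 2 b x χ ψ / (2 : ℂ) ^ h)
    (div_mem (contrib_mem_field (p := 2) (b := b) hH hN χ ψ) (pow_mem (ofNat_mem _ 2) _))
    (by simpa [hh] using isIntegral_contrib_div hM.2.2 hH hind.1 hmaj hχ ψ)
    (div_ne_zero (contrib_ne_zero_of_height_zero hM.2.2 hH ⟨n, hn⟩ hind hmaj hχ hψ h0)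
      (pow_ne_zero _ two_ne_zero))
    (fun k => contrib 2 b (x ^ k) χ ψ / (2 : ℂ) ^ h)
    (fun k hk σ hσ => by
      rw [map_div₀, map_pow, map_ofNat,
        contrib_galois hH hN (by rw [hn]; exact (mem_unitsBelow.1 hk).2) hσ χ ψ])
  simp only [norm_div, norm_pow, Complex.norm_ofNat, div_pow, ← Finset.sum_div] at key
  rw [le_div_iff₀ (by positivity), ← pow_mul, mul_comm h 2, pow_mul,
    show ((2 : ℝ) ^ 2) = 4 by norm_num] at key
  push_cast
  linarith

/-- The averaged diagonal of a character of positive height. -/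
theorem two_pow_succ_dvd_avgDiag {χ : IrrCharacter G} (hχ : χ ∈ B)
    (hpos : 0 < blockHeight 2 B (χ : G → ℂ)) :
    2 ^ (blockHeight 2 B (χ : G → ℂ) + 1) ∣ avgDiag n b x χ := by
  set h := blockHeight 2 B (χ : G → ℂ) with hh
  have hpM : (2 : AlgInt) ∈ M := by exact_mod_cast hM.2.2
  have hN : x ^ (2 ^ n) = 1 := by rw [← hn]; exact pow_orderOf_eq_one x
  obtain ⟨r, -, hr⟩ := contrib_self_eq_ofReal (p := 2) hM.2.2 hH hind.1 χ
  obtain ⟨t, ht, hcong⟩ := exists_int_average hpM
    (y := contrib 2 b x χ χ / (2 : ℂ) ^ h)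
    (div_mem (contrib_mem_field (p := 2) (b := b) hH hN χ χ) (pow_mem (ofNat_mem _ 2) _))
    (by simpa [hh] using isIntegral_contrib_div hM.2.2 hH hind.1 hmaj hχ χ)
    (by rw [map_div₀, hr, Complex.conj_ofReal, map_pow, map_ofNat])
    (fun k => contrib 2 b (x ^ k) χ χ / (2 : ℂ) ^ h)
    (fun k hk σ hσ => by
      rw [map_div₀, map_pow, map_ofNat,
        contrib_galois hH hN (by rw [hn]; exact (mem_unitsBelow.1 hk).2) hσ χ χ])
  have hmem : MemLocalIdeal M (contrib 2 b x χ χ / (2 : ℂ) ^ h) := by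
    simpa [hh] using memLocalIdeal_contrib_self_div hM.2.2 hH ⟨n, hn⟩ hind hmaj hχ hpos
  have ht2 : (2 : ℤ) ∣ t := by
    have h1 := MemLocalIdeal.sub' hmem hcong
    rw [sub_sub_cancel, show (t : ℂ) = (((t : AlgInt)) : ℂ) by norm_cast,
      memLocalIdeal_algInt_iff] at h1
    exact (intCast_mem_iff Nat.prime_two hM.2.2 t).1 h1
  rw [← Finset.sum_div, (avgDiag_spec hpM hH hn hind.1 χ).1, mul_div_assoc] at ht
  have h3 : (avgDiag n b x χ : ℤ) = t * 2 ^ h := by
    have h2 := mul_left_cancel₀ (Nat.cast_ne_zero.2 (card_unitsBelow_pos (2 ^ n)).ne') ht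
    rw [div_eq_iff (pow_ne_zero _ two_ne_zero)] at h2
    exact_mod_cast h2
  rw [← Int.natCast_dvd_natCast, h3, pow_succ', Nat.cast_mul, Nat.cast_pow]
  exact mul_dvd_mul ht2 (by simp)

variable [Fintype (IrrCharacter G)] [DecidablePred (· ∈ B)] [DecidableEq (IrrCharacter G)]

/-- The row of a character of height zero. -/
theorem sum_four_pow_height_le {χ : IrrCharacter G} (hχ : χ ∈ B)
    (h0 : blockHeight 2 B (χ : G → ℂ) = 0) :
    ∑ ψ ∈ (univ.filter (· ∈ B)).erase χ, 4 ^ blockHeight 2 B (ψ : G → ℂ) + avgDiag n b x χ ^ 2 ≤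
      2 ^ blockDefect 2 B * avgDiag n b x χ := by
  rw [← hmaj]
  refine sum_add_sq_avgDiag_le hM hH hn hind hχ _ fun ψ hψ _ => ?_
  refine (four_pow_height_le_avg_normSq hM hH hn hind hmaj hψ hχ h0).trans (le_of_eq ?_)
  refine Finset.sum_congr rfl fun k hk => ?_
  rw [← conj_contrib hM.2.2 (centralizer_pow_of_coprime hH (by
    rw [hn]; exact (mem_unitsBelow.1 hk).2)) hind.1 χ ψ, Complex.norm_conj]

/-- The row of any character contains an entry against a character of height zero. -/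
theorem avgDiag_pos_and_le {χ : IrrCharacter G} (hχ : χ ∈ B)
    (hpos : 0 < blockHeight 2 B (χ : G → ℂ)) :
    0 < avgDiag n b x χ ∧ avgDiag n b x χ < 2 ^ blockDefect 2 B := by
  obtain ⟨ψ, hψ, h0⟩ := exists_blockHeight_eq_zero (p := 2) hind.2.1
  have hne : ψ ≠ χ := fun h => by rw [h] at h0; omega
  have h := sum_add_sq_avgDiag_le hM hH hn hind hχ
    (fun φ => if φ = ψ then 4 ^ blockHeight 2 B (χ : G → ℂ) else 0) fun φ hφ _ => by
      by_cases he : φ = ψ
      · subst he
        rw [if_pos rfl]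
        exact four_pow_height_le_avg_normSq hM hH hn hind hmaj hχ hφ h0
      · rw [if_neg he, zero_mul, Nat.cast_zero]
        exact Finset.sum_nonneg fun _ _ => by positivity
  rw [Finset.sum_ite_eq', if_pos (Finset.mem_erase.2 ⟨hne, mem_filter.2 ⟨mem_univ _, hψ⟩⟩),
    hmaj] at h
  have h4 : 0 < 4 ^ blockHeight 2 B (χ : G → ℂ) := pow_pos (by norm_num) _
  constructor
  · by_contra h'
    rw [not_lt, Nat.le_zero] at h'
    rw [h'] at h
    simp at h
  · by_contra h'
    rw [not_lt] at h'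
    nlinarith

end CfsgLib.BlockOrth
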