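import Mathlib
import Cfsg.Agent.Lib.PGroups.Basic

set_option autoImplicit false

namespace CfsgLib.BlockOrth

open Subgroup
open scoped Pointwise commutatorElement

variable {G : Type*} [Group G] [Finite G] {p : ℕ} [Fact p.Prime]

omit [Fact p.Prime] in
theorem isMulCommutative_of_isCyclic_center_quotient (h : IsCyclic (G ⧸ center G)) :
    IsMulCommutative G :=
  isMulCommutative_of_isCyclic_quotient_center_self G

theorem index_center_ne_prime : (center G).index ≠ p := by
  intro h
  have hp : p.Prime := Fact.out
  have : Nat.card (G ⧸ center G) = p := h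
  have hc : IsCyclic (G ⧸ center G) := isCyclic_of_prime_card this
  have hcomm := isMulCommutative_of_isCyclic_quotient_center_self G
  have : center G = ⊤ := eq_top_iff.mpr fun x _ =>
    mem_center_iff.mpr fun y => hcomm.is_comm.comm y x
  rw [this, index_top] at h
  exact hp.ne_one h.symm

theorem index_center_sq_dvd_of_not_comm (hG : IsPGroup p G) (hne : center G ≠ ⊤) :
    p ^ 2 ∣ (center G).index := by
  obtain ⟨k, hk⟩ := IsPGroup.iff_card.mp (hG.to_quotient (center G))
  change (center G).index = p ^ k at hk
  rw [hk]
  refine pow_dvd_pow p ?_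
  by_contra hlt
  interval_cases k
  · exact hne (index_eq_one.mp (by simpa using hk))
  · exact index_center_ne_prime (p := p) (by simpa using hk)

theorem isMulCommutative_of_card_dvd_sq (h : Nat.card G ∣ p ^ 2) : IsMulCommutative G := by
  obtain ⟨k, hk2, hk⟩ := (Nat.dvd_prime_pow Fact.out).mp h
  interval_cases k
  · have : Subsingleton G := (Nat.card_eq_one_iff_unique.mp (by simpa using hk)).1
    exact ⟨⟨fun a b => Subsingleton.elim _ _⟩⟩
  · have : IsCyclic G := isCyclic_of_prime_card (p := p) (by simpa using hk)
    exact IsCyclic.isMulCommutative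
  · exact IsPGroup.isMulCommutative_of_card_eq_prime_sq hk

/-- in a group of order dividing `p³` the quotient by the centre is abelian -/
theorem commutator_le_center_of_card_dvd_cube (h : Nat.card G ∣ p ^ 3) :
    commutator G ≤ center G := by
  obtain ⟨k, hk3, hk⟩ := (Nat.dvd_prime_pow Fact.out).mp h
  rw [← Normal.quotient_commutative_iff_commutator_le]
  apply isMulCommutative_of_card_dvd_sq (p := p)
  change (center G).index ∣ p ^ 2
  rcases Nat.eq_zero_or_pos k with rfl | hk0
  · have := (center G).index_dvd_card
    rw [hk, pow_zero] at this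
    rw [Nat.dvd_one.mp this]; exact one_dvd _
  · obtain ⟨j, hj0, hj⟩ := IsPGroup.card_center_eq_prime_pow hk hk0
    have hdvd : (center G).index * p ∣ p ^ 2 * p := by
      have h1 : (center G).index * p ∣ (center G).index * Nat.card (center G) := by
        rw [hj]; exact mul_dvd_mul_left _ (dvd_pow_self p hj0.ne')
      rw [Subgroup.index_mul_card] at h1
      exact h1.trans (hk ▸ pow_succ p 2 ▸ pow_dvd_pow p hk3)
    exact Nat.dvd_of_mul_dvd_mul_right (Fact.out : p.Prime).pos hdvd

theorem le_center_of_card_eq_prime (hG : IsPGroup p G) {N : Subgroup G} [N.Normal]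
    (hN : Nat.card N = p) : N ≤ center G := by
  have hne : N ≠ ⊥ := fun h => (Fact.out : p.Prime).ne_one (by rw [← hN, h]; simp)
  have h := CfsgLib.PGroups.inf_center_ne_bot hG hne
  have hle : N ⊓ center G ≤ N := inf_le_left
  have hd := Subgroup.card_dvd_of_le hle
  rw [hN] at hd
  rcases (Nat.dvd_prime Fact.out).mp hd with h1 | h1
  · exact absurd (Subgroup.eq_bot_of_card_eq _ h1) h
  · have : N ⊓ center G = N := Subgroup.eq_of_le_of_card_ge hle (by rw [h1, hN])
    exact this ▸ inf_le_right

end CfsgLib.BlockOrth
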