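/-
Blocks with one irreducible Brauer character.
-/
import Cfsg.Agent.Lib.BlockOrth.Span

set_option autoImplicit false
set_option linter.style.haveILetI false
set_option linter.unusedSectionVars false

namespace CfsgLib.BlockOrth

open Cfsg CfsgLib.Chars CfsgLib.Blocks Finset

universe u

variable {G : Type u} [Group G] [Fintype G] {p : ℕ} [hp : Fact p.Prime]
  {M : Ideal AlgInt} [M.IsPrime] {B : Set (IrrCharacter G)}

theorem pRegularPart_apply_one (φ : G → ℂ) : pRegularPart p φ 1 = φ 1 := by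
  rw [pRegularPart_apply, if_pos (by simp [hp.out.not_dvd_one])]

/-- In a block of rank one all characters are proportional on regular elements. -/
theorem pRegularPart_proportional (hl : blockRank p B = 1) {χ₀ χ : IrrCharacter G} (hχ₀ : χ₀ ∈ B)
    (hχ : χ ∈ B) :
    pRegularPart p (χ : G → ℂ) =
      ((χ : G → ℂ) 1 / (χ₀ : G → ℂ) 1) • pRegularPart p (χ₀ : G → ℂ) := by
  set S := Submodule.span ℂ ((fun χ : IrrCharacter G => pRegularPart p (χ : G → ℂ)) '' B) with hS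
  have h0 : (χ₀ : G → ℂ) 1 ≠ 0 := irr_degree_ne_zero χ₀.2
  have hmem : ∀ ψ : IrrCharacter G, ψ ∈ B → pRegularPart p (ψ : G → ℂ) ∈ S := fun ψ hψ =>
    Submodule.subset_span ⟨ψ, hψ, rfl⟩
  have hne : (⟨_, hmem χ₀ hχ₀⟩ : S) ≠ 0 := fun h => h0 (by
    have := congrFun (congrArg Subtype.val h) 1
    simpa [pRegularPart_apply_one] using this)
  obtain ⟨c, hc⟩ := (finrank_eq_one_iff_of_nonzero' (K := ℂ) (⟨_, hmem χ₀ hχ₀⟩ : S) hne).1 hl
    ⟨_, hmem χ hχ⟩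
  have hc' : c • pRegularPart p (χ₀ : G → ℂ) = pRegularPart p (χ : G → ℂ) := congrArg Subtype.val hc
  have hv := congrFun hc' 1
  rw [Pi.smul_apply, pRegularPart_apply_one, pRegularPart_apply_one, smul_eq_mul] at hv
  rw [← hc', ← hv, mul_div_assoc, div_self h0, mul_one]

/-- The structure of a block with `l = 1`. -/
theorem exists_decomposition_of_rank_one (hpM : (p : AlgInt) ∈ M) (hB : IsPBlock M B)
    (hl : blockRank p B = 1) :
    ∃ φ : G → ℂ, ∃ d : IrrCharacter G → ℕ,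
      (∃ n : IrrCharacter G → ℤ, ∀ x : G, φ x = ∑ᶠ ψ ∈ B, (n ψ : ℂ) * (ψ : G → ℂ) x) ∧
      (∀ χ ∈ B, ∀ x : G, ¬ p ∣ orderOf x → (χ : G → ℂ) x = (d χ : ℂ) * φ x) ∧
      ∑ᶠ χ ∈ B, d χ ^ 2 = p ^ blockDefect p B := by
  classical
  haveI := irrFintype G
  obtain ⟨χ₀, hχ₀, hmin⟩ := exists_degVal_eq_blockMin (p := p) (Blocks.IsPBlock.nonempty hB)
  set s := univ.filter (· ∈ B) with hs
  have hs₀ : χ₀ ∈ s := mem_filter.2 ⟨mem_univ _, hχ₀⟩
  set f : IrrCharacter G → ℤ := fun χ => (charDegree (χ : G → ℂ) : ℤ) with hf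
  set g : ℤ := s.gcd f with hg
  obtain ⟨u, hu⟩ := Finset.gcd_eq_sum_mul s f
  rw [← hg] at hu
  have hfpos : ∀ χ, 0 < f χ := fun χ => by
    have := irr_charDegree_ne_zero χ
    simp only [hf]; omega
  have hgd : ∀ χ ∈ s, g ∣ f χ := fun χ hχ => Finset.gcd_dvd hχ
  have hg0 : g ≠ 0 := fun h => (hfpos χ₀).ne' (zero_dvd_iff.1 (h ▸ hgd χ₀ hs₀))
  have hgpos : 0 < g := lt_of_le_of_ne
    (Int.nonneg_of_normalize_eq_self Finset.normalize_gcd) (Ne.symm hg0)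
  set x : IrrCharacter G → ℤ := fun χ => f χ / g with hx
  have hxf : ∀ χ ∈ s, g * x χ = f χ := fun χ hχ => Int.mul_ediv_cancel' (hgd χ hχ)
  have hxpos : ∀ χ ∈ s, 0 < x χ := fun χ hχ => by
    by_contra h
    have h1 := mul_nonpos_of_nonneg_of_nonpos hgpos.le (not_lt.1 h)
    rw [hxf χ hχ] at h1
    exact absurd (hfpos χ) (not_lt.2 h1)
  have hux : ∑ χ ∈ s, u χ * x χ = 1 := by
    apply mul_left_cancel₀ hg0
    rw [Finset.mul_sum, mul_one]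
    conv_rhs => rw [hu]
    refine Finset.sum_congr rfl fun χ hχ => ?_
    rw [← hxf χ hχ]; ring
  have hprop : ∀ χ ∈ s, pRegularPart p (χ : G → ℂ) =
      ((f χ : ℂ) / (f χ₀ : ℂ)) • pRegularPart p (χ₀ : G → ℂ) := fun χ hχ => by
    rw [pRegularPart_proportional hl hχ₀ (mem_filter.1 hχ).2, irr_apply_one, irr_apply_one]
    simp [hf]
  have hrow : ∀ χ ∈ s, ∀ ψ : IrrCharacter G,
      (f χ₀ : ℂ) * (dInt p B χ ψ : ℂ) = (f χ : ℂ) * (dInt p B χ₀ ψ : ℂ) := fun χ hχ ψ => by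
    rw [dInt_spec hpM (mem_filter.1 hχ).2, dInt_spec hpM hχ₀, hprop χ hχ, Chars.inner_smul_left]
    have : (f χ₀ : ℂ) ≠ 0 := Int.cast_ne_zero.2 (hfpos χ₀).ne'
    field_simp
  have hrowℤ : ∀ χ ∈ s, ∀ ψ : IrrCharacter G, f χ₀ * dInt p B χ ψ = f χ * dInt p B χ₀ ψ :=
    fun χ hχ ψ => by exact_mod_cast hrow χ hχ ψ
  set c : ℤ := ∑ χ ∈ s, ∑ ψ ∈ s, u χ * u ψ * dInt p B χ ψ with hc
  have hD : ∀ χ ∈ s, ∀ ψ ∈ s, dInt p B χ ψ = c * (x χ * x ψ) := by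
    intro χ hχ ψ hψ
    have h2 : ∀ ξ ∈ s, ∀ η ∈ s,
        f χ₀ * f χ₀ * dInt p B ξ η = f ξ * f η * dInt p B χ₀ χ₀ := fun ξ hξ η hη => by
      have e1 := hrowℤ ξ hξ η
      have e2 := hrowℤ η hη χ₀
      rw [dInt_symm η χ₀] at e2
      linear_combination f χ₀ * e1 + f ξ * e2
    have h3 : f χ₀ * f χ₀ * c = g * g * dInt p B χ₀ χ₀ := by
      have e : g * g * dInt p B χ₀ χ₀ =
          ∑ ξ ∈ s, ∑ η ∈ s, u ξ * u η * (f ξ * f η * dInt p B χ₀ χ₀) := by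
        rw [hu, Finset.sum_mul_sum, Finset.sum_mul]
        refine Finset.sum_congr rfl fun ξ _ => ?_
        rw [Finset.sum_mul]
        exact Finset.sum_congr rfl fun η _ => by ring
      rw [e, hc, Finset.mul_sum]
      refine Finset.sum_congr rfl fun ξ hξ => ?_
      rw [Finset.mul_sum]
      refine Finset.sum_congr rfl fun η hη => ?_
      rw [← h2 ξ hξ η hη]; ring
    apply mul_left_cancel₀ (mul_ne_zero (hfpos χ₀).ne' (hfpos χ₀).ne')
    rw [h2 χ hχ ψ hψ, ← mul_assoc, h3, ← hxf χ hχ, ← hxf ψ hψ]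
    ring
  have hpc : ¬ (p : ℤ) ∣ c := fun h => by
    refine pInt_exact_of_height_zero hpM hB hχ₀ hχ₀ hmin ?_
    rw [hmin, pow_succ, ← pow_mul_dInt hpM hχ₀ χ₀]
    refine mul_dvd_mul_left _ ?_
    rw [hD χ₀ hs₀ χ₀ hs₀]
    exact h.mul_right _
  set T : ℤ := ∑ χ ∈ s, x χ * x χ with hT
  have hTpos : 0 < T := Finset.sum_pos (fun χ hχ => mul_pos (hxpos χ hχ) (hxpos χ hχ)) ⟨χ₀, hs₀⟩
  have hcT : c * T = (p : ℤ) ^ blockDefect p B := by
    have h := sum_dInt_mul_dInt (ψ := χ₀) hpM hB hχ₀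
    rw [hD χ₀ hs₀ χ₀ hs₀, ← hs, Finset.sum_congr rfl (g := fun ξ =>
      c * (x χ₀ * x χ₀) * (c * (x ξ * x ξ))) fun ξ hξ => by
        rw [hD χ₀ hs₀ ξ hξ, hD ξ hξ χ₀ hs₀]; ring] at h
    rw [← Finset.mul_sum, ← Finset.mul_sum, ← hT] at h
    have hc0 : c ≠ 0 := fun h0 => hpc (h0 ▸ dvd_zero _)
    have hx0 := (hxpos χ₀ hs₀).ne'
    apply mul_left_cancel₀ (mul_ne_zero hc0 (mul_ne_zero hx0 hx0))
    rw [h]; ring
  have hc1 : c = 1 := by
    have hcop : IsCoprime c ((p : ℤ) ^ blockDefect p B) :=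
      (((Nat.prime_iff_prime_int.1 hp.out).coprime_iff_not_dvd.2 hpc).symm).pow_right
    have hunit : IsUnit c := hcop.isUnit_of_dvd' dvd_rfl ⟨T, hcT.symm⟩
    rcases Int.isUnit_iff.1 hunit with h | h
    · exact h
    · have hp0 : (0 : ℤ) < (p : ℤ) ^ blockDefect p B := pow_pos (by exact_mod_cast hp.out.pos) _
      rw [h] at hcT
      omega
  refine ⟨fun y => ∑ᶠ ψ ∈ B, (u ψ : ℂ) * (ψ : G → ℂ) y, fun χ => (x χ).toNat,
    ⟨u, fun _ => rfl⟩, fun χ hχ y hy => ?_, ?_⟩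
  · have hχs : χ ∈ s := mem_filter.2 ⟨mem_univ _, hχ⟩
    have hval : ∀ ψ ∈ s, (f χ₀ : ℂ) * (ψ : G → ℂ) y = (f ψ : ℂ) * (χ₀ : G → ℂ) y := fun ψ hψ => by
      have h := congrFun (hprop ψ hψ) y
      rw [Pi.smul_apply, smul_eq_mul, pRegularPart_apply, pRegularPart_apply, if_pos hy,
        if_pos hy] at h
      have : (f χ₀ : ℂ) ≠ 0 := Int.cast_ne_zero.2 (hfpos χ₀).ne'
      rw [h]; field_simp
    have hcast : (((x χ).toNat : ℕ) : ℂ) = (x χ : ℂ) := by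
      rw [← Int.cast_natCast, Int.toNat_of_nonneg (hxpos χ hχs).le]
    rw [hcast]
    dsimp only
    rw [sum_mem_block]
    apply mul_left_cancel₀ (Int.cast_ne_zero.2 (hfpos χ₀).ne' : (f χ₀ : ℂ) ≠ 0)
    rw [hval χ hχs, mul_left_comm, Finset.mul_sum, ← hs,
      Finset.sum_congr rfl (g := fun ψ => ((u ψ * f ψ : ℤ) : ℂ) * (χ₀ : G → ℂ) y) fun ψ hψ => by
        rw [mul_left_comm, hval ψ hψ]; push_cast; ring]
    rw [← Finset.sum_mul, ← Int.cast_sum, Finset.sum_congr rfl (g := fun ψ => f ψ * u ψ)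
      fun ψ _ => mul_comm _ _, ← hu, ← hxf χ hχs]
    push_cast
    ring
  · rw [hc1, one_mul, hT] at hcT
    rw [sum_mem_block, ← hs]
    apply Nat.cast_injective (R := ℤ)
    push_cast
    rw [← hcT]
    refine Finset.sum_congr rfl fun χ hχ => ?_
    rw [Int.toNat_of_nonneg (hxpos χ hχ).le, sq]

end CfsgLib.BlockOrth
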