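/-
The lattice of the regular parts of the characters of a subsection block.
-/
import Cfsg.Agent.Lib.BlockOrth.MajorSubsection
import Cfsg.Agent.Lib.BlockOrth.LatticeFactor

set_option autoImplicit false
set_option linter.style.haveILetI false
set_option linter.unusedSectionVars false

namespace CfsgLib.BlockOrth

open Cfsg CfsgLib.Chars CfsgLib.Blocks Finset
open scoped ComplexConjugate IntermediateField Matrix

universe u

variable {G : Type u} [Group G] [Fintype G] {M : Ideal AlgInt} [M.IsPrime] {p : ℕ}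
  [hp : Fact p.Prime] {H : Subgroup G} [Fintype H] {x : G} [Fintype (IrrCharacter H)]
  [DecidableEq (IrrCharacter H)]
  {B : Set (IrrCharacter G)} {b : Set (IrrCharacter H)} [DecidablePred (· ∈ b)] {r : ℕ}

/-- The matrix `p ^ d [θ°, θ']` on a block, extended by zero. -/
noncomputable def dMat (p : ℕ) [Fact p.Prime] (b : Set (IrrCharacter H)) [DecidablePred (· ∈ b)] :
    Matrix (IrrCharacter H) (IrrCharacter H) ℤ :=
  Matrix.of fun θ θ' => if θ ∈ b then dInt p b θ θ' else 0

theorem dMat_apply (θ θ' : IrrCharacter H) :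
    dMat p b θ θ' = if θ ∈ b then dInt p b θ θ' else 0 := rfl

theorem dMat_symm (hpM : (p : AlgInt) ∈ M) (hb : IsPBlock M b) (θ θ' : IrrCharacter H) :
    dMat p b θ θ' = dMat p b θ' θ := by
  rw [dMat_apply, dMat_apply]
  split_ifs with h h' h'
  · exact dInt_symm θ θ'
  · exact dInt_eq_zero hpM hb h h'
  · exact (dInt_eq_zero hpM hb h' h).symm
  · rfl

theorem dMat_mul_self (hpM : (p : AlgInt) ∈ M) (hb : IsPBlock M b) :
    dMat p b * dMat p b = ((p : ℤ) ^ blockDefect p b) • dMat p b := by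
  ext θ θ''
  rw [Matrix.mul_apply, Matrix.smul_apply, smul_eq_mul, dMat_apply θ θ'']
  by_cases h : θ ∈ b
  · rw [if_pos h, ← sum_dInt_mul_dInt hpM hb h, Finset.sum_filter]
    refine Finset.sum_congr rfl fun ξ _ => ?_
    rw [dMat_apply, if_pos h, dMat_apply]
    split_ifs with h'
    · rfl
    · rw [mul_zero]
  · rw [if_neg h, mul_zero]
    exact Finset.sum_eq_zero fun ξ _ => by rw [dMat_apply, if_neg h, zero_mul]

theorem dMat_trace (hpM : (p : AlgInt) ∈ M) (hb : IsPBlock M b) :
    (dMat p b).trace = (p : ℤ) ^ blockDefect p b * blockRank p b := by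
  have h : (((dMat p b).trace : ℤ) : ℂ) =
      (((p : ℤ) ^ blockDefect p b * blockRank p b : ℤ) : ℂ) := by
    push_cast
    rw [Matrix.trace, blockRank_eq_sum hpM hb, Finset.mul_sum, Finset.sum_filter, Int.cast_sum]
    refine Finset.sum_congr rfl fun θ _ => ?_
    rw [Matrix.diag_apply, dMat_apply]
    split_ifs with h
    · rw [dInt_spec hpM h, Nat.cast_pow]
    · exact Int.cast_zero
  exact_mod_cast h

theorem exists_dMat_factor (hpM : (p : AlgInt) ∈ M) (hb : IsPBlock M b) :
    Nonempty (Factor (dMat p b) ((p : ℤ) ^ blockDefect p b) (blockRank p b)) := by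
  obtain ⟨r, ⟨F⟩⟩ := exists_factor (dMat p b) (Matrix.ext fun i j => dMat_symm hpM hb j i)
    (dMat_mul_self hpM hb)
  have h := F.trace_eq
  rw [dMat_trace hpM hb] at h
  have hr : blockRank p b = r := by
    exact_mod_cast mul_left_cancel₀ (pow_ne_zero _ (Int.natCast_ne_zero.2 hp.out.ne_zero)) h
  rw [hr]
  exact ⟨F⟩

variable {P : ℤ} (F : Factor (dMat p b) P r)

/-- The integral combination of the coordinates of the subsection column. -/
noncomputable def coord (F : Factor (dMat p b) P r) (x : G) (χ : IrrCharacter G) (i : Fin r) : ℂ :=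
  ∑ θ : IrrCharacter H, classInner (secFun H x (χ : G → ℂ)) (θ : H → ℂ) * (F.N θ i : ℂ)

theorem contrib_eq_coord (hpM : (p : AlgInt) ∈ M) (hb : IsPBlock M b) (χ ψ : IrrCharacter G) :
    contrib p b x χ ψ = ∑ i, ∑ j, coord F x χ i * (F.A i j : ℂ) * conj (coord F x ψ j) := by
  have h1 : contrib p b x χ ψ = ∑ θ : IrrCharacter H, ∑ θ' : IrrCharacter H,
      classInner (secFun H x (χ : G → ℂ)) (θ : H → ℂ) *
      conj (classInner (secFun H x (ψ : G → ℂ)) (θ' : H → ℂ)) * (dMat p b θ θ' : ℂ) := by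
    rw [contrib, Finset.sum_filter]
    refine Finset.sum_congr rfl fun θ _ => ?_
    split_ifs with h
    · rw [Finset.sum_filter]
      refine Finset.sum_congr rfl fun θ' _ => ?_
      rw [dMat_apply, if_pos h]
      split_ifs with h'
      · rfl
      · rw [dInt_eq_zero hpM hb h h', Int.cast_zero, mul_zero]
    · symm
      exact Finset.sum_eq_zero fun θ' _ => by rw [dMat_apply, if_neg h, Int.cast_zero, mul_zero]
  rw [h1]
  have e : ∀ θ θ', (dMat p b θ θ' : ℂ) =
      ∑ i, ∑ j, (F.N θ i : ℂ) * (F.A i j : ℂ) * (F.N θ' j : ℂ) := by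
    intro θ θ'
    conv_lhs => rw [congrFun (congrFun F.eq' θ) θ']
    rw [Matrix.mul_apply]
    push_cast
    rw [Finset.sum_comm]
    refine Finset.sum_congr rfl fun j _ => ?_
    rw [Matrix.mul_apply, Matrix.transpose_apply]
    push_cast
    rw [Finset.sum_mul]
  simp only [coord, map_sum, map_mul, map_intCast, e, Finset.mul_sum, Finset.sum_mul]
  rw [Finset.sum_comm_cycle]
  refine Finset.sum_congr rfl fun i _ => ?_
  rw [Finset.sum_comm_cycle]
  exact Finset.sum_congr rfl fun j _ => Finset.sum_comm.trans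
    (Finset.sum_congr rfl fun _ _ => Finset.sum_congr rfl fun _ _ => by ring)

theorem coord_galois (hH : ∀ c : G, c ∈ H ↔ c * x = x * c) {N k : ℕ} (hN : x ^ N = 1)
    (hk : k.Coprime (orderOf x)) {σ : ℂ ≃+* ℂ} (hσ : ∀ z : ℂ, z ^ N = 1 → σ z = z ^ k)
    (χ : IrrCharacter G) (i : Fin r) : σ (coord F x χ i) = coord F (x ^ k) χ i := by
  have hHk := centralizer_pow_of_coprime hH hk
  simp only [coord, map_sum]
  refine Finset.sum_congr rfl fun θ _ => ?_
  obtain ⟨m, hm⟩ := inner_irr_right_nat (isCharacter_restrict H (isCharacter_of_irr χ.2)) θ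
  rw [inner_secFun_eq hH, inner_secFun_eq hHk, hm]
  simp only [map_mul, map_natCast, map_intCast]
  rw [hσ _ (centralScalar_self_pow hH hN θ), ← centralScalar_pow θ (mem_center_of_self hH)]
  rfl

theorem coord_mem_field (hH : ∀ c : G, c ∈ H ↔ c * x = x * c) {N : ℕ} [NeZero N] (hN : x ^ N = 1)
    (χ : IrrCharacter G) (i : Fin r) : coord F x χ i ∈ ℚ⟮CharApps.rootN N⟯ := by
  refine sum_mem fun θ _ => ?_
  obtain ⟨m, hm⟩ := inner_irr_right_nat (isCharacter_restrict H (isCharacter_of_irr χ.2)) θ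
  rw [inner_secFun_eq hH, hm]
  obtain ⟨j, -, hj⟩ := (CharApps.rootN_prim N).eq_pow_of_pow_eq_one
    (centralScalar_self_pow hH hN θ)
  rw [← hj]
  exact mul_mem (mul_mem (pow_mem (IntermediateField.mem_adjoin_simple_self ℚ _) _)
    (natCast_mem _ _)) (intCast_mem _ _)

theorem isIntegral_coord (hH : ∀ c : G, c ∈ H ↔ c * x = x * c) (χ : IrrCharacter G) (i : Fin r) :
    IsIntegral ℤ (coord F x χ i) := by
  refine IsIntegral.sum _ fun θ _ => ?_
  obtain ⟨m, hm⟩ := inner_irr_right_nat (isCharacter_restrict H (isCharacter_of_irr χ.2)) θ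
  rw [inner_secFun_eq hH, hm]
  refine ((IsIntegral.of_pow (orderOf_pos x) (by
    rw [centralScalar_self_pow hH (pow_orderOf_eq_one x) θ]; exact isIntegral_one)).mul ?_).mul ?_
  · exact_mod_cast isIntegral_algebraMap (R := ℤ) (A := ℂ) (x := (m : ℤ))
  · exact isIntegral_algebraMap (R := ℤ) (A := ℂ) (x := F.N θ i)

variable [Fintype (IrrCharacter G)] [DecidablePred (· ∈ B)]

/-- The columns of the coordinates have the Gram matrix `Nᵀ N`. -/
theorem sum_coord_mul_conj (hM : IsPModular p M) (hH : ∀ c : G, c ∈ H ↔ c * x = x * c)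
    (hx : ∃ j, orderOf x = p ^ j) (hb : IsInducedBlock M H b B)
    (F : Factor (dMat p b) ((p : ℤ) ^ blockDefect p b) r) (i j : Fin r) :
    ∑ χ ∈ univ.filter (· ∈ B), coord F x χ i * conj (coord F x χ j) = (F.C i j : ℂ) := by
  have hpM := hM.2.2
  set Q : ℂ := ((p ^ blockDefect p b : ℕ) : ℂ) with hQ
  have hQ0 : Q ≠ 0 := Nat.cast_ne_zero.2 (pow_ne_zero _ hp.out.ne_zero)
  set u : IrrCharacter G → IrrCharacter H → ℂ := fun χ η =>
    ∑ θ : IrrCharacter H, classInner (secFun H x (χ : G → ℂ)) (θ : H → ℂ) * (dMat p b θ η : ℂ) with hu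
  have hu' : ∀ χ η, u χ η = if η ∈ b then
      Q * classInner (pRegularPart p (secFun H x (χ : G → ℂ))) (η : H → ℂ) else 0 := by
    intro χ η
    simp only [hu, dMat_symm hpM hb.1 _ η]
    split_ifs with h
    · rw [hQ, ← sum_inner_mul_dInt hpM hb.1 (isClassFunction_secFun hH (isClassFunction_irr χ)) h,
        Finset.sum_filter]
      refine Finset.sum_congr rfl fun θ _ => ?_
      rw [dMat_apply, if_pos h]
      split_ifs with h'
      · rfl
      · rw [dInt_eq_zero hpM hb.1 h h', Int.cast_zero, mul_zero]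
    · exact Finset.sum_eq_zero fun θ _ => by rw [dMat_apply, if_neg h, Int.cast_zero, mul_zero]
  have huu : ∀ η η', ∑ χ ∈ univ.filter (· ∈ B), u χ η * conj (u χ η') =
      Q * (dMat p b η' η : ℂ) := by
    intro η η'
    simp only [hu']
    by_cases h : η ∈ b
    · by_cases h' : η' ∈ b
      · simp only [if_pos h, if_pos h', map_mul, hQ, map_natCast, mul_mul_mul_comm]
        rw [← Finset.mul_sum, mul_assoc, sum_block_mul_conj hM hH hx hb h h', dMat_apply,
          if_pos h']
      · simp [if_neg h', dMat_apply]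
    · simp [if_neg h, dMat_symm hpM hb.1 η' η, dMat_apply]
  set E : Matrix (IrrCharacter H) (Fin r) ℤ := F.Uᵀ * F.C with hE
  have hN : ∀ χ i, Q * coord F x χ i = ∑ η, u χ η * (E η i : ℂ) := by
    intro χ i
    have e : dMat p b * E = ((p : ℤ) ^ blockDefect p b) • F.N := by
      have h1 : F.Nᵀ * F.Uᵀ = 1 := by rw [← Matrix.transpose_mul, F.unit, Matrix.transpose_one]
      calc dMat p b * E = F.N * (F.A * ((F.Nᵀ * F.Uᵀ) * F.C)) := by
            conv_lhs => rw [F.eq', hE]
            simp only [Matrix.mul_assoc]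
        _ = _ := by rw [h1, Matrix.one_mul, F.inv', Matrix.mul_smul, Matrix.mul_one]
    simp only [hu, Finset.sum_mul]
    rw [Finset.sum_comm, coord, Finset.mul_sum]
    refine Finset.sum_congr rfl fun θ _ => ?_
    have e2 := congrArg (fun z : ℤ => (z : ℂ)) (congrFun (congrFun e θ) i)
    rw [Matrix.mul_apply, Matrix.smul_apply, smul_eq_mul] at e2
    push_cast at e2
    rw [show Q * (classInner (secFun H x (χ : G → ℂ)) (θ : H → ℂ) * (F.N θ i : ℂ)) =
      classInner (secFun H x (χ : G → ℂ)) (θ : H → ℂ) * (Q * (F.N θ i : ℂ)) by ring, hQ,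
      Nat.cast_pow, ← e2, Finset.mul_sum]
    exact Finset.sum_congr rfl fun η _ => by ring
  have hsum : Q * Q * ∑ χ ∈ univ.filter (· ∈ B), coord F x χ i * conj (coord F x χ j) =
      Q * ((Eᵀ * dMat p b * E) j i : ℂ) := by
    calc Q * Q * ∑ χ ∈ univ.filter (· ∈ B), coord F x χ i * conj (coord F x χ j)
        = ∑ χ ∈ univ.filter (· ∈ B), (Q * coord F x χ i) * conj (Q * coord F x χ j) := by
          rw [Finset.mul_sum]
          refine Finset.sum_congr rfl fun χ _ => ?_
          rw [map_mul, hQ, map_natCast]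
          ring
      _ = ∑ η, ∑ η', (E η i : ℂ) * (E η' j : ℂ) *
            ∑ χ ∈ univ.filter (· ∈ B), u χ η * conj (u χ η') := by
          simp only [hN, map_sum, map_mul, map_intCast, Finset.sum_mul_sum]
          rw [Finset.sum_comm]
          refine Finset.sum_congr rfl fun η _ => ?_
          rw [Finset.sum_comm]
          refine Finset.sum_congr rfl fun η' _ => ?_
          rw [Finset.mul_sum]
          exact Finset.sum_congr rfl fun χ _ => by ring
      _ = _ := by
          simp only [huu, Matrix.mul_apply, Matrix.transpose_apply]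
          push_cast
          simp only [Finset.mul_sum, Finset.sum_mul]
          exact Finset.sum_congr rfl fun η _ => Finset.sum_congr rfl fun η' _ => by ring
  have hEDE : Eᵀ * dMat p b * E = ((p : ℤ) ^ blockDefect p b) • F.C := by
    rw [hE, Matrix.transpose_mul, Matrix.transpose_transpose, F.transpose_C]
    calc F.C * F.U * dMat p b * (F.Uᵀ * F.C) = F.C * (F.A * F.C) := by
          simp only [Factor.A, Matrix.mul_assoc]
      _ = _ := by rw [F.inv', Matrix.mul_smul, Matrix.mul_one]
  rw [hEDE, Matrix.smul_apply, smul_eq_mul] at hsum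
  have hC : F.C j i = F.C i j := congrFun (congrFun F.transpose_C i) j
  rw [hC] at hsum
  push_cast at hsum
  rw [← mul_assoc, hQ, Nat.cast_pow] at hsum
  exact mul_left_cancel₀ (mul_ne_zero (pow_ne_zero _ (Nat.cast_ne_zero.2 hp.out.ne_zero))
    (pow_ne_zero _ (Nat.cast_ne_zero.2 hp.out.ne_zero))) hsum

end CfsgLib.BlockOrth
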