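/-
A block with a major subsection of rank at most two has at most `p ^ d` characters.
-/
import Cfsg.Agent.Lib.BlockOrth.SubsectionLattice

set_option autoImplicit false
set_option linter.style.haveILetI false
set_option linter.unusedSectionVars false

namespace CfsgLib.BlockOrth

open Cfsg CfsgLib.Chars CfsgLib.Blocks Finset
open scoped ComplexConjugate IntermediateField Matrix

universe u

variable {G : Type u} [Group G] [Fintype G] {M : Ideal AlgInt} [M.IsPrime] {p : ℕ}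
  [hp : Fact p.Prime] {H : Subgroup G} [Fintype H] {x : G} [Fintype (IrrCharacter H)]
  [DecidableEq (IrrCharacter H)]
  {B : Set (IrrCharacter G)} {b : Set (IrrCharacter H)} [DecidablePred (· ∈ b)] {r : ℕ}

/-- A combination of the coordinates. -/
noncomputable def linCoord {P : ℤ} (F : Factor (dMat p b) P r) (α : Fin r → ℤ) (x : G)
    (χ : IrrCharacter G) : ℂ :=
  ∑ i, (α i : ℂ) * coord F x χ i

theorem linCoord_single {P : ℤ} (F : Factor (dMat p b) P r) (x : G) (χ : IrrCharacter G)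
    (i : Fin r) : linCoord F (Pi.single i 1) x χ = coord F x χ i := by
  rw [linCoord, Finset.sum_eq_single i (fun j _ hj => by rw [Pi.single_eq_of_ne hj]; simp)
    (fun h => absurd (mem_univ i) h), Pi.single_eq_same, Int.cast_one, one_mul]

variable {P : ℤ} (F : Factor (dMat p b) P r)

theorem linCoord_galois (hH : ∀ c : G, c ∈ H ↔ c * x = x * c) {N k : ℕ} (hN : x ^ N = 1)
    (hk : k.Coprime (orderOf x)) {σ : ℂ ≃+* ℂ} (hσ : ∀ z : ℂ, z ^ N = 1 → σ z = z ^ k)
    (α : Fin r → ℤ) (χ : IrrCharacter G) : σ (linCoord F α x χ) = linCoord F α (x ^ k) χ := by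
  simp only [linCoord, map_sum, map_mul, map_intCast, coord_galois F hH hN hk hσ]

theorem linCoord_mem_field (hH : ∀ c : G, c ∈ H ↔ c * x = x * c) {N : ℕ} [NeZero N] (hN : x ^ N = 1)
    (α : Fin r → ℤ) (χ : IrrCharacter G) : linCoord F α x χ ∈ ℚ⟮CharApps.rootN N⟯ :=
  sum_mem fun i _ => mul_mem (intCast_mem _ _) (coord_mem_field F hH hN χ i)

theorem isIntegral_linCoord (hH : ∀ c : G, c ∈ H ↔ c * x = x * c) (α : Fin r → ℤ)
    (χ : IrrCharacter G) : IsIntegral ℤ (linCoord F α x χ) :=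
  IsIntegral.sum _ fun i _ =>
    (isIntegral_algebraMap (R := ℤ) (A := ℂ) (x := α i)).mul (isIntegral_coord F hH χ i)

variable {n : ℕ}

/-- A nonzero combination divisible by `c` has average squared norm at least `c²`. -/
theorem sq_mul_card_le_avg_linCoord (hH : ∀ c : G, c ∈ H ↔ c * x = x * c)
    (hn : orderOf x = p ^ n) (α : Fin r → ℤ) (χ : IrrCharacter G) {c : ℕ} (hc : c ≠ 0)
    (hdiv : IsIntegral ℤ (linCoord F α x χ / c)) (hne : linCoord F α x χ ≠ 0) :
    ((c ^ 2 * (unitsBelow (p ^ n)).card : ℕ) : ℝ) ≤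
      ∑ k ∈ unitsBelow (p ^ n), ‖linCoord F α (x ^ k) χ‖ ^ 2 := by
  haveI : NeZero (p ^ n) := ⟨pow_ne_zero _ hp.out.ne_zero⟩
  have hN : x ^ (p ^ n) = 1 := by rw [← hn]; exact pow_orderOf_eq_one x
  have key := card_le_sum_conjugates_normSq (N := p ^ n) (y := linCoord F α x χ / c)
    (div_mem (linCoord_mem_field F hH hN α χ) (natCast_mem _ c)) hdiv
    (div_ne_zero hne (Nat.cast_ne_zero.2 hc)) (fun k => linCoord F α (x ^ k) χ / c)
    fun k hk σ hσ => by
      rw [map_div₀, map_natCast,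
        linCoord_galois F hH hN (by rw [hn]; exact (mem_unitsBelow.1 hk).2) hσ]
  simp only [norm_div, Complex.norm_natCast, div_pow, ← Finset.sum_div] at key
  rw [le_div_iff₀ (by positivity)] at key
  push_cast
  linarith

variable [Fintype (IrrCharacter G)] [DecidablePred (· ∈ B)]

/-- Counting with a quadratic form. -/
theorem mul_card_le_form (hM : IsPModular p M) (hH : ∀ c : G, c ∈ H ↔ c * x = x * c)
    (hn : orderOf x = p ^ n) (hb : IsInducedBlock M H b B)
    (F : Factor (dMat p b) ((p : ℤ) ^ blockDefect p b) r) (α : Fin r → ℤ)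
    {t : Finset (IrrCharacter G)} (ht : ∀ χ ∈ t, χ ∈ B) {c : ℕ} (hc : c ≠ 0)
    (hdiv : ∀ χ ∈ t, IsIntegral ℤ (linCoord F α x χ / c)) (hne : ∀ χ ∈ t, linCoord F α x χ ≠ 0) :
    ((c ^ 2 * t.card : ℕ) : ℤ) ≤ ∑ i, ∑ j, α i * α j * F.C i j := by
  haveI : NeZero (p ^ n) := ⟨pow_ne_zero _ hp.out.ne_zero⟩
  set S := unitsBelow (p ^ n)
  have hcop : ∀ k ∈ S, k.Coprime (orderOf x) := fun k hk => by
    rw [hn]; exact (mem_unitsBelow.1 hk).2
  have htot : ∀ k ∈ S, ∑ χ ∈ univ.filter (· ∈ B), ‖linCoord F α (x ^ k) χ‖ ^ 2 =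
      ((∑ i, ∑ j, α i * α j * F.C i j : ℤ) : ℝ) := by
    intro k hk
    apply Complex.ofReal_injective
    push_cast
    simp only [← Complex.mul_conj']
    simp only [linCoord, map_sum, map_mul, map_intCast, Finset.sum_mul_sum]
    rw [Finset.sum_comm]
    refine Finset.sum_congr rfl fun i _ => ?_
    rw [Finset.sum_comm]
    refine Finset.sum_congr rfl fun j _ => ?_
    rw [← sum_coord_mul_conj hM (centralizer_pow_of_coprime hH (hcop k hk))
      (exists_orderOf_pow_of_coprime ⟨n, hn⟩ (hcop k hk)) hb F i j, Finset.mul_sum]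
    exact Finset.sum_congr rfl fun χ _ => by ring
  have h : ((c ^ 2 * t.card : ℕ) : ℝ) * S.card ≤
      ((∑ i, ∑ j, α i * α j * F.C i j : ℤ) : ℝ) * S.card := by
    calc ((c ^ 2 * t.card : ℕ) : ℝ) * S.card = ∑ χ ∈ t, ((c ^ 2 * S.card : ℕ) : ℝ) := by
          rw [Finset.sum_const, nsmul_eq_mul]; push_cast; ring
      _ ≤ ∑ χ ∈ t, ∑ k ∈ S, ‖linCoord F α (x ^ k) χ‖ ^ 2 :=
          Finset.sum_le_sum fun χ hχ =>
            sq_mul_card_le_avg_linCoord F hH hn α χ hc (hdiv χ hχ) (hne χ hχ)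
      _ ≤ ∑ χ ∈ univ.filter (· ∈ B), ∑ k ∈ S, ‖linCoord F α (x ^ k) χ‖ ^ 2 :=
          Finset.sum_le_sum_of_subset_of_nonneg (fun χ hχ => mem_filter.2 ⟨mem_univ _, ht χ hχ⟩)
            fun _ _ _ => Finset.sum_nonneg fun _ _ => by positivity
      _ = _ := by
          rw [Finset.sum_comm, Finset.sum_congr rfl htot, Finset.sum_const, nsmul_eq_mul]
          ring
  exact_mod_cast le_of_mul_le_mul_right h (by exact_mod_cast card_unitsBelow_pos (p ^ n))

/-- Counting with one coordinate. -/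
theorem mul_card_le_diag (hM : IsPModular p M) (hH : ∀ c : G, c ∈ H ↔ c * x = x * c)
    (hn : orderOf x = p ^ n) (hb : IsInducedBlock M H b B)
    (F : Factor (dMat p b) ((p : ℤ) ^ blockDefect p b) r) (i : Fin r)
    {t : Finset (IrrCharacter G)} (ht : ∀ χ ∈ t, χ ∈ B) {c : ℕ} (hc : c ≠ 0)
    (hdiv : ∀ χ ∈ t, IsIntegral ℤ (coord F x χ i / c)) (hne : ∀ χ ∈ t, coord F x χ i ≠ 0) :
    ((c ^ 2 * t.card : ℕ) : ℤ) ≤ F.C i i := by
  have h := mul_card_le_form hM hH hn hb F (Pi.single i 1) ht hc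
    (by simpa only [linCoord_single] using hdiv) (by simpa only [linCoord_single] using hne)
  simpa [Pi.single_apply] using h

omit [Fintype (IrrCharacter G)] [DecidablePred (· ∈ B)] in
/-- The middle matrix has rank one modulo `p`. -/
theorem exists_rank_one_mod (hpM : (p : AlgInt) ∈ M) (hb : IsPBlock M b)
    (F : Factor (dMat p b) P r) :
    ∃ a c : Fin r → ℂ, (∀ i, a i ∈ loc M) ∧ (∀ i, c i ∈ loc M) ∧
      ∀ i j, MemLocalIdeal M ((F.A i j : ℂ) - a i * c j) := by
  obtain ⟨η, hη⟩ := Blocks.IsPBlock.nonempty hb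
  set v := blockMin p b
  set K : IrrCharacter H → ℂ := fun θ => if θ ∈ b then
    (pInt p θ η : ℂ) / (charDegree (η : H → ℂ) : ℂ) else 0 with hK
  set τ : IrrCharacter H → ℂ := fun θ => if θ ∈ b then
    ((charDegree (θ : H → ℂ) / p ^ v : ℕ) : ℂ) else 0 with hτ
  have hKl : ∀ θ, K θ ∈ loc M := fun θ => by
    simp only [hK]; split_ifs
    · exact pInt_div_mem_loc hpM θ η
    · exact zero_mem _
  have hτl : ∀ θ, τ θ ∈ loc M := fun θ => by
    simp only [hτ]; split_ifs
    · exact natCast_mem_loc _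
    · exact zero_mem _
  have hD : ∀ θ θ', MemLocalIdeal M ((dMat p b θ θ' : ℂ) - K θ * τ θ') := by
    intro θ θ'
    by_cases h : θ ∈ b
    · by_cases h' : θ' ∈ b
      · simp only [hK, hτ, if_pos h, if_pos h', dMat_apply]
        have e : (dInt p b θ θ' : ℂ) = ((charDegree (θ' : H → ℂ) / p ^ v : ℕ) : ℂ) *
            ((pInt p θ θ' : ℂ) / (charDegree (θ' : H → ℂ) : ℂ)) := by
          apply mul_left_cancel₀ (pow_ne_zero v (Nat.cast_ne_zero.2 hp.out.ne_zero) :
            ((p : ℂ)) ^ v ≠ 0)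
          rw [← mul_assoc, ← Nat.cast_pow, ← Nat.cast_mul, Nat.mul_div_cancel'
            ((pow_dvd_pow p (blockMin_le h')).trans (Nat.ordProj_dvd _ _)),
            mul_div_cancel₀ _ (Nat.cast_ne_zero.2 (irr_charDegree_ne_zero θ')),
            ← pow_mul_dInt hpM h θ']
          push_cast
          rfl
        rw [e, mul_comm ((pInt p θ η : ℂ) / _), ← mul_sub]
        exact MemLocalIdeal.mul_left' (natCast_mem_loc _) (pInt_congr hpM hb θ h' hη)
      · simp only [hτ, if_neg h', dMat_apply, if_pos h, dInt_eq_zero hpM hb h h', Int.cast_zero,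
          mul_zero, sub_zero]
        exact MemLocalIdeal.zero'
    · simp only [hK, if_neg h, dMat_apply, Int.cast_zero, zero_mul, sub_zero]
      exact MemLocalIdeal.zero'
  refine ⟨fun i => ∑ θ, (F.U i θ : ℂ) * K θ, fun j => ∑ θ, (F.U j θ : ℂ) * τ θ,
    fun i => sum_mem fun θ _ => mul_mem (intCast_mem _ _) (hKl θ),
    fun i => sum_mem fun θ _ => mul_mem (intCast_mem _ _) (hτl θ), fun i j => ?_⟩
  have e : (F.A i j : ℂ) - (∑ θ, (F.U i θ : ℂ) * K θ) * ∑ θ, (F.U j θ : ℂ) * τ θ =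
      ∑ θ, ∑ θ', ((F.U i θ : ℂ) * (F.U j θ' : ℂ)) * ((dMat p b θ θ' : ℂ) - K θ * τ θ') := by
    simp only [mul_sub, Finset.sum_sub_distrib]
    congr 1
    · simp only [Factor.A, Matrix.mul_apply, Matrix.transpose_apply]
      push_cast
      rw [Finset.sum_comm]
      refine Finset.sum_congr rfl fun θ' _ => ?_
      rw [Finset.sum_mul]
      exact Finset.sum_congr rfl fun θ _ => by ring
    · rw [Finset.sum_mul_sum]
      exact Finset.sum_congr rfl fun θ _ => Finset.sum_congr rfl fun θ' _ => by ring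
  rw [e]
  exact MemLocalIdeal.sum' fun θ _ => MemLocalIdeal.sum' fun θ' _ =>
    MemLocalIdeal.mul_left' (mul_mem (intCast_mem _ _) (intCast_mem _ _)) (hD θ θ')

omit [Fintype (IrrCharacter G)] [DecidablePred (· ∈ B)] in
theorem prime_dvd_det_two (hpM : (p : AlgInt) ∈ M) (hb : IsPBlock M b)
    (F : Factor (dMat p b) P 2) : (p : ℤ) ∣ F.A 0 0 * F.A 1 1 - F.A 0 1 * F.A 1 0 := by
  obtain ⟨a, c, ha, hc, h⟩ := exists_rank_one_mod hpM hb F
  refine (intCast_mem_iff hp.out hpM _).1 ((memLocalIdeal_algInt_iff _).1 ?_)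
  have hA : ∀ i j, (F.A i j : ℂ) ∈ loc M := fun i j => intCast_mem _ _
  have e : ((((F.A 0 0 * F.A 1 1 - F.A 0 1 * F.A 1 0 : ℤ) : AlgInt)) : ℂ) =
      ((F.A 0 0 : ℂ) - a 0 * c 0) * (F.A 1 1 : ℂ) + a 0 * c 0 * ((F.A 1 1 : ℂ) - a 1 * c 1) -
      (((F.A 0 1 : ℂ) - a 0 * c 1) * (F.A 1 0 : ℂ) + a 0 * c 1 * ((F.A 1 0 : ℂ) - a 1 * c 0)) := by
    push_cast
    ring
  rw [e]
  exact MemLocalIdeal.sub'
    (MemLocalIdeal.add' (MemLocalIdeal.mul_right' (h 0 0) (hA 1 1))
      (MemLocalIdeal.mul_left' (mul_mem (ha 0) (hc 0)) (h 1 1)))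
    (MemLocalIdeal.add' (MemLocalIdeal.mul_right' (h 0 1) (hA 1 0))
      (MemLocalIdeal.mul_left' (mul_mem (ha 0) (hc 1)) (h 1 0)))

variable (hM : IsPModular p M) (hH : ∀ c : G, c ∈ H ↔ c * x = x * c)
  (hn : orderOf x = p ^ n) (hind : IsInducedBlock M H b B)
  (hmaj : blockDefect p b = blockDefect p B)

include hM hH hn hind hmaj

/-- For a diagonal reduced basis. -/
theorem card_le_of_orthogonal (F : Factor (dMat p b) ((p : ℤ) ^ (blockDefect p b)) 2)
    (h01 : F.C 0 1 = 0) (hle : F.C 0 0 ≤ F.C 1 1)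
    (hcov : ∀ χ ∈ B, coord F x χ 0 ≠ 0 ∨ coord F x χ 1 ≠ 0) :
    ((univ.filter (· ∈ B)).card : ℤ) ≤ (p : ℤ) ^ (blockDefect p b) := by
  classical
  have hpM := hM.2.2
  have hC10 : F.C 1 0 = 0 := (congrFun (congrFun F.transpose_C 0) 1).trans h01
  have hinv := F.inv'
  have h00 : F.A 0 0 * F.C 0 0 = (p : ℤ) ^ (blockDefect p b) := by
    have h := congrFun (congrFun hinv 0) 0
    simpa [Matrix.mul_apply, Fin.sum_univ_two, hC10] using h
  have h11 : F.A 1 1 * F.C 1 1 = (p : ℤ) ^ (blockDefect p b) := by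
    have h := congrFun (congrFun hinv 1) 1
    simpa [Matrix.mul_apply, Fin.sum_univ_two, h01] using h
  have hA01 : F.A 0 1 = 0 := by
    have h := congrFun (congrFun hinv 0) 1
    simp [Matrix.mul_apply, Fin.sum_univ_two, h01] at h
    exact h.resolve_right (F.C_diag_pos 1).ne'
  have hA10 : F.A 1 0 = 0 := by
    have h := congrFun (congrFun hinv 1) 0
    simp [Matrix.mul_apply, Fin.sum_univ_two, hC10] at h
    exact h.resolve_right (F.C_diag_pos 0).ne'
  have hc0 := F.C_diag_pos 0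
  have hc1 := F.C_diag_pos 1
  have hP0 : (0 : ℤ) < (p : ℤ) ^ (blockDefect p b) := pow_pos (by exact_mod_cast hp.out.pos) _
  have hA00 : 0 < F.A 0 0 := by nlinarith
  have hA11 : 0 < F.A 1 1 := by nlinarith
  set s := univ.filter (· ∈ B) with hs
  have hsB : ∀ χ ∈ s, χ ∈ B := fun χ hχ => (mem_filter.1 hχ).2
  -- the number of characters seen by each coordinate
  have hcount : ∀ i, (((s.filter fun χ => coord F x χ i ≠ 0)).card : ℤ) ≤ F.C i i := fun i => by
    have h := mul_card_le_diag hM hH hn hind F i (t := s.filter fun χ => coord F x χ i ≠ 0)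
      (fun χ hχ => hsB χ (mem_filter.1 hχ).1) one_ne_zero
      (fun χ _ => by simpa using isIntegral_coord F hH χ i) fun χ hχ => (mem_filter.1 hχ).2
    simpa using h
  have hk : (s.card : ℤ) ≤ F.C 0 0 + F.C 1 1 := by
    refine le_trans ?_ (add_le_add (hcount 0) (hcount 1))
    have hsub : s ⊆ s.filter (fun χ => coord F x χ 0 ≠ 0) ∪ s.filter fun χ => coord F x χ 1 ≠ 0 :=
      fun χ hχ => mem_union.2 ((hcov χ (hsB χ hχ)).imp (fun h => mem_filter.2 ⟨hχ, h⟩)
        fun h => mem_filter.2 ⟨hχ, h⟩)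
    exact_mod_cast (Finset.card_le_card hsub).trans (Finset.card_union_le _ _)
  have hp2 : (2 : ℤ) ≤ p := by exact_mod_cast hp.out.two_le
  have hdet := prime_dvd_det_two hpM hind.1 F
  rw [hA01, zero_mul, sub_zero] at hdet
  -- the first diagonal entry is divisible by `p`
  have hdiv0 : (p : ℤ) ∣ F.A 0 0 := by
    rcases (Nat.prime_iff_prime_int.1 hp.out).dvd_or_dvd hdet with h | h
    · exact h
    · have hle' : F.A 1 1 ≤ F.A 0 0 := by nlinarith
      by_contra h0
      have hcop : IsCoprime (F.A 0 0) ((p : ℤ) ^ (blockDefect p b)) :=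
        ((Nat.prime_iff_prime_int.1 hp.out).coprime_iff_not_dvd.2 h0).symm.pow_right
      have h1 : F.A 0 0 = 1 := by
        have hu := hcop.isUnit_of_dvd' dvd_rfl ⟨F.C 0 0, h00.symm⟩
        rcases Int.isUnit_iff.1 hu with h1 | h1 <;> omega
      have := Int.le_of_dvd hA11 h
      omega
  obtain ⟨a0, ha0⟩ := hdiv0
  have ha0pos : 1 ≤ a0 := by nlinarith
  by_cases hdiv1 : (p : ℤ) ∣ F.A 1 1
  · obtain ⟨a1, ha1⟩ := hdiv1
    have ha1pos : 1 ≤ a1 := by nlinarith
    rw [ha0] at h00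
    rw [ha1] at h11
    have e0 : 2 * F.C 0 0 ≤ ↑p * a0 * F.C 0 0 :=
      mul_le_mul_of_nonneg_right (by nlinarith) hc0.le
    have e1 : 2 * F.C 1 1 ≤ ↑p * a1 * F.C 1 1 :=
      mul_le_mul_of_nonneg_right (by nlinarith) hc1.le
    nlinarith
  have hA1 : F.A 1 1 = 1 := by
    have hcop : IsCoprime (F.A 1 1) ((p : ℤ) ^ (blockDefect p b)) :=
      ((Nat.prime_iff_prime_int.1 hp.out).coprime_iff_not_dvd.2 hdiv1).symm.pow_right
    rcases Int.isUnit_iff.1 (hcop.isUnit_of_dvd' dvd_rfl ⟨F.C 1 1, h11.symm⟩) with h1 | h1 <;> omega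
  rw [hA1, one_mul] at h11
  by_cases hall : ∀ χ ∈ s, coord F x χ 1 ≠ 0
  · have h := hcount 1
    rwa [Finset.filter_true_of_mem hall, h11] at h
  push Not at hall
  obtain ⟨χ₀, hχ₀, hzero⟩ := hall
  have hcontrib : ∀ (y : G) χ ψ, contrib p b y χ ψ =
      (F.A 0 0 : ℂ) * (coord F y χ 0 * conj (coord F y ψ 0)) +
        coord F y χ 1 * conj (coord F y ψ 1) := fun y χ ψ => by
    rw [contrib_eq_coord F hpM hind.1]
    simp [Fin.sum_univ_two, hA01, hA10, hA1]
    ring
  have hx : ∃ j, orderOf x = p ^ j := ⟨n, hn⟩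
  -- every character of height zero is seen by the first coordinate
  have hz0 : ∀ ψ ∈ s, blockHeight p B (ψ : G → ℂ) = 0 → coord F x ψ 0 ≠ 0 := by
    intro ψ hψ h0 h
    refine contrib_ne_zero_of_height_zero hpM hH hx hind hmaj (hsB χ₀ hχ₀) (hsB ψ hψ) h0 ?_
    rw [hcontrib, hzero, h, map_zero, mul_zero, mul_zero, zero_mul, add_zero]
  -- at height zero the second coordinate is a unit
  obtain ⟨ψ, hψ, hψ0⟩ := exists_blockHeight_eq_zero (p := p) hind.2.1
  haveI : NeZero (p ^ n) := ⟨pow_ne_zero _ hp.out.ne_zero⟩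
  have hN : x ^ (p ^ n) = 1 := by rw [← hn]; exact pow_orderOf_eq_one x
  have hcop : ∀ k ∈ unitsBelow (p ^ n), k.Coprime (orderOf x) := fun k hk => by
    rw [hn]; exact (mem_unitsBelow.1 hk).2
  have hunit : ∀ k ∈ unitsBelow (p ^ n), ¬ MemLocalIdeal M (coord F (x ^ k) ψ 1) := by
    intro k hk hmem
    have hHk := centralizer_pow_of_coprime hH (hcop k hk)
    refine not_memLocalIdeal_contrib hpM hHk (exists_orderOf_pow_of_coprime hx (hcop k hk)) hind
      hψ hψ ((blockHeight_eq_zero_iff hψ).1 hψ0) ((blockHeight_eq_zero_iff hψ).1 hψ0) ?_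
    rw [hcontrib, ha0]
    push_cast
    refine MemLocalIdeal.add' (MemLocalIdeal.mul_right' (MemLocalIdeal.mul_right'
      (memLocalIdeal_prime hpM) (intCast_mem _ _)) ?_) (MemLocalIdeal.mul_right' hmem ?_)
    · exact mul_mem (isIntegral_mem_loc (isIntegral_coord F hHk ψ 0))
        (isIntegral_mem_loc (map_isIntegral_int (starRingEnd ℂ) (isIntegral_coord F hHk ψ 0)))
    · exact isIntegral_mem_loc (map_isIntegral_int (starRingEnd ℂ) (isIntegral_coord F hHk ψ 1))
  obtain ⟨m, hm⟩ := exists_int_prod_conjugates (coord_mem_field F hH hN ψ 1)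
    (isIntegral_coord F hH ψ 1) (fun k => coord F (x ^ k) ψ 1)
    fun k hk σ hσ => coord_galois F hH hN (hcop k hk) hσ ψ 1
  have hmp : ¬ (p : ℤ) ∣ m := by
    intro hdvd
    have hmem : MemLocalIdeal M (∏ k ∈ unitsBelow (p ^ n), coord F (x ^ k) ψ 1) := by
      rw [← hm, show (m : ℂ) = (((m : AlgInt)) : ℂ) by norm_cast, memLocalIdeal_algInt_iff]
      exact (intCast_mem_iff hp.out hpM m).2 hdvd
    have hprod : ∀ t : Finset ℕ, t ⊆ unitsBelow (p ^ n) →
        ¬ MemLocalIdeal M (∏ k ∈ t, coord F (x ^ k) ψ 1) := by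
      intro t
      induction t using Finset.induction_on with
      | empty => exact fun _ h => not_memLocalIdeal_one (M := M) (by simpa using h)
      | insert a t ha ih =>
        intro hsub h
        rw [Finset.prod_insert ha] at h
        have hl : ∀ k ∈ unitsBelow (p ^ n), coord F (x ^ k) ψ 1 ∈ loc M := fun k hk =>
          isIntegral_mem_loc (isIntegral_coord F (centralizer_pow_of_coprime hH (hcop k hk)) ψ 1)
        rcases MemLocalIdeal.mem_or_mem (hl a (hsub (mem_insert_self a t)))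
          (prod_mem fun k hk => hl k (hsub (mem_insert_of_mem hk))) h with h1 | h1
        · exact hunit a (hsub (mem_insert_self a t)) h1
        · exact ih (fun k hk => hsub (mem_insert_of_mem hk)) h1
    exact hprod _ subset_rfl hmem
  -- at positive height the second coordinate is divisible by `p`
  have hdivp : ∀ χ ∈ s, 0 < blockHeight p B (χ : G → ℂ) →
      IsIntegral ℤ (coord F x χ 1 / ((p : ℕ) : ℂ)) := by
    intro χ hχ hpos
    have hp0 : (p : ℂ) ≠ 0 := Nat.cast_ne_zero.2 hp.out.ne_zero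
    have hi : ∀ z : ℤ, IsIntegral ℤ (z : ℂ) := fun z =>
      isIntegral_algebraMap (R := ℤ) (A := ℂ) (x := z)
    have hcj : ∀ {y : G}, (∀ c : G, c ∈ H ↔ c * y = y * c) → ∀ φ i,
        IsIntegral ℤ (conj (coord F y φ i)) :=
      fun hy φ i => map_isIntegral_int (starRingEnd ℂ) (isIntegral_coord F hy φ i)
    obtain ⟨j, hj⟩ : ∃ j, blockHeight p B (χ : G → ℂ) = j + 1 := ⟨_, (Nat.sub_add_cancel hpos).symm⟩
    have hw : IsIntegral ℤ (coord F x χ 1 * conj (coord F x ψ 1) / (p : ℂ)) := by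
      have h1 := isIntegral_contrib_div hpM hH hind.1 hmaj (hsB χ hχ) ψ
      rw [hj] at h1
      have e : coord F x χ 1 * conj (coord F x ψ 1) / (p : ℂ) =
          contrib p b x χ ψ / (p : ℂ) ^ (j + 1) * (p : ℂ) ^ j -
            (a0 : ℂ) * (coord F x χ 0 * conj (coord F x ψ 0)) := by
        rw [hcontrib x χ ψ, ha0]
        push_cast
        field_simp
        ring
      rw [e]
      refine ((h1.mul ?_)).sub ((hi a0).mul ((isIntegral_coord F hH χ 0).mul (hcj hH ψ 0)))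
      exact_mod_cast hi ((p : ℤ) ^ j)
    have hk0 : 1 % p ^ n ∈ unitsBelow (p ^ n) := by
      refine mem_unitsBelow.2 ⟨Nat.mod_lt _ (NeZero.pos _), ?_⟩
      rw [Nat.coprime_iff_gcd_eq_one, ← Nat.gcd_rec, Nat.gcd_one_right]
    have hx0 : x ^ (1 % p ^ n) = x := by rw [← pow_eq_pow_mod 1 hN, pow_one]
    have hm' : (m : ℂ) = conj (coord F x ψ 1) *
        ∏ k ∈ (unitsBelow (p ^ n)).erase (1 % p ^ n), conj (coord F (x ^ k) ψ 1) := by
      have h := congrArg conj hm
      rw [map_intCast, map_prod, ← Finset.mul_prod_erase _ _ hk0, hx0] at h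
      exact h
    have hwm : IsIntegral ℤ ((m : ℂ) * (coord F x χ 1 / (p : ℂ))) := by
      rw [hm', show ∀ a c e : ℂ, a * c * (e / (p : ℂ)) = e * a / (p : ℂ) * c by intros; ring]
      exact hw.mul (IsIntegral.prod _ fun k hk => hcj
        (centralizer_pow_of_coprime hH (hcop k (mem_of_mem_erase hk))) ψ 1)
    obtain ⟨c1, c2, hc⟩ : ∃ c1 c2 : ℤ, c1 * m + c2 * (p : ℤ) = 1 :=
      ((Nat.prime_iff_prime_int.1 hp.out).coprime_iff_not_dvd.2 hmp).symm
    have hc' : (c1 : ℂ) * m + c2 * (p : ℂ) = 1 := by exact_mod_cast hc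
    have e : coord F x χ 1 / (p : ℂ) =
        (c1 : ℂ) * ((m : ℂ) * (coord F x χ 1 / (p : ℂ))) + (c2 : ℂ) * coord F x χ 1 := by
      field_simp
      linear_combination (-(coord F x χ 1)) * hc'
    rw [e]
    exact ((hi c1).mul hwm).add ((hi c2).mul (isIntegral_coord F hH χ 1))
  set t := s.filter fun χ : IrrCharacter G => 0 < blockHeight p B (χ : G → ℂ) ∧ coord F x χ 1 ≠ 0 with ht
  have ht2 := mul_card_le_diag hM hH hn hind F 1 (t := t)
    (fun χ hχ => hsB χ (mem_filter.1 hχ).1) hp.out.ne_zero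
    (fun χ hχ => hdivp χ (mem_filter.1 hχ).1 (mem_filter.1 hχ).2.1) fun χ hχ => (mem_filter.1 hχ).2.2
  rw [h11] at ht2
  have hks : s.card ≤ (s.filter fun χ => coord F x χ 0 ≠ 0).card + t.card := by
    refine le_trans (Finset.card_le_card fun χ hχ => ?_) (Finset.card_union_le _ _)
    by_cases h0 : coord F x χ 0 = 0
    · refine mem_union.2 (Or.inr (mem_filter.2 ⟨hχ, ?_, (hcov χ (hsB χ hχ)).resolve_left
        (not_not.2 h0)⟩))
      exact Nat.pos_of_ne_zero fun h => hz0 χ hχ h h0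
    · exact mem_union.2 (Or.inl (mem_filter.2 ⟨hχ, h0⟩))
  have hks' : (s.card : ℤ) ≤ F.C 0 0 + (t.card : ℤ) :=
    le_trans (by exact_mod_cast hks) (add_le_add (hcount 0) le_rfl)
  rw [ha0] at h00
  push_cast at ht2
  have e1 : (p : ℤ) * F.C 0 0 * 1 ≤ (p : ℤ) * F.C 0 0 * a0 :=
    mul_le_mul_of_nonneg_left ha0pos (mul_nonneg (by positivity) hc0.le)
  have e2 : (p : ℤ) * ((p : ℤ) * F.C 0 0) ≤ (p : ℤ) * (p : ℤ) ^ blockDefect p b :=
    mul_le_mul_of_nonneg_left (by linarith) (by positivity)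
  have e3 : ((p : ℤ) + 1) * (p : ℤ) ^ blockDefect p b ≤
      (p : ℤ) ^ 2 * (p : ℤ) ^ blockDefect p b := mul_le_mul_of_nonneg_right (by nlinarith) hP0.le
  refine le_of_mul_le_mul_left ?_ (show (0 : ℤ) < (p : ℤ) ^ 2 by positivity)
  have e4 := mul_le_mul_of_nonneg_left hks' (show (0 : ℤ) ≤ (p : ℤ) ^ 2 by positivity)
  linarith

set_option maxHeartbeats 1000000 in
/-- `k(B) ≤ p ^ d` when a major subsection has rank at most two. -/
theorem card_le_of_rank_le_two (hl : blockRank p b ≤ 2) : Nat.card B ≤ p ^ blockDefect p B := by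
  classical
  have hpM := hM.2.2
  obtain ⟨F⟩ := exists_dMat_factor hpM hind.1
  have hx : ∃ j, orderOf x = p ^ j := ⟨n, hn⟩
  have hcovall : ∀ {r : ℕ} (F : Factor (dMat p b) ((p : ℤ) ^ blockDefect p b) r), ∀ χ ∈ B,
      ∃ i, coord F x χ i ≠ 0 := by
    intro r F χ hχ
    by_contra h
    push Not at h
    obtain ⟨ψ, hψ, h0⟩ := exists_blockHeight_eq_zero (p := p) hind.2.1
    refine contrib_ne_zero_of_height_zero hpM hH hx hind hmaj hχ hψ h0 ?_
    rw [contrib_eq_coord F hpM hind.1]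
    exact Finset.sum_eq_zero fun i _ => Finset.sum_eq_zero fun j _ => by rw [h i, zero_mul, zero_mul]
  rw [← hmaj, Nat.card_eq_fintype_card, Fintype.card_subtype]
  suffices h : ((univ.filter (· ∈ B)).card : ℤ) ≤ (p : ℤ) ^ blockDefect p b by exact_mod_cast h
  set s := univ.filter (· ∈ B) with hs
  have hsB : ∀ χ ∈ s, χ ∈ B := fun χ hχ => (mem_filter.1 hχ).2
  obtain hl0 | hl1 | hl2 : blockRank p b = 0 ∨ blockRank p b = 1 ∨ blockRank p b = 2 := by omega
  · obtain ⟨χ, hχ⟩ := Blocks.IsPBlock.nonempty hind.2.1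
    obtain ⟨i, -⟩ := hcovall F χ hχ
    exact absurd i.2 (by omega)
  · rw [hl1] at F
    have h := mul_card_le_diag hM hH hn hind F 0 (t := s) hsB one_ne_zero
      (fun χ _ => by simpa using isIntegral_coord F hH χ 0)
      fun χ hχ => by obtain ⟨i, hi⟩ := hcovall F χ (hsB χ hχ); rwa [Subsingleton.elim i 0] at hi
    have hA := congrFun (congrFun F.inv' 0) 0
    simp [Matrix.mul_apply] at hA
    have hP0 : (0 : ℤ) < (p : ℤ) ^ blockDefect p b := pow_pos (by exact_mod_cast hp.out.pos) _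
    have := F.C_diag_pos 0
    simp only [one_pow, one_mul] at h
    have hA0 : 0 < F.A 0 0 := by
      by_contra h0
      nlinarith [mul_nonpos_of_nonpos_of_nonneg (le_of_not_gt h0) this.le]
    nlinarith [mul_le_mul_of_nonneg_right (show (1 : ℤ) ≤ F.A 0 0 by omega) this.le]
  rw [hl2] at F
  obtain ⟨F, hb1, hb2, hle⟩ := F.exists_reduced
  have hcov : ∀ χ ∈ B, coord F x χ 0 ≠ 0 ∨ coord F x χ 1 ≠ 0 := fun χ hχ => by
    obtain ⟨i, hi⟩ := hcovall F χ hχ
    fin_cases i
    · exact Or.inl hi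
    · exact Or.inr hi
  by_cases h01 : F.C 0 1 = 0
  · exact card_le_of_orthogonal hM hH hn hind hmaj F h01 hle hcov
  have hcount : ∀ α : Fin 2 → ℤ, (((s.filter fun χ => linCoord F α x χ ≠ 0)).card : ℤ) ≤
      ∑ i, ∑ j, α i * α j * F.C i j := fun α => by
    have h := mul_card_le_form hM hH hn hind F α (t := s.filter fun χ => linCoord F α x χ ≠ 0)
      (fun χ hχ => hsB χ (mem_filter.1 hχ).1) one_ne_zero
      (fun χ _ => by simpa using isIntegral_linCoord F hH α χ) fun χ hχ => (mem_filter.1 hχ).2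
    simpa using h
  have hC10 : F.C 1 0 = F.C 0 1 := congrFun (congrFun F.transpose_C 0) 1
  have c0 := hcount ![1, 0]
  have c1 := hcount ![0, 1]
  have c2 := hcount ![1, 1]
  simp [linCoord, Fin.sum_univ_two] at c0 c1 c2
  rw [hC10] at c2
  have htwo : 2 * s.card ≤ (s.filter fun χ => coord F x χ 0 ≠ 0).card +
      (s.filter fun χ => coord F x χ 1 ≠ 0).card +
      (s.filter fun χ => coord F x χ 0 + coord F x χ 1 ≠ 0).card := by
    simp only [Finset.card_filter, ← Finset.sum_add_distrib]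
    rw [mul_comm, ← smul_eq_mul, ← Finset.sum_const]
    refine Finset.sum_le_sum fun χ hχ => ?_
    rcases eq_or_ne (coord F x χ 0) 0 with h | h <;>
      rcases eq_or_ne (coord F x χ 1) 0 with h' | h'
    · exact absurd (hcov χ (hsB χ hχ)) (by simp [h, h'])
    · simp [h, h']
    · simp [h, h']
    · simp [h, h']
  -- the determinant divides `p ^ d` times the content
  obtain ⟨P, hP⟩ : ∃ P : ℤ, P = (p : ℤ) ^ blockDefect p b := ⟨_, rfl⟩
  have hP0 : 0 < P := hP ▸ pow_pos (by exact_mod_cast hp.out.pos) _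
  rw [← hP]
  set a := F.C 0 0 with ha
  set c := F.C 1 1 with hc
  obtain ⟨β, hβ⟩ : ∃ β, F.C 0 1 = -β := ⟨-F.C 0 1, by ring⟩
  rw [hβ] at hb1 hb2 h01 c2 hC10
  have i00 := congrFun (congrFun F.inv' 0) 0
  have i01 := congrFun (congrFun F.inv' 0) 1
  have i10 := congrFun (congrFun F.inv' 1) 0
  have i11 := congrFun (congrFun F.inv' 1) 1
  simp [Matrix.mul_apply, Fin.sum_univ_two, hβ, hC10, ← ha, ← hc, ← hP] at i00 i01 i10 i11
  have hk : (s.card : ℤ) ≤ a + c - β := by
    have : (2 * s.card : ℤ) ≤ a + c + (a + -β + (-β + c)) := by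
      refine le_trans ?_ (add_le_add (add_le_add c0 c1) c2)
      exact_mod_cast htwo
    linarith
  set g : ℕ := Int.gcd (Int.gcd a β : ℤ) c with hg
  have hd0 : (g : ℤ) ∣ (Int.gcd a β : ℤ) := Int.gcd_dvd_left _ _
  obtain ⟨a', ha'⟩ := hd0.trans (Int.gcd_dvd_left a β)
  obtain ⟨β', hβ'⟩ := hd0.trans (Int.gcd_dvd_right a β)
  obtain ⟨c', hc'⟩ : (g : ℤ) ∣ c := Int.gcd_dvd_right _ _
  have hβpos : 0 < β := by omega
  have hapos := F.C_diag_pos 0
  rw [← ha] at hapos
  have hdvd : a * c - β * β ∣ P * (g : ℤ) := by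
    have d1 : a * c - β * β ∣ P * a := ⟨F.A 1 1, by linear_combination -a * i11 - β * i10⟩
    have d2 : a * c - β * β ∣ P * β := ⟨F.A 0 1, by linear_combination -β * i00 - a * i01⟩
    have d3 : a * c - β * β ∣ P * c := ⟨F.A 0 0, by linear_combination -c * i00 - β * i01⟩
    rw [hg, Int.gcd_eq_gcd_ab, Int.gcd_eq_gcd_ab, mul_add, add_mul, mul_add,
      ← mul_assoc, ← mul_assoc, ← mul_assoc, ← mul_assoc, ← mul_assoc]
    exact dvd_add (dvd_add (dvd_mul_of_dvd_left (dvd_mul_of_dvd_left d1 _) _)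
      (dvd_mul_of_dvd_left (dvd_mul_of_dvd_left d2 _) _)) (dvd_mul_of_dvd_left d3 _)
  have hg0 : (0 : ℤ) < g := by
    rcases Nat.eq_zero_or_pos g with h | h
    · rw [h, Nat.cast_zero, zero_mul] at ha'; omega
    · exact_mod_cast h
  obtain ⟨m, hm⟩ := hdvd
  rw [ha', hβ', hc'] at hm hk
  rw [ha'] at hb1 hle hapos
  rw [hc'] at hle
  rw [hβ'] at hb1 hβpos
  have hβ1 : 0 < β' := pos_of_mul_pos_right hβpos hg0.le
  have h2 : 2 * β' ≤ a' := by nlinarith
  have h3 : a' ≤ c' := le_of_mul_le_mul_left hle hg0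
  have hΔ : a' + c' - β' ≤ a' * c' - β' * β' := by
    have := mul_le_mul (show 2 * β' - 1 ≤ a' - 1 by omega) (show 2 * β' - 1 ≤ c' - 1 by omega)
      (by omega) (by omega)
    have := mul_nonneg hβ1.le (show (0 : ℤ) ≤ β' - 1 by omega)
    linarith
  have hΔ0 : 0 < a' * c' - β' * β' := by omega
  have hm' : P = (g : ℤ) * (a' * c' - β' * β') * m := by
    apply mul_right_cancel₀ hg0.ne'
    linear_combination hm
  have hm1 : 1 ≤ m := pos_of_mul_pos_right (hm' ▸ hP0) (mul_pos hg0 hΔ0).le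
  linarith [mul_le_mul_of_nonneg_left hΔ hg0.le,
    mul_le_mul_of_nonneg_left hm1 (mul_pos hg0 hΔ0).le]

end CfsgLib.BlockOrth
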