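import Mathlib
import Cfsg.Agent.Lib.Base.Cores
import Cfsg.Agent.Lib.Chars.Irr
import Cfsg.Agent.Lib.Transfer.NormalPComplement

/-!
# Groups with a self-centralizing element of prime order
-/

set_option autoImplicit false
set_option linter.style.haveILetI false
set_option linter.unusedSectionVars false

namespace CfsgLib.BlockOrth

open Subgroup
open scoped Pointwise commutatorElement

variable {G : Type*} [Group G] [Finite G] {p : ℕ} [Fact p.Prime] {x : G}

theorem card_zpowers_eq (hx : orderOf x = p) : Nat.card (zpowers x) = p := by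
  rw [Nat.card_zpowers, hx]

theorem centralizer_of_mem (hx : orderOf x = p) (hC : centralizer ({x} : Set G) = zpowers x)
    {y : G} (hy : y ∈ zpowers x) (hy1 : y ≠ 1) : centralizer ({y} : Set G) = zpowers x := by
  have he : zpowers y = zpowers x := by
    refine Subgroup.eq_of_le_of_card_ge (zpowers_le.mpr hy) ?_
    rw [card_zpowers_eq hx, Nat.card_zpowers]
    obtain ⟨i, rfl⟩ := mem_zpowers_iff.mp hy
    have hd : orderOf (x ^ i) ∣ p := hx ▸ orderOf_dvd_of_mem_zpowers (mem_zpowers_iff.mpr ⟨i, rfl⟩)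
    rcases (Nat.dvd_prime Fact.out).mp hd with h | h
    · exact absurd (orderOf_eq_one_iff.mp h) hy1
    · exact h.ge
  refine le_antisymm (fun g hg => ?_) ?_
  · rw [← hC, mem_centralizer_singleton_iff]
    obtain ⟨i, rfl⟩ : ∃ i : ℤ, y ^ i = x := mem_zpowers_iff.mp (he ▸ mem_zpowers x)
    exact ((Commute.zpow_right (mem_centralizer_singleton_iff.mp hg : Commute g y) i))
  · intro g hg
    rw [mem_centralizer_singleton_iff]
    obtain ⟨i, rfl⟩ := mem_zpowers_iff.mp hg
    obtain ⟨j, rfl⟩ := mem_zpowers_iff.mp hy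
    exact ((Commute.refl x).zpow_zpow i j)

/-- `⟨x⟩` is a Sylow subgroup. -/
theorem exists_sylow_eq (hx : orderOf x = p) (hC : centralizer ({x} : Set G) = zpowers x) :
    ∃ P : Sylow p G, (P : Subgroup G) = zpowers x := by
  have hp : p.Prime := Fact.out
  have hP : IsPGroup p (zpowers x) := IsPGroup.of_card (n := 1) (by rw [card_zpowers_eq hx, pow_one])
  obtain ⟨S, hS⟩ := hP.exists_le_sylow
  refine ⟨S, le_antisymm ?_ hS⟩
  have : Nontrivial (S : Subgroup G) := ⟨⟨⟨x, hS (mem_zpowers x)⟩, 1, fun h => by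
    have : x = 1 := congrArg Subtype.val h
    rw [this, orderOf_one] at hx
    exact hp.ne_one hx.symm⟩⟩
  haveI := S.isPGroup'.center_nontrivial
  obtain ⟨z, hz1⟩ := exists_ne (1 : center (S : Subgroup G))
  have hzx : ((z : (S : Subgroup G)) : G) ∈ zpowers x := by
    rw [← hC, mem_centralizer_singleton_iff]
    exact (congrArg Subtype.val (mem_center_iff.mp z.2 ⟨x, hS (mem_zpowers x)⟩)).symm
  rw [← centralizer_of_mem hx hC hzx fun h => hz1 (Subtype.ext (Subtype.ext h))]
  intro g hg
  rw [mem_centralizer_singleton_iff]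
  exact congrArg Subtype.val (mem_center_iff.mp z.2 ⟨g, hg⟩)

theorem card_prime_subgroups (hx : orderOf x = p) (hC : centralizer ({x} : Set G) = zpowers x) :
    Nat.card {H : Subgroup G // Nat.card H = p} = (normalizer (zpowers x : Set G)).index := by
  obtain ⟨P, hP⟩ := exists_sylow_eq hx hC
  rw [← hP]
  show _ = (normalizer (P : Set G)).index
  rw [← Sylow.card_eq_index_normalizer P]
  have hm : p ^ (Nat.card G).factorization p = p := by
    rw [← P.card_eq_multiplicity, show Nat.card P = p by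
      rw [show Nat.card P = Nat.card (P : Subgroup G) from rfl, hP, card_zpowers_eq hx]]
  refine Nat.card_congr
    { toFun := fun H => Sylow.ofCard H.1 (by rw [H.2, hm])
      invFun := fun Q => ⟨Q, by rw [Q.card_eq_multiplicity, hm]⟩
      left_inv := fun H => rfl
      right_inv := fun Q => Sylow.ext rfl }

theorem card_elements (hx : orderOf x = p) (hC : centralizer ({x} : Set G) = zpowers x) :
    Nat.card {g : G // orderOf g = p} = (p - 1) * (normalizer (zpowers x : Set G)).index := by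
  classical
  have hp : p.Prime := Fact.out
  rw [← card_prime_subgroups hx hC]
  have hgen : ∀ (H : Subgroup G), Nat.card H = p → ∀ h ∈ H, h ≠ 1 → orderOf h = p ∧ zpowers h = H := by
    intro H hH h hh h1
    have hd : orderOf h ∣ p := hH ▸ Subgroup.orderOf_dvd_natCard H hh
    have ho : orderOf h = p := ((Nat.dvd_prime hp).mp hd).resolve_left fun e =>
      h1 (orderOf_eq_one_iff.mp e)
    exact ⟨ho, Subgroup.eq_of_le_of_card_ge (zpowers_le.mpr hh) (by rw [hH, Nat.card_zpowers, ho])⟩
  let e : {g : G // orderOf g = p} ≃ (H : {H : Subgroup G // Nat.card H = p}) × {h : H.1 // h ≠ 1} :=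
    { toFun := fun g => ⟨⟨zpowers g.1, by rw [Nat.card_zpowers, g.2]⟩, ⟨g.1, mem_zpowers g.1⟩,
        fun h => hp.ne_one (by rw [← g.2, show g.1 = 1 from congrArg Subtype.val h, orderOf_one])⟩
      invFun := fun q => ⟨q.2.1.1, (hgen q.1.1 q.1.2 _ q.2.1.2
        fun h => q.2.2 (Subtype.ext h)).1⟩
      left_inv := fun g => rfl
      right_inv := fun q => by
        obtain ⟨⟨H, hH⟩, ⟨⟨h, hh⟩, h1⟩⟩ := q
        obtain ⟨-, rfl⟩ := hgen H hH h hh fun e => h1 (Subtype.ext e)
        rfl }
  haveI := Fintype.ofFinite {H : Subgroup G // Nat.card H = p}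
  have hcard : ∀ H : {H : Subgroup G // Nat.card H = p}, Nat.card {h : H.1 // h ≠ 1} = p - 1 :=
    fun H => by
      haveI := Fintype.ofFinite H.1
      rw [Nat.card_eq_fintype_card, Fintype.card_subtype_compl, Fintype.card_subtype_eq,
        ← Nat.card_eq_fintype_card, H.2]
  rw [Nat.card_congr e, Nat.card_sigma]
  simp only [hcard, Finset.sum_const, smul_eq_mul, Finset.card_univ, ← Nat.card_eq_fintype_card]
  rw [mul_comm]

/-- The number of classes of elements of order `p`, times the index of `⟨x⟩` in its normalizer,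
is `p - 1`. -/
theorem card_classes_mul (hx : orderOf x = p) (hC : centralizer ({x} : Set G) = zpowers x) :
    Nat.card {C : ConjClasses G // ∃ g ∈ C.carrier, orderOf g = p} *
      (zpowers x).relIndex (normalizer (zpowers x : Set G)) = p - 1 := by
  classical
  obtain ⟨P, hP⟩ := exists_sylow_eq hx hC
  set t := Nat.card {C : ConjClasses G // ∃ g ∈ C.carrier, orderOf g = p}
  have hmem : ∀ (C : ConjClasses G), (∃ g ∈ C.carrier, orderOf g = p) →
      Nat.card C.carrier = (zpowers x).index ∧ ∀ g ∈ C.carrier, orderOf g = p := by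
    rintro C ⟨g, hg, hgo⟩
    have hall : ∀ h ∈ C.carrier, IsConj g h := fun h hh =>
      ConjClasses.mk_eq_mk_iff_isConj.mp
        ((ConjClasses.mem_carrier_iff_mk_eq.mp hg).trans (ConjClasses.mem_carrier_iff_mk_eq.mp hh).symm)
    refine ⟨?_, fun h hh => ?_⟩
    swap
    · obtain ⟨c, rfl⟩ := isConj_iff.mp (hall h hh)
      rw [← MulAut.conj_apply, MulEquiv.orderOf_eq, hgo]
    -- a conjugate of `g` lies in `⟨x⟩`
    have hgp : IsPGroup p (zpowers g) :=
      IsPGroup.of_card (n := 1) (by rw [Nat.card_zpowers, hgo, pow_one])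
    obtain ⟨Q, hQ⟩ := hgp.exists_le_sylow
    obtain ⟨c, hc⟩ := MulAction.exists_smul_eq G Q P
    have hy : c * g * c⁻¹ ∈ zpowers x := by
      rw [← hP, ← hc]
      exact ⟨g, hQ (mem_zpowers g), rfl⟩
    have hy1 : c * g * c⁻¹ ≠ 1 := fun h => (Fact.out : p.Prime).ne_one (by
      rw [← hgo, conj_eq_one_iff.mp h, orderOf_one])
    rw [← centralizer_of_mem hx hC hy hy1, CfsgLib.Chars.index_centralizer_eq]
    refine Nat.card_congr (Equiv.subtypeEquivRight fun h => ?_)
    have hcg : IsConj g (c * g * c⁻¹) := isConj_iff.mpr ⟨c, rfl⟩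
    rw [ConjClasses.mem_carrier_iff_mk_eq, ← ConjClasses.mem_carrier_iff_mk_eq.mp hg,
      ConjClasses.mk_eq_mk_iff_isConj]
    exact ⟨fun h' => hcg.symm.trans h'.symm, fun h' => (hcg.trans h').symm⟩
  have key : Nat.card {g : G // orderOf g = p} = t * (zpowers x).index := by
    let e : {g : G // orderOf g = p} ≃
        (C : {C : ConjClasses G // ∃ g ∈ C.carrier, orderOf g = p}) × C.1.carrier :=
      { toFun := fun g => ⟨⟨ConjClasses.mk g.1, g.1, ConjClasses.mem_carrier_mk, g.2⟩,
          ⟨g.1, ConjClasses.mem_carrier_mk⟩⟩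
        invFun := fun q => ⟨q.2.1, (hmem q.1.1 q.1.2).2 _ q.2.2⟩
        left_inv := fun g => rfl
        right_inv := fun q => by
          obtain ⟨⟨C, hC⟩, ⟨h, hh⟩⟩ := q
          obtain rfl := ConjClasses.mem_carrier_iff_mk_eq.mp hh
          rfl }
    haveI := Fintype.ofFinite {C : ConjClasses G // ∃ g ∈ C.carrier, orderOf g = p}
    rw [Nat.card_congr e, Nat.card_sigma,
      Finset.sum_congr rfl (fun C _ => (hmem C.1 C.2).1), Finset.sum_const, smul_eq_mul,
      Finset.card_univ, ← Nat.card_eq_fintype_card]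
  rw [card_elements hx hC, ← Subgroup.relIndex_mul_index (le_normalizer : zpowers x ≤ _),
    ← mul_assoc] at key
  exact (Nat.eq_of_mul_eq_mul_right
    (Nat.pos_of_ne_zero Subgroup.index_ne_zero_of_finite) key).symm

/-- A normal subgroup of order prime to `p` has a fixed point free action of `x`. -/
theorem mem_normal_iff (hx : orderOf x = p) (hC : centralizer ({x} : Set G) = zpowers x)
    (K : Subgroup G) [K.Normal] : x ∈ K ↔ p ∣ Nat.card K := by
  refine ⟨fun h => hx ▸ Subgroup.orderOf_dvd_natCard K h, fun h => ?_⟩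
  obtain ⟨P, hP⟩ := exists_sylow_eq hx hC
  obtain ⟨k, hk⟩ := exists_prime_orderOf_dvd_card' p h
  have hkp : IsPGroup p (zpowers (k : G)) :=
    IsPGroup.of_card (n := 1) (by rw [Nat.card_zpowers, Subgroup.orderOf_coe, hk, pow_one])
  obtain ⟨Q, hQ⟩ := hkp.exists_le_sylow
  obtain ⟨c, hc⟩ := MulAction.exists_smul_eq G Q P
  have hy : c * k * c⁻¹ ∈ zpowers x := by
    rw [← hP, ← hc]
    exact ⟨k, hQ (mem_zpowers _), rfl⟩
  have hle : zpowers (c * (k : G) * c⁻¹) = zpowers x := by
    refine Subgroup.eq_of_le_of_card_ge (zpowers_le.mpr hy) ?_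
    rw [card_zpowers_eq hx, Nat.card_zpowers, ← MulAut.conj_apply, MulEquiv.orderOf_eq,
      Subgroup.orderOf_coe, hk]
  have hle2 : zpowers (c * (k : G) * c⁻¹) ≤ K :=
    zpowers_le.mpr (Subgroup.Normal.conj_mem inferInstance _ k.2 c)
  exact hle2 (hle.ge (mem_zpowers x))

theorem inf_zpowers_eq_bot (hx : orderOf x = p) (K : Subgroup G) (hK : x ∉ K) :
    K ⊓ zpowers x = ⊥ := by
  have hd := Subgroup.card_dvd_of_le (inf_le_right : K ⊓ zpowers x ≤ zpowers x)
  rw [card_zpowers_eq hx] at hd
  rcases (Nat.dvd_prime Fact.out).mp hd with h | h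
  · exact Subgroup.eq_bot_of_card_eq _ h
  · exact absurd ((Subgroup.eq_of_le_of_card_ge (inf_le_right : K ⊓ zpowers x ≤ zpowers x)
      (by rw [h, card_zpowers_eq hx])).ge (mem_zpowers x)).1 hK

variable {K : Subgroup G} [K.Normal]

/-- The map `k ↦ [k, x]` on a normal `p'`-subgroup. -/
theorem commutator_map_bijective (hx : orderOf x = p)
    (hC : centralizer ({x} : Set G) = zpowers x) (hK : x ∉ K) :
    Function.Bijective (fun k : K => (⟨(k : G) * x * (k : G)⁻¹ * x⁻¹, by
      rw [mul_assoc, mul_assoc]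
      exact K.mul_mem k.2 (by
        simpa [mul_assoc] using Subgroup.Normal.conj_mem inferInstance _ (K.inv_mem k.2) x)⟩ : K)) := by
  refine Finite.injective_iff_bijective.mp fun a b h => ?_
  have h' : (a : G) * x * (a : G)⁻¹ = b * x * (b : G)⁻¹ :=
    mul_right_cancel (congrArg Subtype.val h)
  have hm : (b : G)⁻¹ * a ∈ K ⊓ zpowers x := by
    refine ⟨K.mul_mem (K.inv_mem b.2) a.2, ?_⟩
    rw [← hC]
    show _ ∈ centralizer ({x} : Set G)
    rw [mem_centralizer_singleton_iff]
    calc (b : G)⁻¹ * a * x = (b : G)⁻¹ * ((a : G) * x * (a : G)⁻¹) * a := by group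
      _ = _ := by rw [h']; group
  rw [inf_zpowers_eq_bot hx K hK, mem_bot, inv_mul_eq_one] at hm
  exact Subtype.ext hm.symm

theorem le_commutator_of_notMem (hx : orderOf x = p)
    (hC : centralizer ({x} : Set G) = zpowers x) (hK : x ∉ K) : K ≤ ⁅K, zpowers x⁆ := by
  intro k hk
  obtain ⟨a, ha⟩ := (commutator_map_bijective hx hC hK).2 ⟨k, hk⟩
  rw [← show (a : G) * x * (a : G)⁻¹ * x⁻¹ = k from congrArg Subtype.val ha]
  exact commutator_mem_commutator a.2 (mem_zpowers x)

theorem card_mod_eq_one (hx : orderOf x = p) (hC : centralizer ({x} : Set G) = zpowers x)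
    (hK : x ∉ K) : Nat.card K % p = 1 := by
  have hp : p.Prime := Fact.out
  letI : MulAction (zpowers x) K :=
    MulAction.compHom K ((MulAut.conjNormal (H := K)).comp (zpowers x).subtype)
  have hP : IsPGroup p (zpowers x) := IsPGroup.of_card (n := 1) (by rw [card_zpowers_eq hx, pow_one])
  have h := hP.card_modEq_card_fixedPoints K
  have hfix : Nat.card (MulAction.fixedPoints (zpowers x) K) = 1 := by
    rw [Nat.card_eq_one_iff_unique]
    refine ⟨⟨fun a b => Subtype.ext ?_⟩, ⟨⟨1, fun g => ?_⟩⟩⟩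
    · have h1 : ∀ c : MulAction.fixedPoints (zpowers x) K, (c.1 : G) ∈ K ⊓ zpowers x := fun c => by
        refine ⟨c.1.2, hC.le ?_⟩
        rw [mem_centralizer_singleton_iff]
        have h2 : x * (c.1 : G) * x⁻¹ = c.1 := congrArg Subtype.val (c.2 ⟨x, mem_zpowers x⟩)
        exact (mul_inv_eq_iff_eq_mul.mp h2).symm
      have ha := h1 a
      have hb := h1 b
      rw [inf_zpowers_eq_bot hx K hK, mem_bot] at ha hb
      exact Subtype.ext (ha.trans hb.symm)
    · exact map_one (MulAut.conjNormal ((zpowers x).subtype g))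
  rw [hfix] at h
  rw [Nat.ModEq, Nat.one_mod_eq_one.mpr hp.ne_one] at h
  exact h

/-- An element centralizing `x` modulo `K` lies in `K⟨x⟩`. -/
theorem mem_sup_of_commutator_mem (hx : orderOf x = p)
    (hC : centralizer ({x} : Set G) = zpowers x) (hK : x ∉ K) {g : G}
    (hg : g * x * g⁻¹ * x⁻¹ ∈ K) : g ∈ K ⊔ zpowers x := by
  obtain ⟨a, ha⟩ := (commutator_map_bijective hx hC hK).2 ⟨_, hg⟩
  have h' : (a : G) * x * (a : G)⁻¹ = g * x * g⁻¹ := mul_right_cancel (congrArg Subtype.val ha)
  have hc : (a : G)⁻¹ * g ∈ zpowers x := by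
    rw [← hC, mem_centralizer_singleton_iff]
    calc (a : G)⁻¹ * g * x = (a : G)⁻¹ * (g * x * g⁻¹) * g := by group
      _ = _ := by rw [← h']; group
  rw [show g = (a : G) * ((a : G)⁻¹ * g) by group]
  exact mul_mem_sup a.2 hc

end CfsgLib.BlockOrth
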