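import Cfsg.Agent.Lib.BlockOrth.SelfCentral

/-!
# Normal structure of groups with a self-centralizing element of prime order
-/

set_option autoImplicit false
set_option linter.style.haveILetI false
set_option linter.unusedSectionVars false

namespace CfsgLib.BlockOrth

open Subgroup
open scoped Pointwise commutatorElement

variable {G : Type*} [Group G] [Finite G] {p : ℕ} [Fact p.Prime] {x : G}

theorem sup_card_eq {S : Subgroup G} [S.Normal] {H : Subgroup G} (h : S ⊓ H = ⊥) :
    Nat.card (S ⊔ H : Subgroup G) = Nat.card S * Nat.card H := by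
  have h1 := (S.subgroupOf (S ⊔ H)).card_mul_index
  rw [Nat.card_congr (Subgroup.subgroupOfEquivOfLe le_sup_left).toEquiv] at h1
  have h2 : S.relIndex (S ⊔ H) = Nat.card H := by
    rw [relIndex_sup_left, ← inf_relIndex_right, h, relIndex_bot_left]
  rw [← h1, ← h2]
  rfl

/-- `G'` contains `x` unless the normalizer of `⟨x⟩` is trivial. -/
theorem mem_commutator (hx : orderOf x = p) (hC : centralizer ({x} : Set G) = zpowers x)
    (he : (zpowers x).relIndex (normalizer (zpowers x : Set G)) ≠ 1) : x ∈ commutator G := by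
  rw [Ne, relIndex_eq_one] at he
  obtain ⟨n, hn, hnx⟩ := SetLike.not_le_iff_exists.mp he
  have hmem : n * x * n⁻¹ * x⁻¹ ∈ zpowers x := by
    refine mul_mem ?_ (inv_mem (mem_zpowers x))
    exact (mem_normalizer_iff.mp hn x).mp (mem_zpowers x)
  have hne : n * x * n⁻¹ * x⁻¹ ≠ 1 := by
    intro h
    apply hnx
    rw [← hC, mem_centralizer_singleton_iff]
    exact mul_inv_eq_iff_eq_mul.mp (mul_inv_eq_one.mp h)
  have hle : zpowers x ≤ commutator G := by
    have hc : n * x * n⁻¹ * x⁻¹ ∈ commutator G :=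
      commutator_mem_commutator (mem_top n) (mem_top x)
    have h2 : zpowers (n * x * n⁻¹ * x⁻¹) = zpowers x := by
      refine Subgroup.eq_of_le_of_card_ge (zpowers_le.mpr hmem) ?_
      rw [card_zpowers_eq hx, Nat.card_zpowers]
      have hd := hx ▸ orderOf_dvd_of_mem_zpowers hmem
      exact (((Nat.dvd_prime Fact.out).mp hd).resolve_left fun h => hne (orderOf_eq_one_iff.mp h)).ge
    rw [← h2]
    exact zpowers_le.mpr hc
  exact hle (mem_zpowers x)

/-- Two elements of the normalizer of `⟨x⟩` commute modulo `⟨x⟩`. -/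
theorem commutator_mem_zpowers (hC : centralizer ({x} : Set G) = zpowers x)
    {a b : G} (ha : a ∈ normalizer (zpowers x : Set G)) (hb : b ∈ normalizer (zpowers x : Set G)) :
    ⁅a, b⁆ ∈ zpowers x := by
  obtain ⟨i, hi⟩ := mem_zpowers_iff.mp ((mem_normalizer_iff.mp ha x).mp (mem_zpowers x))
  obtain ⟨j, hj⟩ := mem_zpowers_iff.mp ((mem_normalizer_iff.mp hb x).mp (mem_zpowers x))
  have h1 : a * b * x * (a * b)⁻¹ = x ^ (i * j) := by
    rw [zpow_mul, hi]
    calc a * b * x * (a * b)⁻¹ = a * (b * x * b⁻¹) * a⁻¹ := by group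
      _ = (a * x * a⁻¹) ^ j := by rw [← hj, conj_zpow]
  have h2 : b * a * x * (b * a)⁻¹ = x ^ (i * j) := by
    rw [mul_comm i j, zpow_mul, hj]
    calc b * a * x * (b * a)⁻¹ = b * (a * x * a⁻¹) * b⁻¹ := by group
      _ = (b * x * b⁻¹) ^ i := by rw [← hi, conj_zpow]
  have hm : (b * a)⁻¹ * (a * b) ∈ zpowers x := by
    rw [← hC, mem_centralizer_singleton_iff]
    calc (b * a)⁻¹ * (a * b) * x = (b * a)⁻¹ * (a * b * x * (a * b)⁻¹) * (a * b) := by group
      _ = (b * a)⁻¹ * (b * a * x * (b * a)⁻¹) * (a * b) := by rw [h1, h2]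
      _ = _ := by group
  have := (mem_normalizer_iff.mp (mul_mem hb ha) _).mp hm
  rw [show b * a * ((b * a)⁻¹ * (a * b)) * (b * a)⁻¹ = ⁅a, b⁆ by rw [commutatorElement_def]; group]
    at this
  exact this

/-- A normal subgroup containing `x` contains the derived group, with index dividing
`[N(⟨x⟩) : ⟨x⟩]`. -/
theorem normal_of_mem (hx : orderOf x = p) (hC : centralizer ({x} : Set G) = zpowers x)
    (S : Subgroup G) [hS : S.Normal] (hxS : x ∈ S) :
    commutator G ≤ S ∧ S.index ∣ (zpowers x).relIndex (normalizer (zpowers x : Set G)) := by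
  obtain ⟨P, hP⟩ := exists_sylow_eq hx hC
  have hPS : (P : Subgroup G) ≤ S := hP ▸ zpowers_le.mpr hxS
  have htop : normalizer (zpowers x : Set G) ⊔ S = ⊤ := by
    rw [← hP]; exact P.normalizer_sup_eq_top' hPS
  constructor
  · rw [← Normal.quotient_commutative_iff_commutator_le]
    refine ⟨⟨fun u v => ?_⟩⟩
    obtain ⟨g, rfl⟩ := QuotientGroup.mk_surjective u
    obtain ⟨h, rfl⟩ := QuotientGroup.mk_surjective v
    have hdec : ∀ g : G, ∃ n ∈ normalizer (zpowers x : Set G), (g : G ⧸ S) = (n : G ⧸ S) := by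
      intro g
      obtain ⟨n, hn, s, hs, rfl⟩ := Subgroup.mem_sup_of_normal_right.mp (htop ▸ mem_top g)
      refine ⟨n, hn, ?_⟩
      rw [QuotientGroup.mk_mul, (QuotientGroup.eq_one_iff s).mpr hs, mul_one]
    obtain ⟨a, ha, hga⟩ := hdec g
    obtain ⟨b, hb, hhb⟩ := hdec h
    rw [hga, hhb]
    apply commutatorElement_eq_one_iff_mul_comm.mp
    exact (QuotientGroup.eq_one_iff ⁅a, b⁆).mpr (zpowers_le.mpr hxS (commutator_mem_zpowers hC ha hb))
  · rw [← relIndex_top_right, ← htop, relIndex_sup_right]
    exact relIndex_dvd_of_le_left _ (zpowers_le.mpr hxS)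

/-- When the normalizer of `⟨x⟩` is `⟨x⟩`, the derived group is a normal `p`-complement. -/
theorem commutator_of_relIndex_one (hx : orderOf x = p)
    (hC : centralizer ({x} : Set G) = zpowers x)
    (he : (zpowers x).relIndex (normalizer (zpowers x : Set G)) = 1) :
    x ∉ commutator G ∧ (commutator G).index = p ∧
      Nat.card (commutator G) = (normalizer (zpowers x : Set G)).index := by
  have hp : p.Prime := Fact.out
  obtain ⟨P, hP⟩ := exists_sylow_eq hx hC
  have hN : normalizer (zpowers x : Set G) = zpowers x :=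
    le_antisymm (relIndex_eq_one.mp he) le_normalizer
  have hle : normalizer ((P : Subgroup G) : Set G) ≤ centralizer ((P : Subgroup G) : Set G) := by
    rw [hP, hN, zpowers_eq_closure, centralizer_closure]
    rw [← zpowers_eq_closure, hC]
  obtain ⟨K, hK, hKc⟩ : ∃ K : Subgroup G, K.Normal ∧ K.IsComplement' (P : Subgroup G) :=
    ⟨_, inferInstance, MonoidHom.ker_transferSylow_isComplement' P hle⟩
  have hxK : x ∉ K := fun h => hp.ne_one (by
    have hm : x ∈ K ⊓ (P : Subgroup G) := ⟨h, hP ▸ mem_zpowers x⟩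
    rw [hKc.disjoint.eq_bot, mem_bot] at hm
    rw [← hx, hm, orderOf_one])
  have hKi : K.index = p := by
    rw [hKc.symm.index_eq_card, hP, card_zpowers_eq hx]
  have h1 : commutator G ≤ K := by
    rw [← Normal.quotient_commutative_iff_commutator_le]
    have : IsCyclic (G ⧸ K) := isCyclic_of_prime_card (p := p) hKi
    exact IsCyclic.isMulCommutative
  have h2 : K ≤ commutator G :=
    (le_commutator_of_notMem hx hC hxK).trans (commutator_mono le_top le_top)
  obtain rfl := le_antisymm h2 h1
  refine ⟨hxK, hKi, ?_⟩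
  have h3 := (commutator G).card_mul_index
  rw [hKi] at h3
  have h4 := (normalizer (zpowers x : Set G)).card_mul_index
  rw [hN, card_zpowers_eq hx] at h4
  rw [hN]
  rw [← h4, mul_comm p] at h3
  exact Nat.eq_of_mul_eq_mul_right hp.pos h3

theorem pPrimeCore_le_commutator (hx : orderOf x = p)
    (hC : centralizer ({x} : Set G) = zpowers x) :
    Cfsg.pPrimeCore p G ≤ commutator G := by
  have hp : p.Prime := Fact.out
  haveI : (Cfsg.pPrimeCore p G).Normal := Cfsg.pPrimeCore_normal p G
  have hxR : x ∉ Cfsg.pPrimeCore p G := fun h =>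
    CfsgLib.Base.not_dvd_card_pPrimeCore p G ((mem_normal_iff hx hC _).mp h)
  exact (le_commutator_of_notMem hx hC hxR).trans (commutator_mono le_top le_top)

theorem le_pPrimeCore_of_notMem (hx : orderOf x = p)
    (hC : centralizer ({x} : Set G) = zpowers x) (K : Subgroup G) [K.Normal] (hK : x ∉ K) :
    K ≤ Cfsg.pPrimeCore p G :=
  CfsgLib.Base.le_pPrimeCore_of_not_dvd fun h => hK ((mem_normal_iff hx hC K).mpr h)

/-- A normal subgroup of order prime to `p` has order dividing the number of Sylow subgroups. -/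
theorem card_dvd_index_normalizer (hx : orderOf x = p) (hC : centralizer ({x} : Set G) = zpowers x)
    (S : Subgroup G) [S.Normal] (hxS : x ∉ S) :
    S ⊓ normalizer (zpowers x : Set G) = ⊥ ∧
      Nat.card S ∣ (normalizer (zpowers x : Set G)).index := by
  have hinf : S ⊓ normalizer (zpowers x : Set G) = ⊥ := by
    rw [eq_bot_iff]
    rintro s ⟨hs, hsN⟩
    have hbot := inf_zpowers_eq_bot hx S hxS
    have h1 : s * x * s⁻¹ * x⁻¹ ∈ S ⊓ zpowers x := by
      refine ⟨?_, mul_mem ((mem_normalizer_iff.mp hsN x).mp (mem_zpowers x))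
        (Subgroup.inv_mem (zpowers x) (mem_zpowers x))⟩
      rw [mul_assoc, mul_assoc]
      exact S.mul_mem hs (by
        simpa [mul_assoc] using Subgroup.Normal.conj_mem inferInstance _ (S.inv_mem hs) x)
    rw [hbot, mem_bot] at h1
    have h2 : s ∈ S ⊓ zpowers x := ⟨hs, by
      rw [← hC]
      exact mem_centralizer_singleton_iff.mpr (mul_inv_eq_iff_eq_mul.mp (mul_inv_eq_one.mp h1))⟩
    rwa [hbot] at h2
  refine ⟨hinf, ?_⟩
  have h := Subgroup.card_subgroup_dvd_card (S ⊔ normalizer (zpowers x : Set G))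
  rw [sup_card_eq hinf, ← (normalizer (zpowers x : Set G)).index_mul_card] at h
  exact Nat.dvd_of_mul_dvd_mul_right Nat.card_pos h

/-- When `G''` is proper in `G'`, the `p'`-core has a complement `N(⟨x⟩)`. -/
theorem derived_of_ne (hx : orderOf x = p) (hC : centralizer ({x} : Set G) = zpowers x)
    (he : (zpowers x).relIndex (normalizer (zpowers x : Set G)) ≠ 1)
    (hd : derivedSeries G 2 ≠ derivedSeries G 1) :
    Nat.card (derivedSeries G 2) = (normalizer (zpowers x : Set G)).index ∧
      Nat.card (commutator G) = p * (normalizer (zpowers x : Set G)).index := by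
  have h2 : derivedSeries G 2 = ⁅commutator G, commutator G⁆ := by
    rw [derivedSeries_succ, derivedSeries_one]
  rw [derivedSeries_one, h2] at hd
  rw [h2]
  obtain ⟨R, hR⟩ : ∃ R : Subgroup G, R = ⁅commutator G, commutator G⁆ := ⟨_, rfl⟩
  haveI : R.Normal := by rw [hR]; infer_instance
  rw [← hR] at hd ⊢
  have hxG := mem_commutator hx hC he
  have hle : R ≤ commutator G := hR ▸ commutator_le_left _ _
  have hxR : x ∉ R := fun h => hd (le_antisymm hle (normal_of_mem hx hC R h).1)
  have hG' : commutator G = R ⊔ zpowers x := by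
    refine le_antisymm (fun g hg => ?_) (sup_le hle (zpowers_le.mpr hxG))
    refine mem_sup_of_commutator_mem hx hC hxR ?_
    rw [hR]
    exact commutator_mem_commutator hg hxG
  obtain ⟨P, hP⟩ := exists_sylow_eq hx hC
  have htop : R ⊔ normalizer (zpowers x : Set G) = ⊤ := by
    have h := P.normalizer_sup_eq_top' (N := commutator G) (hP ▸ zpowers_le.mpr hxG)
    rw [hG'] at h
    rw [← hP] at h ⊢
    refine eq_top_iff.mpr (h.ge.trans (sup_le le_sup_right (sup_le le_sup_left ?_)))
    exact le_normalizer.trans le_sup_right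
  obtain ⟨hinf, -⟩ := card_dvd_index_normalizer hx hC R hxR
  have h1 := sup_card_eq hinf
  rw [htop, card_top, ← (normalizer (zpowers x : Set G)).index_mul_card] at h1
  have hcard := (Nat.eq_of_mul_eq_mul_right Nat.card_pos h1).symm
  refine ⟨hcard, ?_⟩
  rw [hG', sup_card_eq (inf_zpowers_eq_bot hx R hxR), hcard, card_zpowers_eq hx, mul_comm]

/-- A normal complement of `N(⟨x⟩)` contains `G''`. -/
theorem derived_le_of_complement (hC : centralizer ({x} : Set G) = zpowers x)
    (S : Subgroup G) [S.Normal] (htop : normalizer (zpowers x : Set G) ⊔ S = ⊤) :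
    ⁅commutator G, commutator G⁆ ≤ S := by
  have hle : (commutator G).map (QuotientGroup.mk' S) ≤
      (zpowers x).map (QuotientGroup.mk' S) := by
    have hmap : (⊤ : Subgroup G).map (QuotientGroup.mk' S) =
        (normalizer (zpowers x : Set G)).map (QuotientGroup.mk' S) := by
      rw [← htop, Subgroup.map_sup, (Subgroup.map_eq_bot_iff _).mpr (QuotientGroup.ker_mk' S).ge, sup_bot_eq]
    rw [_root_.commutator_def, map_commutator, hmap, ← map_commutator]
    refine map_mono ?_
    rw [Subgroup.commutator_le]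
    exact fun a ha b hb => commutator_mem_zpowers hC ha hb
  have h2 : ⁅commutator G, commutator G⁆.map (QuotientGroup.mk' S) = ⊥ := by
    rw [map_commutator, eq_bot_iff]
    refine (commutator_mono hle hle).trans ?_
    rw [Subgroup.commutator_le]
    rintro _ ⟨a, ha, rfl⟩ _ ⟨b, hb, rfl⟩
    obtain ⟨i, rfl⟩ := mem_zpowers_iff.mp ha
    obtain ⟨j, rfl⟩ := mem_zpowers_iff.mp hb
    rw [mem_bot, commutatorElement_eq_one_iff_commute]
    exact (((Commute.refl x).zpow_zpow i j).map (QuotientGroup.mk' S))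
  rw [Subgroup.map_eq_bot_iff, QuotientGroup.ker_mk'] at h2
  exact h2

end CfsgLib.BlockOrth
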