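/-
Two-blocks of full defect stable under a map inverting the elements of odd order.
-/
import Cfsg.Agent.Lib.BlockOrth.DefectOrder
import Cfsg.Agent.Lib.Blocks.Degree

set_option autoImplicit false
set_option linter.style.haveILetI false
set_option linter.unusedSectionVars false

namespace CfsgLib.BlockOrth

open Cfsg CfsgLib.Chars CfsgLib.Blocks Finset
open scoped ComplexConjugate

universe u

variable {G : Type u} [Group G] [Fintype G]

theorem centralizer_singleton_inv (g : G) :
    Subgroup.centralizer ({g⁻¹} : Set G) = Subgroup.centralizer ({g} : Set G) := by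
  ext x
  simp only [Subgroup.mem_centralizer_singleton_iff]
  exact Commute.inv_right_iff

theorem isConj_inv_inv {g h : G} (hc : IsConj g h) : IsConj g⁻¹ h⁻¹ := by
  obtain ⟨c, rfl⟩ := isConj_iff.1 hc
  exact isConj_iff.2 ⟨c, by group⟩

/-- A real class of a nontrivial element of odd order has even size. -/
theorem even_index_of_real {g : G} (hg : g ≠ 1) (hodd : Odd (orderOf g)) (hr : IsConj g g⁻¹) :
    Even (Subgroup.centralizer ({g} : Set G)).index := by
  classical
  rw [index_centralizer_eq, Nat.card_eq_fintype_card, Fintype.card_subtype]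
  rw [← ZMod.natCast_eq_zero_iff_even, Finset.card_eq_sum_ones, Nat.cast_sum]
  refine Finset.sum_involution (fun x _ => x⁻¹) (fun x _ => by norm_num; decide) (fun x hx _ hxx => ?_)
    (fun x hx => ?_) (fun x _ => inv_inv x)
  · obtain ⟨c, rfl⟩ := isConj_iff.1 (Finset.mem_filter.1 hx).2
    have h2 : g ^ 2 = 1 := by
      have h3 := congrArg (fun y => c⁻¹ * (y * (c * g * c⁻¹)) * c) hxx
      simp only [inv_mul_cancel, mul_one] at h3
      rw [pow_two]
      calc g * g = c⁻¹ * ((c * g * c⁻¹) * (c * g * c⁻¹)) * c := by group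
        _ = 1 := h3.symm
    have h4 := (Nat.dvd_prime Nat.prime_two).1 (orderOf_dvd_of_pow_eq_one h2)
    rcases h4 with h4 | h4
    · exact hg (orderOf_eq_one_iff.1 h4)
    · rw [h4] at hodd; exact absurd hodd (by decide)
  · simp only [Finset.mem_filter, Finset.mem_univ, true_and] at hx ⊢
    exact hr.trans (isConj_inv_inv hx)

variable {M : Ideal AlgInt} [M.IsPrime]

theorem omega_sub_apply_one (hpM : (2 : AlgInt) ∈ M) (χ : IrrCharacter G)
    (hχ : Odd (charDegree (χ : G → ℂ))) {a : G → ℂ} (ha : IsLocClassFun M a)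
    (ha0 : ∀ g, 2 ∣ orderOf g → a g = 0) (hainv : ∀ g, a g⁻¹ = a g)
    (hω : ∀ g : G, Odd (orderOf g) →
      MemLocalIdeal M (centralChar (χ : G → ℂ) g⁻¹ - centralChar (χ : G → ℂ) g)) :
    MemLocalIdeal M (omega (χ : G → ℂ) a - a 1) := by
  classical
  haveI := Fintype.ofFinite (ConjClasses G)
  haveI : Fact (Nat.Prime 2) := ⟨Nat.prime_two⟩
  have hpM' : ((2 : ℕ) : AlgInt) ∈ M := by exact_mod_cast hpM
  let F : ConjClasses G → loc M := fun C =>
    ⟨a (classRep C) * centralChar (χ : G → ℂ) (classRep C),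
      mul_mem (ha.2 _) (centralChar_mem_loc χ _)⟩
  have hrep : ∀ x : G, IsConj (classRep (ConjClasses.mk x)) x := fun x =>
    ConjClasses.mk_eq_mk_iff_isConj.1 (mk_classRep _)
  have hrep1 : classRep (ConjClasses.mk (1 : G)) = 1 := isConj_one_right.1 (hrep 1).symm
  have hdeg : (charDegree (χ : G → ℂ) : ℂ)⁻¹ ∈ loc M :=
    inv_natCast_mem_loc Nat.prime_two hpM' fun h => Nat.not_even_iff_odd.2 hχ (even_iff_two_dvd.2 h)
  suffices h : red (∑ C ∈ univ.erase (ConjClasses.mk (1 : G)), F C) = 0 by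
    rw [red_eq_zero_iff] at h
    rw [omega_eq_sum_centralChar χ ha.1,
      ← Finset.add_sum_erase _ _ (Finset.mem_univ (ConjClasses.mk (1 : G))), hrep1, centralChar_one,
      mul_one, add_sub_cancel_left]
    simpa [F] using h
  haveI : CharP (IsLocalRing.ResidueField (loc M)) 2 :=
    charP_residueField Nat.prime_two hpM'
  rw [map_sum]
  refine Finset.sum_involution (fun C _ => ConjClasses.mk (classRep C)⁻¹) (fun C hC => ?_)
    (fun C hC hne hfix => ?_) (fun C hC => ?_) (fun C _ => ?_)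
  · have hc := hrep (classRep C)⁻¹
    have heq : red (F (ConjClasses.mk (classRep C)⁻¹)) = red (F C) := by
      rw [← sub_eq_zero, ← map_sub, red_eq_zero_iff]
      show MemLocalIdeal M (a (classRep (ConjClasses.mk (classRep C)⁻¹)) *
          centralChar (χ : G → ℂ) (classRep (ConjClasses.mk (classRep C)⁻¹)) -
        a (classRep C) * centralChar (χ : G → ℂ) (classRep C))
      rw [classFun_of_isConj ha.1 hc, centralChar_of_isConj χ hc, hainv, ← mul_sub]
      by_cases h2 : 2 ∣ orderOf (classRep C)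
      · rw [ha0 _ h2, zero_mul]; exact MemLocalIdeal.zero'
      · exact MemLocalIdeal.mul_left' (ha.2 _)
          (hω _ (Nat.not_even_iff_odd.1 fun h => h2 (even_iff_two_dvd.1 h)))
    rw [heq]
    exact CharTwo.add_self_eq_zero _
  · refine hne (red_eq_zero_iff.2 ?_)
    simp only [F]
    by_cases h2 : 2 ∣ orderOf (classRep C)
    · rw [ha0 _ h2, zero_mul]; exact MemLocalIdeal.zero'
    refine MemLocalIdeal.mul_left' (ha.2 _) ?_
    have hC1 : classRep C ≠ 1 := fun h => (Finset.mem_erase.1 hC).1 (by rw [← mk_classRep C, h])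
    have hreal : IsConj (classRep C) (classRep C)⁻¹ :=
      ConjClasses.mk_eq_mk_iff_isConj.1 ((mk_classRep C).trans hfix.symm)
    obtain ⟨k, hk⟩ := even_index_of_real hC1
      (Nat.not_even_iff_odd.1 fun h => h2 (even_iff_two_dvd.1 h)) hreal
    rw [centralChar, hk, irr_apply_one, div_eq_mul_inv, mul_assoc]
    refine MemLocalIdeal.mul_right' ?_
      (mul_mem (isIntegral_mem_loc (char_isIntegral (isCharacter_of_irr χ.2) _)) hdeg)
    rw [show ((k + k : ℕ) : ℂ) = ((2 : ℕ) : ℂ) * (k : ℂ) by push_cast; ring]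
    exact MemLocalIdeal.mul_right' (memLocalIdeal_prime hpM') (natCast_mem_loc k)
  · refine Finset.mem_erase.2 ⟨fun h => (Finset.mem_erase.1 hC).1 ?_, Finset.mem_univ _⟩
    have h1 := isConj_one_right.1 (ConjClasses.mk_eq_mk_iff_isConj.1 h).symm
    rw [← mk_classRep C, inv_eq_one.1 h1]
  · conv_rhs => rw [← mk_classRep C]
    exact ConjClasses.mk_eq_mk_iff_isConj.2 (by simpa using isConj_inv_inv (hrep (classRep C)⁻¹))

variable {B : Set (IrrCharacter G)}

/-- What stability under a map inverting odd-order elements gives. -/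
theorem symmetric_of_inv_stable (hpM : (2 : AlgInt) ∈ M) (hB : IsPBlock M B) (τ : G → G)
    (hτ : ∀ g : G, Odd (orderOf g) → τ g = g⁻¹) (hsurj : Function.Surjective τ)
    (hstab : ∀ χ ∈ B, ∃ ψ ∈ B, ∀ g : G, (ψ : G → ℂ) g = (χ : G → ℂ) (τ g)) :
    (∀ g, blockCoeff B g⁻¹ = blockCoeff B g) ∧ ∀ χ ∈ B, ∀ g : G, Odd (orderOf g) →
      MemLocalIdeal M (centralChar (χ : G → ℂ) g⁻¹ - centralChar (χ : G → ℂ) g) := by
  classical
  haveI := irrFintype G
  haveI : Fact (Nat.Prime 2) := ⟨Nat.prime_two⟩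
  have hpM' : ((2 : ℕ) : AlgInt) ∈ M := by exact_mod_cast hpM
  have hτ1 : τ 1 = 1 := by rw [hτ 1 (by simp), inv_one]
  choose σ hσ hσv using hstab
  refine ⟨fun g => ?_, fun χ hχ g hg => ?_⟩
  · by_cases h2 : 2 ∣ orderOf g
    · rw [blockCoeff_eq_zero_of_dvd Nat.prime_two hpM' hB h2,
        blockCoeff_eq_zero_of_dvd Nat.prime_two hpM' hB (by rwa [orderOf_inv])]
    have hg : Odd (orderOf g) := Nat.not_even_iff_odd.1 fun h => h2 (even_iff_two_dvd.1 h)
    rw [blockCoeff, blockCoeff, sum_mem_block, sum_mem_block]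
    congr 1
    have hinj : ∀ (χ₁ : IrrCharacter G) (h₁ : χ₁ ∈ univ.filter (· ∈ B)) (χ₂ : IrrCharacter G)
        (h₂ : χ₂ ∈ univ.filter (· ∈ B)),
        σ χ₁ (Finset.mem_filter.1 h₁).2 = σ χ₂ (Finset.mem_filter.1 h₂).2 → χ₁ = χ₂ := by
      intro χ₁ h₁ χ₂ h₂ h
      refine Subtype.ext (funext fun x => ?_)
      obtain ⟨y, rfl⟩ := hsurj x
      rw [← hσv χ₁ (Finset.mem_filter.1 h₁).2, ← hσv χ₂ (Finset.mem_filter.1 h₂).2, h]
    have hmem : ∀ (χ : IrrCharacter G) (h : χ ∈ univ.filter (· ∈ B)),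
        σ χ (Finset.mem_filter.1 h).2 ∈ univ.filter (· ∈ B) := fun χ h =>
      Finset.mem_filter.2 ⟨Finset.mem_univ _, hσ _ _⟩
    refine Finset.sum_bij (fun χ h => σ χ (Finset.mem_filter.1 h).2) hmem hinj (fun ψ hψ => ?_)
      (fun χ h => ?_)
    · exact Finset.surj_on_of_inj_on_of_card_le (fun χ h => σ χ (Finset.mem_filter.1 h).2) hmem
        (fun a b ha hb => hinj a ha b hb) le_rfl ψ hψ |>.imp fun a ⟨ha, e⟩ => ⟨ha, e.symm⟩
    · rw [hσv, hσv, hτ1, hτ g hg]
  · have h := IsPBlock.sameBlock hB (hσ χ hχ) hχ g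
    rwa [centralChar, hσv, hσv, hτ1, hτ g hg, ← centralizer_singleton_inv g] at h

theorem conj_mem_principalBlock {χ : IrrCharacter G} (hχ : χ ∈ principalBlock M G) :
    (⟨_, isIrrCharacter_conj χ.2⟩ : IrrCharacter G) ∈ principalBlock M G := by
  intro g
  have h := hχ g⁻¹
  have e1 : centralChar (fun _ : G => (1 : ℂ)) g⁻¹ = centralChar (fun _ : G => (1 : ℂ)) g := by
    rw [centralChar, centralChar, centralizer_singleton_inv]
  rw [e1] at h
  convert h using 2
  rw [centralChar, centralChar, centralizer_singleton_inv]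
  dsimp only
  rw [← char_inv (isCharacter_of_irr χ.2) g, ← char_inv (isCharacter_of_irr χ.2) 1, inv_one]

theorem principalBlock_stable :
    ∀ χ ∈ principalBlock M G, ∃ ψ ∈ principalBlock M G, ∀ g : G,
      (ψ : G → ℂ) g = (χ : G → ℂ) g⁻¹ := fun χ hχ =>
  ⟨_, conj_mem_principalBlock hχ, fun g => (char_inv (isCharacter_of_irr χ.2) g).symm⟩

/-- A two-block of full defect stable under a map inverting odd-order elements is principal. -/
theorem eq_principalBlock_of_inv_stable (hpM : (2 : AlgInt) ∈ M) (hB : IsPBlock M B)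
    (hdef : blockDefect 2 B = (Nat.card G).factorization 2) (τ : G → G)
    (hτ : ∀ g : G, Odd (orderOf g) → τ g = g⁻¹) (hsurj : Function.Surjective τ)
    (hstab : ∀ χ ∈ B, ∃ ψ ∈ B, ∀ g : G, (ψ : G → ℂ) g = (χ : G → ℂ) (τ g)) :
    B = principalBlock M G := by
  classical
  haveI : Fact (Nat.Prime 2) := ⟨Nat.prime_two⟩
  have hpM' : ((2 : ℕ) : AlgInt) ∈ M := by exact_mod_cast hpM
  obtain ⟨-, hωB⟩ := symmetric_of_inv_stable hpM hB τ hτ hsurj hstab
  have hB0 := isPBlock_principalBlock (G := G) M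
  obtain ⟨ha0, hω0⟩ := symmetric_of_inv_stable hpM hB0 (fun g => g⁻¹) (fun g _ => rfl)
    (fun g => ⟨g⁻¹, inv_inv g⟩) principalBlock_stable
  obtain ⟨χ, hχ, hmin⟩ := exists_degVal_eq_blockMin (p := 2) (IsPBlock.nonempty hB)
  have hmin0 : degVal 2 χ = 0 := by
    have := blockMin_add_blockDefect (p := 2) (IsPBlock.nonempty hB)
    omega
  have hodd : Odd (charDegree (χ : G → ℂ)) := by
    refine Nat.not_even_iff_odd.1 fun h => ?_
    have := Nat.Prime.factorization_pos_of_dvd Nat.prime_two (irr_charDegree_ne_zero χ)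
      (even_iff_two_dvd.1 h)
    rw [degVal] at hmin0
    omega
  have hloc := isLocClassFun_blockCoeff (M := M) hB0
  have hreg : ∀ g : G, 2 ∣ orderOf g → blockCoeff (principalBlock M G) g = 0 := fun g h =>
    blockCoeff_eq_zero_of_dvd Nat.prime_two hpM' hB0 h
  have h1 := omega_sub_apply_one hpM χ hodd hloc hreg ha0 (hωB χ hχ)
  have h2 := omega_sub_apply_one hpM (principal G) (by
      simp [charDegree, principal_apply]) hloc hreg ha0
    (hω0 _ (principal_mem_principalBlock M))
  rw [omega_blockCoeff, if_pos (principal_mem_principalBlock M)] at h2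
  by_contra hne
  rw [omega_blockCoeff, if_neg fun h => hne (IsPBlock.eq_of_mem hB hB0 hχ h)] at h1
  refine not_memLocalIdeal_one (M := M) ?_
  have h3 := MemLocalIdeal.sub' h2 h1
  simpa using h3

/-- A real-valued irreducible character of odd degree lies in the principal two-block. -/
theorem mem_principalBlock_of_real_odd (hpM : (2 : AlgInt) ∈ M) (χ : IrrCharacter G)
    (hreal : ∀ g, ((χ : G → ℂ) g).im = 0) (hodd : Odd (charDegree (χ : G → ℂ))) :
    χ ∈ principalBlock M G := by
  haveI : Fact (Nat.Prime 2) := ⟨Nat.prime_two⟩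
  have hB := isPBlock_blockOf (M := M) χ
  have hχ := mem_blockOf_self (M := M) χ
  have hinv : ∀ g, (χ : G → ℂ) g⁻¹ = (χ : G → ℂ) g := fun g => by
    rw [irr_inv, Complex.conj_eq_iff_im.2 (hreal g)]
  have hdeg0 : degVal 2 χ = 0 :=
    Nat.factorization_eq_zero_of_not_dvd fun h => Nat.not_even_iff_odd.2 hodd (even_iff_two_dvd.2 h)
  have hdef : blockDefect 2 (blockOf M (χ : G → ℂ)) = (Nat.card G).factorization 2 := by
    rw [blockDefect_eq]
    have := blockMin_le (p := 2) hχ
    omega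
  have heq := eq_principalBlock_of_inv_stable hpM hB hdef (fun g => g⁻¹) (fun g _ => rfl)
    (fun g => ⟨g⁻¹, inv_inv g⟩) fun ψ hψ => ?_
  · rwa [heq] at hχ
  refine ⟨⟨_, isIrrCharacter_conj ψ.2⟩, ?_, fun g => (char_inv (isCharacter_of_irr ψ.2) g).symm⟩
  intro g
  have h := hψ g⁻¹
  have e1 : centralChar (χ : G → ℂ) g⁻¹ = centralChar (χ : G → ℂ) g := by
    rw [centralChar, centralChar, centralizer_singleton_inv, hinv]
  rw [e1] at h
  convert h using 2
  rw [centralChar, centralChar, centralizer_singleton_inv]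
  dsimp only
  rw [← char_inv (isCharacter_of_irr ψ.2) g, ← char_inv (isCharacter_of_irr ψ.2) 1, inv_one]

end CfsgLib.BlockOrth
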