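/-
Extensions of odd degree into the principal two-block.
-/
import Cfsg.Agent.Lib.BlockOrth.TwoBlocks
import Cfsg.Agent.Lib.Chars.Quotient

set_option autoImplicit false
set_option linter.style.haveILetI false
set_option linter.unusedSectionVars false

namespace CfsgLib.BlockOrth

open Cfsg CfsgLib.Chars CfsgLib.Blocks Finset
open scoped ComplexConjugate

universe u

variable {G : Type u} [Group G] [Fintype G]

/-- Two extensions of an irreducible character of a normal subgroup differ by a linear character. -/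
theorem exists_linear_of_restrict_eq {N : Subgroup G} [N.Normal] (θ : IrrCharacter N)
    (η ψ : IrrCharacter G) (hη : ∀ n : N, (η : G → ℂ) n = (θ : N → ℂ) n)
    (hψ : ∀ n : N, (ψ : G → ℂ) n = (θ : N → ℂ) n) :
    ∃ lam : G →* ℂˣ, (∀ n : N, lam n = 1) ∧
      ∀ g, (ψ : G → ℂ) g = (lam g : ℂ) * (η : G → ℂ) g := by
  classical
  haveI := irrFintype (G ⧸ N)
  haveI := Fintype.ofFinite N
  have hf : IsCharacter G (fun g => (ψ : G → ℂ) g * conj ((η : G → ℂ) g)) :=
    isCharacter_mul (isCharacter_of_irr ψ.2) (isCharacter_conj (isCharacter_of_irr η.2))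
  have hm : ∀ ξ : IrrCharacter (G ⧸ N), ∃ m : ℕ, classInner
      (fun g => (ψ : G → ℂ) g * conj ((η : G → ℂ) g)) (fun g : G => (ξ : G ⧸ N → ℂ) g) = m :=
    fun ξ => inner_char_nat hf (isCharacter_of_irr (isIrrCharacter_inflate N ξ.2))
  choose m hm using hm
  have hsum : ∑ ξ : IrrCharacter (G ⧸ N), (charDegree (ξ : G ⧸ N → ℂ)) * m ξ = 1 := by
    have hθ := inner_irr_self θ
    rw [inner_def] at hθ
    have hsumN : (∑ g : G, if (g : G ⧸ N) = 1
        then (ψ : G → ℂ) g * conj ((η : G → ℂ) g) else 0) =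
        ∑ n : N, (θ : N → ℂ) n * conj ((θ : N → ℂ) n) := by
      rw [← Finset.sum_filter]
      exact (Finset.sum_subtype (univ.filter fun g : G => (g : G ⧸ N) = 1) (p := fun g => g ∈ N)
        (by simp [QuotientGroup.eq_one_iff]) _).trans
        (Finset.sum_congr rfl fun n _ => by rw [hψ, hη])
    have hcard := Subgroup.card_eq_card_quotient_mul_card_subgroup N
    have key : ((∑ ξ : IrrCharacter (G ⧸ N), charDegree (ξ : G ⧸ N → ℂ) * m ξ : ℕ) : ℂ) = 1 := by
      push_cast
      simp only [← hm, inner_def, Finset.mul_sum]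
      rw [Finset.sum_comm]
      have hpt : ∀ g : G, (∑ ξ : IrrCharacter (G ⧸ N), (charDegree (ξ : G ⧸ N → ℂ) : ℂ) *
          ((Nat.card G : ℂ)⁻¹ * ((ψ : G → ℂ) g * conj ((η : G → ℂ) g) *
            conj ((ξ : G ⧸ N → ℂ) g)))) =
          (Nat.card G : ℂ)⁻¹ * (Nat.card (G ⧸ N) : ℂ) *
            (if (g : G ⧸ N) = 1 then (ψ : G → ℂ) g * conj ((η : G → ℂ) g) else 0) := by
        intro g
        have h := congrArg conj (sum_degree_mul (g : G ⧸ N))
        simp only [map_sum, map_mul, irr_apply_one, map_natCast] at h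
        calc _ = (Nat.card G : ℂ)⁻¹ * ((ψ : G → ℂ) g * conj ((η : G → ℂ) g)) *
              ∑ ξ : IrrCharacter (G ⧸ N), (charDegree (ξ : G ⧸ N → ℂ) : ℂ) *
                conj ((ξ : G ⧸ N → ℂ) g) := by
              rw [Finset.mul_sum]
              exact Finset.sum_congr rfl fun ξ _ => by ring
          _ = _ := by
              rw [h]
              split_ifs <;> simp <;> ring
      rw [Finset.sum_congr rfl fun g _ => hpt g, ← Finset.mul_sum, hsumN, hcard, Nat.cast_mul]
      rw [← hθ]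
      field_simp
    exact_mod_cast key
  obtain ⟨ξ, -, hξ⟩ := Finset.exists_ne_zero_of_sum_ne_zero
    (show ∑ ξ : IrrCharacter (G ⧸ N), charDegree (ξ : G ⧸ N → ℂ) * m ξ ≠ 0 by rw [hsum]; omega)
  have hle := Finset.single_le_sum (f := fun ξ : IrrCharacter (G ⧸ N) => charDegree (ξ : G ⧸ N → ℂ) * m ξ)
    (fun _ _ => Nat.zero_le _) (Finset.mem_univ ξ)
  simp only [hsum] at hle
  have h11 : charDegree (ξ : G ⧸ N → ℂ) * m ξ = 1 := by omega
  obtain ⟨hξ1, hm1⟩ := mul_eq_one.1 h11
  obtain ⟨lamq, hlam⟩ := exists_hom_of_degree_one (isCharacter_of_irr ξ.2)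
    (by rw [irr_apply_one, hξ1, Nat.cast_one])
  refine ⟨lamq.comp (QuotientGroup.mk' N), fun n => ?_, ?_⟩
  · rw [MonoidHom.comp_apply, QuotientGroup.mk'_apply, (QuotientGroup.eq_one_iff _).2 n.2, map_one]
  have hirr := isIrrCharacter_linear_mul (lamq.comp (QuotientGroup.mk' N)) η.2
  have hin : classInner (ψ : G → ℂ)
      (fun g => ((lamq.comp (QuotientGroup.mk' N) g : ℂˣ) : ℂ) * (η : G → ℂ) g) = 1 := by
    have h := hm ξ
    rw [hm1, Nat.cast_one] at h
    rw [← h, inner_def, inner_def]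
    refine congrArg _ (Finset.sum_congr rfl fun g _ => ?_)
    rw [hlam, map_mul]
    show _ = _
    simp only [MonoidHom.comp_apply, QuotientGroup.mk'_apply]
    ring
  intro g
  by_contra hne
  have h0 := inner_irr_ne (χ := ψ) (ψ := ⟨_, hirr⟩)
    (fun he => hne (congrFun (congrArg Subtype.val he) g))
  rw [h0] at hin
  exact zero_ne_one hin

variable {M : Ideal AlgInt} [M.IsPrime]

/-- A linear value of two-power order is congruent to one. -/
theorem memLocalIdeal_sub_one_of_pow_two (hpM : (2 : AlgInt) ∈ M) {z : ℂ} (hz : IsIntegral ℤ z)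
    {s : ℕ} (h : z ^ (2 ^ s) = 1) : MemLocalIdeal M (z - 1) := by
  haveI : Fact (Nat.Prime 2) := ⟨Nat.prime_two⟩
  haveI : CharP (IsLocalRing.ResidueField (loc M)) 2 :=
    charP_residueField Nat.prime_two (by exact_mod_cast hpM)
  have hx : (red (⟨z, isIntegral_mem_loc hz⟩ : loc M)) ^ (2 ^ s) = 1 := by
    rw [← map_pow]
    convert map_one (red (M := M)) using 2
    exact Subtype.ext (by simpa using h)
  have h2 : (red (⟨z, isIntegral_mem_loc hz⟩ : loc M) - 1) ^ (2 ^ s) = 0 := by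
    rw [sub_pow_char_pow, hx, one_pow, sub_self]
  have h3 : red ((⟨z, isIntegral_mem_loc hz⟩ : loc M) - 1) = 0 := by
    rw [map_sub, map_one]
    exact eq_zero_of_pow_eq_zero h2
  exact red_eq_zero_iff.1 h3

/-- An odd-degree character whose central character is congruent to its conjugate lies in the
principal two-block. -/
theorem mem_principalBlock_of_odd_of_symm (hpM : (2 : AlgInt) ∈ M) (χ : IrrCharacter G)
    (hodd : Odd (charDegree (χ : G → ℂ)))
    (hω : ∀ g, MemLocalIdeal M (centralChar (χ : G → ℂ) g⁻¹ - centralChar (χ : G → ℂ) g)) :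
    χ ∈ principalBlock M G := by
  haveI : Fact (Nat.Prime 2) := ⟨Nat.prime_two⟩
  have hB := isPBlock_blockOf (M := M) χ
  have hχ := mem_blockOf_self (M := M) χ
  have hdeg0 : degVal 2 χ = 0 :=
    Nat.factorization_eq_zero_of_not_dvd fun h => Nat.not_even_iff_odd.2 hodd (even_iff_two_dvd.2 h)
  have hdef : blockDefect 2 (blockOf M (χ : G → ℂ)) = (Nat.card G).factorization 2 := by
    rw [blockDefect_eq]
    have := blockMin_le (p := 2) hχ
    omega
  have heq := eq_principalBlock_of_inv_stable hpM hB hdef (fun g => g⁻¹) (fun g _ => rfl)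
    (fun g => ⟨g⁻¹, inv_inv g⟩) fun ψ hψ => ?_
  · rwa [heq] at hχ
  refine ⟨⟨_, isIrrCharacter_conj ψ.2⟩, ?_, fun g => (char_inv (isCharacter_of_irr ψ.2) g).symm⟩
  intro g
  have h := MemLocalIdeal.add' (MemLocalIdeal.neg' (hω g)) (hψ g⁻¹)
  convert h using 1
  simp only [centralChar, centralizer_singleton_inv]
  rw [← char_inv (isCharacter_of_irr ψ.2) g, ← char_inv (isCharacter_of_irr ψ.2) 1, inv_one]
  ring

/-- Some extension of a real odd-degree character lies in the principal two-block. -/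
theorem exists_extension_mem_principalBlock (hpM : (2 : AlgInt) ∈ M) {N : Subgroup G} [N.Normal]
    (θ : IrrCharacter N) (hreal : ∀ n : N, ((θ : N → ℂ) n).im = 0)
    (hodd : Odd (charDegree (θ : N → ℂ))) (η : IrrCharacter G)
    (hη : ∀ n : N, (η : G → ℂ) n = (θ : N → ℂ) n) :
    ∃ η' : IrrCharacter G, (∀ n : N, (η' : G → ℂ) n = (θ : N → ℂ) n) ∧
      η' ∈ principalBlock M G := by
  obtain ⟨lam, hlamN, hlam⟩ := exists_linear_of_restrict_eq θ η ⟨_, isIrrCharacter_conj η.2⟩ hη
    (fun n => by show conj _ = _; rw [hη n]; exact Complex.conj_eq_iff_im.2 (hreal n))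
  replace hlam : ∀ g, conj ((η : G → ℂ) g) = (lam g : ℂ) * (η : G → ℂ) g := hlam
  set s := (Nat.card G).factorization 2
  set t := Nat.card G / 2 ^ s with ht
  obtain ⟨k, hk⟩ : Odd t := Nat.not_even_iff_odd.1 fun h =>
    Nat.not_dvd_ordCompl Nat.prime_two Nat.card_pos.ne' (even_iff_two_dvd.1 h)
  have hcard : t * 2 ^ s = Nat.card G := by
    rw [ht, mul_comm]; exact Nat.ordProj_mul_ordCompl_eq_self _ _
  set η' : IrrCharacter G := ⟨_, isIrrCharacter_linear_mul (lam ^ (k + 1)) η.2⟩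
  have hN : ∀ n : N, (η' : G → ℂ) n = (θ : N → ℂ) n := fun n => by
    show ((lam ^ (k + 1)) (n : G) : ℂ) * _ = _
    rw [MonoidHom.pow_apply, hlamN, one_pow, Units.val_one, one_mul, hη]
  refine ⟨η', hN, mem_principalBlock_of_odd_of_symm hpM η' ?_ fun g => ?_⟩
  · have h1 : charDegree (η' : G → ℂ) = charDegree (θ : N → ℂ) := by
      have h := hN 1
      rw [OneMemClass.coe_one] at h
      rw [charDegree, charDegree, h]
    rwa [h1]
  have hnu : ((lam g ^ t)⁻¹) ^ (2 ^ s) = 1 := by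
    rw [inv_pow, ← pow_mul, hcard, ← map_pow, pow_card_eq_one', map_one, inv_one]
  have hval : (η' : G → ℂ) g⁻¹ = (((lam g ^ t)⁻¹ : ℂˣ) : ℂ) * (η' : G → ℂ) g := by
    show ((lam ^ (k + 1)) g⁻¹ : ℂ) * (η : G → ℂ) g⁻¹ =
      (((lam g ^ t)⁻¹ : ℂˣ) : ℂ) * (((lam ^ (k + 1)) g : ℂ) * (η : G → ℂ) g)
    rw [irr_inv, hlam g, ← mul_assoc, ← mul_assoc, ← Units.val_mul, ← Units.val_mul]
    congr 2
    rw [MonoidHom.pow_apply, MonoidHom.pow_apply, map_inv, hk]
    rw [eq_inv_mul_iff_mul_eq, inv_pow, mul_comm (lam g ^ (k + 1))⁻¹ (lam g), ← mul_assoc,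
      ← pow_succ, mul_inv_eq_iff_eq_mul, ← pow_add]
    congr 1
    omega
  have hcc : centralChar (η' : G → ℂ) g⁻¹ - centralChar (η' : G → ℂ) g =
      ((((lam g ^ t)⁻¹ : ℂˣ) : ℂ) - 1) * centralChar (η' : G → ℂ) g := by
    rw [centralChar, centralChar, centralizer_singleton_inv, hval]
    ring
  rw [hcc]
  refine MemLocalIdeal.mul_right' (memLocalIdeal_sub_one_of_pow_two hpM ?_ (s := s) ?_)
    (centralChar_mem_loc η' g)
  · exact IsIntegral.of_pow (n := 2 ^ s) (pow_pos (by norm_num) s) (by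
      rw [← Units.val_pow_eq_pow_val, hnu, Units.val_one]; exact isIntegral_one)
  · rw [← Units.val_pow_eq_pow_val, hnu, Units.val_one]

end CfsgLib.BlockOrth
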